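import Groth.Prelude.Def_W4c1extbt610Disp
import Mathlib.RingTheory.WittVector.InitTail
import Mathlib.RingTheory.WittVector.Teichmuller
import Mathlib.RingTheory.WittVector.Truncated
import Mathlib.RingTheory.Nilpotent.Lemmas
import Mathlib.Algebra.TrivSqZeroExt.Basic
import Mathlib.RingTheory.Ideal.Quotient.Operations
import Mathlib.RingTheory.Jacobson.Ideal

/-!
# Witt vectors for displays: `W(𝔟)`, the Frobenius on it, and the shift
-/

open WittVector

universe u v

namespace Groth.Agent.Lib.Disp.Witt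

noncomputable section

variable {p : ℕ} [hp : Fact p.Prime] {R : Type u} [CommRing R] {S : Type v} [CommRing S]

theorem map_frobenius (f : R →+* S) (x : WittVector p R) :
    WittVector.map f (WittVector.frobenius x) = WittVector.frobenius (WittVector.map f x) := by
  ext n
  rw [map_coeff, coeff_frobenius, coeff_frobenius, MvPolynomial.map_aeval,
    MvPolynomial.aeval_def]
  exact congrArg (fun g => MvPolynomial.eval₂Hom g _ _) (RingHom.ext_int _ _)

theorem map_frobenius_iterate (f : R →+* S) (k : ℕ) (x : WittVector p R) :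
    WittVector.map f ((⇑WittVector.frobenius)^[k] x) = (⇑WittVector.frobenius)^[k] (WittVector.map f x) := by
  induction k with
  | zero => rfl
  | succ k ih => rw [Function.iterate_succ_apply', Function.iterate_succ_apply', map_frobenius, ih]

theorem ghostMap_injective_rat {Q : Type*} [CommRing Q] [Algebra ℚ Q] :
    Function.Injective (ghostMap : WittVector p Q → ℕ → Q) := by
  have : Invertible (p : Q) :=
    (((Nat.cast_ne_zero (R := ℚ)).2 hp.out.ne_zero).isUnit.map (algebraMap ℚ Q)).invertible.copy _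
      (map_natCast (algebraMap ℚ Q) p).symm
  exact (ghostMap.bijective_of_invertible p Q).1

theorem frobenius_teichmuller (a : R) : WittVector.frobenius (teichmuller p a) = teichmuller p (a ^ p) := by
  suffices h : WittVector.frobenius (teichmuller p (MvPolynomial.X () : MvPolynomial Unit ℤ)) =
      teichmuller p (MvPolynomial.X () ^ p : MvPolynomial Unit ℤ) by
    have h2 := congrArg (WittVector.map (MvPolynomial.eval₂Hom (Int.castRingHom R) fun _ => a)) h
    rw [map_frobenius, map_teichmuller, map_teichmuller] at h2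
    simpa using h2
  refine map_injective (MvPolynomial.map (Int.castRingHom ℚ))
    (MvPolynomial.map_injective _ Int.cast_injective) (ghostMap_injective_rat ?_)
  funext n
  rw [map_frobenius, map_teichmuller, map_teichmuller, ghostMap_apply, ghostMap_apply,
    ghostComponent_frobenius, ghostComponent_teichmuller, ghostComponent_teichmuller, map_pow,
    ← pow_mul, ← pow_succ']

/-- Forgetting the zeroth component. -/
def shift (x : WittVector p R) : WittVector p R := WittVector.mk p fun n => x.coeff (n + 1)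

@[simp] theorem coeff_shift (x : WittVector p R) (n : ℕ) : (shift x).coeff n = x.coeff (n + 1) := rfl

theorem coeff_teich_add_verschiebung (a : R) (z : WittVector p R) (n : ℕ) :
    (teichmuller p a + verschiebung z).coeff n = (teichmuller p a).coeff n + (verschiebung z).coeff n := by
  refine coeff_add_of_disjoint _ _ _ fun i => ?_
  rcases i with _ | i
  · exact Or.inr (verschiebung_coeff_zero z)
  · exact Or.inl (teichmuller_coeff_pos p a _ i.succ_pos)

theorem eq_teich_add (x : WittVector p R) :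
    x = teichmuller p (x.coeff 0) + verschiebung (shift x) := by
  ext n
  rw [coeff_teich_add_verschiebung]
  rcases n with _ | n
  · rw [teichmuller_coeff_zero, verschiebung_coeff_zero, add_zero]
  · rw [teichmuller_coeff_pos p _ _ n.succ_pos, verschiebung_coeff_add_one, zero_add, coeff_shift]

theorem shift_teich_add (a : R) (z : WittVector p R) :
    shift (teichmuller p a + verschiebung z) = z := by
  ext n
  rw [coeff_shift, coeff_teich_add_verschiebung, teichmuller_coeff_pos p _ _ n.succ_pos,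
    verschiebung_coeff_add_one, zero_add]

theorem shift_verschiebung (z : WittVector p R) : shift (verschiebung z) = z := by
  ext n; rw [coeff_shift, verschiebung_coeff_add_one]

theorem eq_verschiebung {x : WittVector p R} (h : x.coeff 0 = 0) : x = verschiebung (shift x) := by
  conv_lhs => rw [eq_teich_add x, h, teichmuller_zero, zero_add]

theorem map_shift (f : R →+* S) (x : WittVector p R) :
    WittVector.map f (shift x) = shift (WittVector.map f x) := by
  ext n; simp

theorem IV_eq_ker : W4c1extbt610.IV p R = RingHom.ker (constantCoeff : WittVector p R →+* R) := by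
  refine le_antisymm (Ideal.span_le.2 ?_) fun x hx => ?_
  · rintro _ ⟨w, rfl⟩
    exact RingHom.mem_ker.2 (verschiebung_coeff_zero w)
  · rw [eq_verschiebung (show x.coeff 0 = 0 from RingHom.mem_ker.1 hx)]
    exact W4c1extbt610.verschiebung_mem_IV p R _

theorem mem_IV {x : WittVector p R} : x ∈ W4c1extbt610.IV p R ↔ x.coeff 0 = 0 := by
  rw [IV_eq_ker, RingHom.mem_ker]; rfl

theorem exists_eq_verschiebung {x : WittVector p R} (h : x ∈ W4c1extbt610.IV p R) :
    ∃ a, x = verschiebung a := ⟨_, eq_verschiebung (mem_IV.1 h)⟩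

theorem mul_verschiebung (w a : WittVector p R) :
    w * verschiebung a = verschiebung (WittVector.frobenius w * a) := by
  rw [mul_comm (WittVector.frobenius w), verschiebung_mul_frobenius, mul_comm]

theorem p_dvd_frobenius {x : WittVector p R}
    (h : x ∈ W4c1extbt610.IV p R ⊔ Ideal.span {(p : WittVector p R)}) :
    WittVector.frobenius x ∈ Ideal.span {(p : WittVector p R)} := by
  obtain ⟨a, ha, b, hb, rfl⟩ := Submodule.mem_sup.1 h
  obtain ⟨a, rfl⟩ := exists_eq_verschiebung ha
  obtain ⟨c, rfl⟩ := Ideal.mem_span_singleton'.1 hb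
  rw [map_add, map_mul, map_natCast, frobenius_verschiebung]
  exact Ideal.add_mem _ (Ideal.mem_span_singleton'.2 ⟨a, rfl⟩) (Ideal.mem_span_singleton'.2 ⟨_, rfl⟩)

theorem p_dvd_frobenius_pow {x : WittVector p R}
    (h : x ∈ W4c1extbt610.IV p R ⊔ Ideal.span {(p : WittVector p R)}) {k : ℕ} (hk : 0 < k) :
    (WittVector.frobenius ^ k : WittVector p R →+* WittVector p R) x ∈ Ideal.span {(p : WittVector p R)} := by
  obtain ⟨j, rfl⟩ : ∃ j, k = j + 1 := ⟨k - 1, by omega⟩
  obtain ⟨c, hc⟩ := Ideal.mem_span_singleton'.1 (p_dvd_frobenius h)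
  rw [pow_succ]
  change (WittVector.frobenius ^ j : WittVector p R →+* WittVector p R) (WittVector.frobenius x) ∈ _
  rw [← hc, map_mul, map_natCast]
  exact Ideal.mem_span_singleton'.2 ⟨_, rfl⟩

/-! ### `W(𝔟)` -/

/-- The Witt vectors with all components in `𝔟`. -/
def WI (𝔟 : Ideal R) : Ideal (WittVector p R) :=
  RingHom.ker (WittVector.map (p := p) (Ideal.Quotient.mk 𝔟))

theorem mem_WI {𝔟 : Ideal R} {x : WittVector p R} : x ∈ WI 𝔟 ↔ ∀ n, x.coeff n ∈ 𝔟 := by
  simp [WI, RingHom.mem_ker, WittVector.ext_iff, Ideal.Quotient.eq_zero_iff_mem]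

theorem WI_mono {𝔟 𝔠 : Ideal R} (h : 𝔟 ≤ 𝔠) : WI (p := p) 𝔟 ≤ WI 𝔠 :=
  fun _ hx => mem_WI.2 fun n => h (mem_WI.1 hx n)

theorem WI_bot : WI (p := p) (⊥ : Ideal R) = ⊥ := by
  refine eq_bot_iff.2 fun x hx => ?_
  rw [Submodule.mem_bot]
  ext n
  simpa using mem_WI.1 hx n

theorem ker_map_eq (φ : R →+* S) :
    RingHom.ker (WittVector.map (p := p) φ) = WI (RingHom.ker φ) := by
  ext x
  simp [RingHom.mem_ker, WittVector.ext_iff, mem_WI]

theorem shift_mem_WI {𝔟 : Ideal R} {x : WittVector p R} (hx : x ∈ WI 𝔟) : shift x ∈ WI 𝔟 :=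
  mem_WI.2 fun n => by rw [coeff_shift]; exact mem_WI.1 hx _

theorem aux_mem {𝔟 : Ideal R} (g : ℕ → R) (hg : ∀ i, g i ∈ 𝔟) (n : ℕ) :
    MvPolynomial.aeval g (frobeniusPolyAux p n) ∈ 𝔟 := by
  have hc : MvPolynomial.constantCoeff (frobeniusPolyAux p n) = 0 := by
    have h := coeff_frobenius (0 : WittVector p ℤ) n
    rw [map_zero, zero_coeff, frobeniusPoly, map_add, map_pow, map_mul, MvPolynomial.aeval_C,
      MvPolynomial.aeval_X, show (0 : WittVector p ℤ).coeff = fun _ => 0 from funext fun i => zero_coeff p ℤ i,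
      zero_pow hp.out.ne_zero, zero_add] at h
    rw [← Pi.zero_def, MvPolynomial.aeval_zero] at h
    rcases mul_eq_zero.1 h.symm with h1 | h1
    · exact absurd (by simpa using h1) hp.out.ne_zero
    · simpa using h1
  rw [← Ideal.Quotient.eq_zero_iff_mem, MvPolynomial.map_aeval]
  have h0 : (fun i => Ideal.Quotient.mk 𝔟 (g i)) = fun _ => 0 :=
    funext fun i => Ideal.Quotient.eq_zero_iff_mem.2 (hg i)
  simp only [h0]
  rw [MvPolynomial.eval₂Hom_zero'_apply, hc, map_zero]

theorem coeff_frobenius_eq (x : WittVector p R) (n : ℕ) :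
    (WittVector.frobenius x).coeff n = x.coeff n ^ p + p * MvPolynomial.aeval x.coeff (frobeniusPolyAux p n) := by
  rw [coeff_frobenius, frobeniusPoly, map_add, map_pow, map_mul, MvPolynomial.aeval_C,
    MvPolynomial.aeval_X]
  simp

theorem frobenius_mem_WI {𝔟 𝔠 : Ideal R} (h1 : ∀ a ∈ 𝔟, a ^ p ∈ 𝔠) (h2 : ∀ a ∈ 𝔟, (p : R) * a ∈ 𝔠)
    {x : WittVector p R} (hx : x ∈ WI 𝔟) : WittVector.frobenius x ∈ WI 𝔠 := by
  refine mem_WI.2 fun n => ?_
  rw [coeff_frobenius_eq]
  exact Ideal.add_mem _ (h1 _ (mem_WI.1 hx n)) (h2 _ (aux_mem _ (mem_WI.1 hx) n))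

/-- A power of the Frobenius kills `W(𝔟)` if `p` is nilpotent and `𝔟` is nil of bounded exponent. -/
theorem exists_frobenius_pow_eq_zero (hpn : IsNilpotent (p : R)) (𝔟 : Ideal R) (N : ℕ)
    (hN : ∀ a ∈ 𝔟, a ^ N = 0) :
    ∃ M, ∀ x ∈ WI (p := p) 𝔟, (⇑WittVector.frobenius)^[M] x = 0 := by
  obtain ⟨e, he⟩ := hpn
  have hmodp : ∀ (k : ℕ) (x : WittVector p R) (n : ℕ),
      ((⇑WittVector.frobenius)^[k] x).coeff n - x.coeff n ^ p ^ k ∈ Ideal.span {(p : R)} := by
    intro k
    induction k with
    | zero => intro x n; simp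
    | succ k ih =>
      intro x n
      rw [Function.iterate_succ_apply', coeff_frobenius_eq, pow_succ, pow_mul, add_sub_right_comm]
      exact Ideal.add_mem _ (Ideal.mem_span_singleton.2
        ((Ideal.mem_span_singleton.1 (ih x n)).trans (sub_dvd_pow_sub_pow _ _ p)))
        (Ideal.mul_mem_right _ _ (Ideal.mem_span_singleton_self _))
  have hgrow : ∀ i x, x ∈ WI (Ideal.span {(p : R) ^ (i + 1)}) →
      ∀ j, (⇑WittVector.frobenius)^[j] x ∈ WI (p := p) (Ideal.span {(p : R) ^ (i + 1 + j)}) := by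
    intro i x hx j
    induction j with
    | zero => exact hx
    | succ j ih =>
      rw [Function.iterate_succ_apply']
      refine frobenius_mem_WI (fun a ha => ?_) (fun a ha => ?_) ih
      all_goals obtain ⟨c, rfl⟩ := Ideal.mem_span_singleton'.1 ha
      all_goals refine Ideal.mem_span_singleton.2 ?_
      · rw [mul_pow, ← pow_mul]
        refine Dvd.dvd.mul_left (pow_dvd_pow _ ?_) _
        calc i + 1 + (j + 1) ≤ (i + 1 + j) * 2 := by omega
          _ ≤ (i + 1 + j) * p := Nat.mul_le_mul_left _ hp.out.two_le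
      · exact ⟨c, by rw [show i + 1 + (j + 1) = i + 1 + j + 1 by ring, pow_succ]; ring⟩
  refine ⟨e + N, fun x hx => ?_⟩
  have h1 : (⇑WittVector.frobenius)^[N] x ∈ WI (p := p) (Ideal.span {(p : R) ^ (0 + 1)}) := by
    refine mem_WI.2 fun n => ?_
    have h0 : x.coeff n ^ p ^ N = 0 :=
      pow_eq_zero_of_le (Nat.lt_pow_self hp.out.one_lt).le (hN _ (mem_WI.1 hx n))
    simpa [h0] using hmodp N x n
  have h2 := hgrow 0 _ h1 e
  rw [← Function.iterate_add_apply, show Ideal.span {(p : R) ^ (0 + 1 + e)} = ⊥ by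
    rw [Ideal.span_singleton_eq_bot, pow_add, he, mul_zero], WI_bot] at h2
  exact h2

/-! ### The shift modulo `W(𝔟²)` -/

theorem teichmuller_add_of_sq_zero {a b : R} (ha : a * a = 0) (hb : b * b = 0) (hab : a * b = 0) :
    teichmuller p a + teichmuller p b = teichmuller p (a + b) := by
  let ι : TrivSqZeroExt ℤ (Fin 2 → ℤ) →ₐ[ℤ] TrivSqZeroExt ℚ (Fin 2 → ℚ) :=
    TrivSqZeroExt.lift (Algebra.ofId ℤ _)
      { toFun := fun m => TrivSqZeroExt.inr fun i => (m i : ℚ)
        map_add' := fun m m' => by rw [← TrivSqZeroExt.inr_add]; congr 1; funext i; simp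
        map_smul' := fun c m => by
          ext i
          · simp
          · simp }
      (fun m m' => TrivSqZeroExt.inr_mul_inr _ _ _)
      (fun r m => by ext i <;> simp) (fun r m => by ext i <;> simp [mul_comm])
  have hι : Function.Injective ι := by
    intro x y h
    have hx : ∀ z, ι z = TrivSqZeroExt.inl (z.fst : ℚ) + TrivSqZeroExt.inr fun i => (z.snd i : ℚ) :=
      fun z => by
        rw [TrivSqZeroExt.lift_def]
        rfl
    rw [hx, hx] at h
    have h1 := congrArg TrivSqZeroExt.fst h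
    have h2 := congrArg TrivSqZeroExt.snd h
    simp only [TrivSqZeroExt.fst_add, TrivSqZeroExt.fst_inl, TrivSqZeroExt.fst_inr, add_zero,
      TrivSqZeroExt.snd_add, TrivSqZeroExt.snd_inl, TrivSqZeroExt.snd_inr, zero_add,
      Int.cast_inj] at h1 h2
    exact TrivSqZeroExt.ext h1 (funext fun i => Int.cast_injective (congrFun h2 i))
  let A : TrivSqZeroExt ℤ (Fin 2 → ℤ) := TrivSqZeroExt.inr (Pi.single 0 1)
  let B : TrivSqZeroExt ℤ (Fin 2 → ℤ) := TrivSqZeroExt.inr (Pi.single 1 1)
  have key : teichmuller p A + teichmuller p B = teichmuller p (A + B) := by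
    refine map_injective ι.toRingHom hι (ghostMap_injective_rat ?_)
    funext n
    simp only [map_add, map_teichmuller, Pi.add_apply, ghostMap_apply, ghostComponent_teichmuller]
    rcases n with _ | n
    · simp
    · have hsq : ∀ z : TrivSqZeroExt ℤ (Fin 2 → ℤ), z.fst = 0 →
          ι.toRingHom z ^ p ^ (n + 1) = 0 := fun z hz => by
        have h2 : z ^ 2 = 0 := by
          rw [sq, ← TrivSqZeroExt.inl_fst_add_inr_snd_eq z, hz, TrivSqZeroExt.inl_zero, zero_add,
            TrivSqZeroExt.inr_mul_inr]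
        rw [← map_pow, pow_eq_zero_of_le (by
          calc 2 ≤ p := hp.out.two_le
            _ ≤ p ^ (n + 1) := Nat.le_self_pow n.succ_ne_zero p) h2, map_zero]
      rw [← map_add, hsq A rfl, hsq B rfl, hsq (A + B) (by simp [A, B]), add_zero]
  let v : (Fin 2 → ℤ) →ₗ[ℤ] R :=
    Fintype.linearCombination ℤ (![a, b] : Fin 2 → R)
  let e : TrivSqZeroExt ℤ (Fin 2 → ℤ) →ₐ[ℤ] R :=
    TrivSqZeroExt.lift (Algebra.ofId ℤ R) v
      (fun m m' => by
        simp only [v, Fintype.linearCombination_apply, Fin.sum_univ_two, Matrix.cons_val_zero,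
          Matrix.cons_val_one, zsmul_eq_mul]
        linear_combination ((m 0 : R) * m' 0) * ha + ((m 1 : R) * m' 1) * hb +
          ((m 0 : R) * m' 1 + (m 1 : R) * m' 0) * hab)
      (fun r m => by simp [v, Fintype.linearCombination_apply, mul_smul, mul_add, mul_comm, mul_left_comm])
      (fun r m => by simp [v, Fintype.linearCombination_apply, mul_smul, mul_add, mul_comm, mul_left_comm])
  have h := congrArg (WittVector.map e.toRingHom) key
  rw [map_add, map_teichmuller, map_teichmuller, map_teichmuller, map_add] at h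
  simpa [e, v, A, B, Fintype.linearCombination_apply, Fin.sum_univ_two] using h

theorem shift_add_congr {𝔟 : Ideal R} {x y : WittVector p R} (hx : x ∈ WI 𝔟) (hy : y ∈ WI 𝔟) :
    shift (x + y) - (shift x + shift y) ∈ WI (p := p) (𝔟 ^ 2) := by
  let q := Ideal.Quotient.mk (𝔟 ^ 2)
  have hsq : ∀ c ∈ 𝔟, ∀ d ∈ 𝔟, q c * q d = 0 := fun c hc d hd => by
    rw [← map_mul, Ideal.Quotient.eq_zero_iff_mem, sq]
    exact Ideal.mul_mem_mul hc hd
  rw [WI, RingHom.mem_ker, map_sub, map_add, map_shift, map_shift, map_shift, map_add, sub_eq_zero]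
  conv_lhs => rw [eq_teich_add (WittVector.map q x), eq_teich_add (WittVector.map q y),
    add_add_add_comm, ← map_add verschiebung,
    teichmuller_add_of_sq_zero (by rw [map_coeff]; exact hsq _ (mem_WI.1 hx 0) _ (mem_WI.1 hx 0))
      (by rw [map_coeff]; exact hsq _ (mem_WI.1 hy 0) _ (mem_WI.1 hy 0))
      (by rw [map_coeff, map_coeff]; exact hsq _ (mem_WI.1 hx 0) _ (mem_WI.1 hy 0)),
    shift_teich_add]

theorem shift_mul_congr {𝔟 : Ideal R} (w : WittVector p R) {x : WittVector p R} (hx : x ∈ WI 𝔟) :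
    shift (w * x) - WittVector.frobenius w * shift x ∈ WI (p := p) (𝔟 ^ 2) := by
  let q := Ideal.Quotient.mk (𝔟 ^ 2)
  rw [WI, RingHom.mem_ker, map_sub, map_mul, map_frobenius, map_shift, map_shift, map_mul,
    sub_eq_zero]
  have ha : (WittVector.map q x).coeff 0 ^ p = 0 := by
    rw [map_coeff, ← map_pow, Ideal.Quotient.eq_zero_iff_mem]
    exact Ideal.pow_le_pow_right hp.out.two_le (Ideal.pow_mem_pow (mem_WI.1 hx 0) p)
  generalize hX : WittVector.map q x = X at ha
  generalize WittVector.map q w = W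
  have : W * X = teichmuller p (W.coeff 0 * X.coeff 0) + verschiebung (WittVector.frobenius W * shift X) := by
    conv_lhs => rw [eq_teich_add X, mul_add, mul_verschiebung]
    congr 1
    conv_lhs => rw [eq_teich_add W, add_mul, mul_comm (verschiebung _), mul_verschiebung,
      frobenius_teichmuller, ha, teichmuller_zero, zero_mul, map_zero, add_zero, ← map_mul]
  rw [this, shift_teich_add]

/-! ### Consequences of the nilpotence of `p` -/

theorem mem_ker_truncate_iff {n : ℕ} {x : WittVector p R} :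
    x ∈ RingHom.ker (truncate (p := p) (R := R) n) ↔ ∀ i < n, x.coeff i = 0 := mem_ker_truncate n x

theorem exists_pow_p_mem_ker_truncate (hpn : IsNilpotent (p : R)) (n : ℕ) :
    ∃ m : ℕ, ((p : WittVector p R) ^ m) ∈ RingHom.ker (truncate (p := p) (R := R) n) := by
  obtain ⟨e, he⟩ := hpn
  refine ⟨e * n, ?_⟩
  induction n with
  | zero => exact mem_ker_truncate_iff.2 fun i hi => absurd hi (Nat.not_lt_zero i)
  | succ n ih =>
    obtain ⟨z, hz⟩ : ∃ z, (p : WittVector p R) ^ (e * n) = (⇑verschiebung)^[n] z := by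
      refine ⟨WittVector.mk p fun i => ((p : WittVector p R) ^ (e * n)).coeff (i + n), ?_⟩
      ext i
      rcases lt_or_ge i n with hi | hi
      · rw [iterate_verschiebung_coeff_eq_zero _ hi, mem_ker_truncate_iff.1 ih i hi]
      · obtain ⟨j, rfl⟩ : ∃ j, i = j + n := ⟨i - n, by omega⟩
        rw [iterate_verschiebung_coeff, coeff_mk]
    refine mem_ker_truncate_iff.2 fun i hi => ?_
    rw [mul_add, mul_one, pow_add, mul_comm, hz, ← Nat.cast_pow, ← nsmul_eq_mul,
      show ∀ (n : ℕ) (c : ℕ), c • (⇑verschiebung)^[n] z = (⇑verschiebung)^[n] (c • z) from fun n c => by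
        induction n with
        | zero => rfl
        | succ n ih => rw [Function.iterate_succ_apply', Function.iterate_succ_apply', ← map_nsmul, ih]]
    rcases Nat.lt_succ_iff_lt_or_eq.1 hi with hi | hi
    · exact iterate_verschiebung_coeff_eq_zero _ hi
    · subst hi
      have h0 := iterate_verschiebung_coeff ((p ^ e : ℕ) • z) i 0
      rw [zero_add] at h0
      rw [h0]
      change constantCoeff ((p ^ e : ℕ) • z) = 0
      rw [nsmul_eq_mul, map_mul, map_natCast, Nat.cast_pow, he, zero_mul]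

theorem verschiebung_pow (a : WittVector p R) : ∀ j : ℕ,
    verschiebung a ^ (j + 1) = (p : WittVector p R) ^ j * verschiebung (a ^ (j + 1))
  | 0 => by simp
  | j + 1 => by
    rw [pow_succ, verschiebung_pow a j, mul_assoc, mul_comm (verschiebung (a ^ (j + 1))),
      mul_verschiebung, WittVector.frobenius_verschiebung, mul_comm a, mul_assoc, ← nsmul_eq_mul,
      map_nsmul, nsmul_eq_mul, ← mul_assoc, ← pow_succ, ← pow_succ']

theorem exists_forall_pow_mem_ker (hpn : IsNilpotent (p : R)) (n : ℕ) :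
    ∃ m : ℕ, ∀ (a : WittVector p R) (j : ℕ), m ≤ j →
      verschiebung a ^ j ∈ RingHom.ker (truncate (p := p) (R := R) n) := by
  obtain ⟨m, hm⟩ := exists_pow_p_mem_ker_truncate (p := p) hpn n
  refine ⟨m + 1, fun a j hj => ?_⟩
  obtain ⟨i, rfl⟩ : ∃ i, j = i + 1 := ⟨j - 1, by omega⟩
  rw [verschiebung_pow, show i = (i - m) + m by omega, pow_add, mul_assoc]
  exact Ideal.mul_mem_left _ _ (Ideal.mul_mem_right _ _ hm)

theorem eq_zero_of_forall_dvd (hpn : IsNilpotent (p : R)) {x : WittVector p R}
    (h : ∀ m : ℕ, (p : WittVector p R) ^ m ∣ x) : x = 0 := by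
  ext n
  obtain ⟨m, hm⟩ := exists_pow_p_mem_ker_truncate (p := p) hpn (n + 1)
  obtain ⟨c, rfl⟩ := h m
  rw [(mem_ker_truncate (n + 1) _).1 (Ideal.mul_mem_right c _ hm) n n.lt_succ_self, zero_coeff]

theorem eq_of_truncate_eq {x y : WittVector p R}
    (h : ∀ n, truncate (p := p) n x = truncate n y) : x = y := by
  ext i
  have h1 := congrArg (TruncatedWittVector.coeff ⟨i, i.lt_succ_self⟩) (h (i + 1))
  rwa [coeff_truncate, coeff_truncate] at h1

theorem isUnit_one_sub_verschiebung (hpn : IsNilpotent (p : R)) (a : WittVector p R) :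
    IsUnit (1 - verschiebung a) := by
  choose m hm using exists_forall_pow_mem_ker (p := p) hpn
  let g : ℕ → WittVector p R := fun n => ∑ i ∈ Finset.range n, verschiebung a ^ i
  have hle : ∀ n j, m n ≤ j → truncate (p := p) n (g j) = truncate n (g (m n)) := by
    intro n j hj
    rw [← sub_eq_zero, ← map_sub]
    simp only [g]
    rw [← Finset.sum_range_add_sum_Ico _ hj, add_sub_cancel_left]
    exact RingHom.mem_ker.1 (Ideal.sum_mem _ fun i hi => hm n a i (Finset.mem_Ico.1 hi).1)
  let z : WittVector p R := WittVector.mk p fun i => (g (m (i + 1))).coeff i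
  refine IsUnit.of_mul_eq_one z (eq_of_truncate_eq fun n => ?_)
  have hz : truncate (p := p) n z = truncate n (g (m n)) := by
    refine TruncatedWittVector.ext fun i => ?_
    rw [coeff_truncate, coeff_truncate]
    have h1 := congrArg (TruncatedWittVector.coeff ⟨i.val, i.isLt⟩)
      (hle n (max (m n) (m (i.val + 1))) (le_max_left _ _))
    have h2 := congrArg (TruncatedWittVector.coeff ⟨i.val, i.val.lt_succ_self⟩)
      (hle (i.val + 1) (max (m n) (m (i.val + 1))) (le_max_right _ _))
    rw [coeff_truncate, coeff_truncate] at h1 h2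
    exact h2.symm.trans h1
  rw [map_mul, hz, ← map_mul, mul_neg_geom_sum, map_sub, RingHom.mem_ker.1 (hm n a _ le_rfl),
    sub_zero]

theorem p_mem_maximal (hpn : IsNilpotent (p : R)) (𝔐 : Ideal (WittVector p R)) [h𝔐 : 𝔐.IsMaximal] :
    (p : WittVector p R) ∈ 𝔐 := by
  by_contra hnot
  obtain ⟨c, i, hi, hci⟩ := h𝔐.exists_inv hnot
  obtain ⟨e, he⟩ := id hpn
  obtain ⟨a, ha⟩ := exists_eq_verschiebung (x := (c * (p : WittVector p R)) ^ e)
    (by rw [IV_eq_ker, RingHom.mem_ker, map_pow, map_mul, map_natCast, mul_pow, he, mul_zero])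
  have h1 : (1 - c * (p : WittVector p R)) ∣ 1 - verschiebung a := by
    rw [← ha]
    simpa using sub_dvd_pow_sub_pow 1 (c * (p : WittVector p R)) e
  refine h𝔐.ne_top (Ideal.eq_top_of_isUnit_mem _ hi ?_)
  rw [show i = 1 - c * (p : WittVector p R) by rw [← hci]; ring]
  exact isUnit_of_dvd_unit h1 (isUnit_one_sub_verschiebung hpn a)

theorem IV_le_maximal (hpn : IsNilpotent (p : R)) (𝔐 : Ideal (WittVector p R)) [h𝔐 : 𝔐.IsMaximal] :
    W4c1extbt610.IV p R ≤ 𝔐 := by
  refine Ideal.span_le.2 ?_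
  rintro _ ⟨w, rfl⟩
  have h : verschiebung w * verschiebung w ∈ 𝔐 := by
    rw [mul_verschiebung, frobenius_verschiebung, mul_comm w, mul_assoc, ← nsmul_eq_mul,
      map_nsmul, nsmul_eq_mul]
    exact Ideal.mul_mem_right _ _ (p_mem_maximal hpn 𝔐)
  exact ((Ideal.IsMaximal.isPrime h𝔐).mem_or_mem h).elim id id

theorem frobenius_mem_maximal (hpn : IsNilpotent (p : R)) (𝔐 : Ideal (WittVector p R))
    [h𝔐 : 𝔐.IsMaximal] {w : WittVector p R} (hw : w ∈ 𝔐) : WittVector.frobenius w ∈ 𝔐 := by
  have hV : ∀ z : WittVector p R, verschiebung z ∈ 𝔐 := fun z =>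
    IV_le_maximal hpn 𝔐 (W4c1extbt610.verschiebung_mem_IV p R z)
  have ht : teichmuller p (w.coeff 0) ∈ 𝔐 := by
    have h := eq_teich_add w
    rw [show teichmuller p (w.coeff 0) = w - verschiebung (shift w) from eq_sub_of_add_eq h.symm]
    exact Ideal.sub_mem _ hw (hV _)
  rw [eq_teich_add w, map_add, frobenius_teichmuller, frobenius_verschiebung, map_pow]
  exact Ideal.add_mem _ (Ideal.pow_mem_of_mem _ ht p hp.out.pos)
    (Ideal.mul_mem_left _ _ (p_mem_maximal hpn 𝔐))

end

end Groth.Agent.Lib.Disp.Witt
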