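import Groth.Agent.Lib.Disp.Basic

/-!
# Maps absorbed by a nilpotent `V#`
-/

open WittVector Groth.Agent.Lib.Disp.Witt
open W4c1extbt610 (IV Display3n IsHom verschiebung_mem_IV)

universe u v w

namespace Groth.Agent.Lib.Disp.Absorb

noncomputable section

variable {p : ℕ} [hp : Fact p.Prime] {R : Type u} [CommRing R]

set_option hygiene false in
local notation "𝕨" => WittVector p R
set_option hygiene false in
local notation "σ" => (WittVector.frobenius : WittVector p R →+* WittVector p R)

variable {P : Type v} [AddCommGroup P] [Module 𝕨 P]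
variable {M : Type w} [AddCommGroup M] [Module 𝕨 M]

/-- Iterates of a semilinear endomorphism. -/
def iterS (U : M →ₛₗ[σ] M) : (k : ℕ) → (M →ₛₗ[σ ^ k] M) := fun k =>
  { toFun := (⇑U)^[k]
    map_add' := fun x y => by
      induction k with
      | zero => rfl
      | succ k ih => simp only [Function.iterate_succ_apply', ih, map_add]
    map_smul' := fun c x => by
      induction k with
      | zero => rfl
      | succ k ih =>
        simp only [Function.iterate_succ_apply', ih, map_smulₛₗ, RingHom.coe_pow] }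

theorem iterS_succ (U : M →ₛₗ[σ] M) (k : ℕ) (x : M) : iterS U (k + 1) x = U (iterS U k x) :=
  Function.iterate_succ_apply' _ _ _

variable {Vs : P →ₗ[𝕨] Dieu.BC σ P} {U : M →ₛₗ[σ] M} {ω : P →ₗ[𝕨] M}

theorem apply_eq (h : ∀ x, ω x = Dieu.BC.lift σ (U.comp ω) (Vs x)) :
    ∀ (k : ℕ) (x : P),
      ω x = Dieu.BC.lift (σ ^ (k + 1)) ((iterS U (k + 1)).comp ω) (Dieu.vSharpPow Vs k x) := by
  intro k
  induction k with
  | zero =>
    intro x
    rw [Dieu.vSharpPow_zero_apply, h x]
    induction Vs x using Dieu.BC.induction_on σ with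
    | zero => simp only [map_zero]
    | tmul b y =>
      rw [Dieu.BC.castHom_tmul, Dieu.BC.lift_tmul, Dieu.BC.lift_tmul]
      rfl
    | add z z' hz hz' => simp only [map_add, hz, hz']
  | succ k ih =>
    intro x
    rw [Dieu.vSharpPow_succ_apply, h x]
    induction Vs x using Dieu.BC.induction_on σ with
    | zero => simp only [map_zero]
    | add z z' hz hz' => simp only [map_add, hz, hz']
    | tmul b y =>
      rw [Dieu.BC.map_tmul, Dieu.BC.lift_tmul, Dieu.BC.lift_tmul, LinearMap.comp_apply, ih y,
        map_smul, map_smul]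
      congr 1
      generalize Dieu.vSharpPow Vs k y = z
      induction z using Dieu.BC.induction_on (σ ^ (k + 1)) with
      | zero => simp only [map_zero]
      | add z z' hz hz' => simp only [map_add, hz, hz']
      | tmul c t =>
        rw [Dieu.BC.push_tmul, Dieu.BC.castHom_tmul, Dieu.BC.lift_tmul, Dieu.BC.lift_tmul,
          map_smulₛₗ, LinearMap.comp_apply, LinearMap.comp_apply, iterS_succ U (k + 1)]

theorem mem_pow_smul_top (hnil : Dieu.IsVNilpotent Vs)
    (h : ∀ x, ω x = Dieu.BC.lift σ (U.comp ω) (Vs x)) (m : ℕ) :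
    ∀ x, ω x ∈ Ideal.span {(p : 𝕨) ^ m} • (⊤ : Submodule 𝕨 M) := by
  obtain ⟨n, hn⟩ := hnil
  let 𝔞 : Ideal 𝕨 := IV p R ⊔ Ideal.span {(p : 𝕨)}
  have step : ∀ 𝔡 : Ideal 𝕨, (∀ x, ω x ∈ 𝔡 • (⊤ : Submodule 𝕨 M)) →
      ∀ x, ω x ∈ (𝔞 * 𝔡.map (σ ^ (n + 1))) • (⊤ : Submodule 𝕨 M) := by
    intro 𝔡 h𝔡 x
    rw [apply_eq h n x, Submodule.mul_smul]
    refine Submodule.smul_induction_on (hn x) (fun c hc z hz => ?_) fun a b ha hb => by
      rw [map_add]; exact add_mem ha hb
    rw [map_smul]
    refine Submodule.smul_mem_smul hc ?_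
    clear hz
    induction z using Dieu.BC.induction_on (σ ^ (n + 1)) with
    | zero => rw [map_zero]; exact zero_mem _
    | add a b ha hb => rw [map_add]; exact add_mem ha hb
    | tmul b y =>
      rw [Dieu.BC.lift_tmul]
      refine Submodule.smul_mem _ _ ?_
      rw [LinearMap.comp_apply]
      refine Submodule.smul_induction_on (h𝔡 y) (fun c hc z _ => ?_) fun a b ha hb => by
        rw [map_add]; exact add_mem ha hb
      rw [map_smulₛₗ]
      exact Submodule.smul_mem_smul (Ideal.mem_map_of_mem _ hc) Submodule.mem_top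
  induction m with
  | zero =>
    intro x
    rw [pow_zero, Ideal.span_singleton_one, Submodule.top_smul]
    exact Submodule.mem_top
  | succ m ih =>
    intro x
    refine Submodule.smul_mono ?_ le_rfl (step _ (step _ ih) x)
    refine Ideal.mul_le_right.trans ?_
    rw [Ideal.map_mul, Ideal.map_span, Set.image_singleton, map_pow (σ ^ (n + 1)), map_natCast,
      Ideal.map_span, Set.image_singleton, map_pow (σ ^ (n + 1)), map_natCast, pow_succ' (p : 𝕨),
      ← Ideal.span_singleton_mul_span_singleton]
    refine Ideal.mul_mono ?_ le_rfl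
    rw [Ideal.map_le_iff_le_comap]
    exact fun c hc => p_dvd_frobenius_pow hc n.succ_pos

end

end Groth.Agent.Lib.Disp.Absorb
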