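import Groth.Agent.Lib.Disp.BaseChange
import Mathlib.LinearAlgebra.Projection

/-!
# The base change of a 3n-display exists and is unique
-/

open WittVector Groth.Agent.Lib.Disp.Witt Groth.Agent.Lib.Disp.Basic
open W4c1extbt610 (IV Display3n IsHom verschiebung_mem_IV)

universe u v

namespace Groth.Agent.Lib.Disp.BCExists

noncomputable section

variable {p : ℕ} [hp : Fact p.Prime] {R : Type u} [CommRing R]

theorem shift_add_of_IV {x y : WittVector p R} (hx : x ∈ IV p R) (hy : y ∈ IV p R) :
    shift (x + y) = shift x + shift y := by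
  obtain ⟨a, rfl⟩ := exists_eq_verschiebung hx
  obtain ⟨b, rfl⟩ := exists_eq_verschiebung hy
  rw [← map_add, shift_verschiebung, shift_verschiebung, shift_verschiebung]

theorem shift_mul_of_IV (w : WittVector p R) {x : WittVector p R} (hx : x ∈ IV p R) :
    shift (w * x) = WittVector.frobenius w * shift x := by
  obtain ⟨a, rfl⟩ := exists_eq_verschiebung hx
  rw [mul_verschiebung, shift_verschiebung, shift_verschiebung]

section Sigma

variable {A B : Type u} [CommRing A] [CommRing B] (g : B →+* B) (h : A →+* B)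
  {P : Type v} [AddCommGroup P] [Module A P]

/-- The `g`-semilinear map on `B ⊗_h P` attached to a `(g∘h)`-semilinear map on `P`. -/
def extendS {N : Type (max u v)} [AddCommGroup N] [Module B N] (φ : P →ₛₗ[g.comp h] N) :
    Dieu.BC h P →ₛₗ[g] N :=
  (Dieu.BC.lift (g.comp h) φ).comp (Dieu.BC.push h g)

theorem extendS_tmul {N : Type (max u v)} [AddCommGroup N] [Module B N] (φ : P →ₛₗ[g.comp h] N)
    (b : B) (x : P) : extendS g h φ (Dieu.BC.tmul h b x) = g b • φ x := by
  rw [extendS, LinearMap.comp_apply, Dieu.BC.push_tmul, Dieu.BC.lift_tmul]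

end Sigma

variable {S : Type u} [CommRing S]

set_option hygiene false in
local notation "Wf" => (WittVector.map f : WittVector p S →+* WittVector p R)
set_option hygiene false in
local notation "σS" => (WittVector.frobenius : WittVector p S →+* WittVector p S)
set_option hygiene false in
local notation "σR" => (WittVector.frobenius : WittVector p R →+* WittVector p R)

variable {P : Type v} [AddCommGroup P] [Module (WittVector p S) P]

/-- `x ↦ 1 ⊗ φ x` for a Frobenius-semilinear `φ`. -/
def oneTmul (f : S →+* R) {P₀ : Type v} [AddCommGroup P₀] [Module (WittVector p S) P₀]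
    (φ : P₀ →ₛₗ[σS] P) : P₀ →ₛₗ[RingHom.comp σR Wf] Dieu.BC Wf P where
  toFun x := Dieu.BC.ι Wf P (φ x)
  map_add' x y := by rw [map_add, map_add]
  map_smul' a x := by rw [map_smulₛₗ, map_smulₛₗ, Witt.map_frobenius]; rfl

theorem oneTmul_apply (f : S →+* R) {P₀ : Type v} [AddCommGroup P₀] [Module (WittVector p S) P₀]
    (φ : P₀ →ₛₗ[σS] P) (x : P₀) : oneTmul f φ x = Dieu.BC.tmul Wf 1 (φ x) := rfl

theorem existsUnique_baseChange (f : S →+* R) (D : Display3n p S P) :
    ∃! DR : Display3n p R (Dieu.BC Wf P), Dieu.IsDispBaseChange f D DR := by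
  obtain ⟨n, g, e, hge⟩ := exists_coords D
  obtain ⟨L, T, hc, hQ⟩ := D.exists_normal
  let πL : P →ₗ[WittVector p S] P := L.subtype.comp (L.projectionOnto T hc)
  let πT : P →ₗ[WittVector p S] P := T.subtype.comp (T.projectionOnto L hc.symm)
  have hsum : ∀ x, πL x + πT x = x := fun x => Submodule.projection_add_projection_eq_self hc x
  have hLL : ∀ l ∈ L, πL l = l ∧ πT l = 0 := fun l hl =>
    ⟨by simp [πL, Submodule.projectionOnto_apply_left _ ⟨l, hl⟩], by simp [πT, hl]⟩
  have hTT : ∀ t ∈ T, πL t = 0 ∧ πT t = t := fun t ht =>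
    ⟨by simp [πL, ht], by simp [πT, Submodule.projectionOnto_apply_left _ ⟨t, ht⟩]⟩
  have hLQ : L ≤ D.Q := le_sup_left.trans hQ.ge
  have hπTQ : ∀ y ∈ D.Q, ∀ ψ : P →ₗ[WittVector p S] WittVector p S, ψ (πT y) ∈ IV p S := by
    intro y hy ψ
    obtain ⟨l, hl, t, ht, rfl⟩ := Submodule.mem_sup.1 (hQ.le hy)
    rw [map_add, (hLL l hl).2, zero_add, (hTT t (Submodule.smul_le_right ht)).2]
    exact apply_mem_of_mem_smul_top (Submodule.smul_mono le_rfl le_top ht) ψ
  -- coordinates on `P_R`
  let g' : Fin n → (Dieu.BC Wf P →ₗ[WittVector p R] WittVector p R) := fun j =>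
    Dieu.BC.lift Wf ((Dieu.semilinearOfRingHom Wf).comp (g j))
  have hg' : ∀ j b x, g' j (Dieu.BC.tmul Wf b x) = b * Wf (g j x) := fun j b x => by
    simp [g', Dieu.BC.lift_tmul]
  let MT := Dieu.BC.map Wf πT
  let ML := Dieu.BC.map Wf πL
  have hMsum : ∀ z, ML z + MT z = z := by
    intro z
    induction z using Dieu.BC.induction_on Wf with
    | zero => simp
    | tmul b x => simp only [ML, MT, Dieu.BC.map_tmul, ← Dieu.BC.tmul_add, hsum]
    | add a b ha hb => rw [map_add, map_add, add_add_add_comm, ha, hb]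
  have hMTT : ∀ z, MT (MT z) = MT z := by
    intro z
    induction z using Dieu.BC.induction_on Wf with
    | zero => simp
    | tmul b x =>
      simp only [MT, Dieu.BC.map_tmul]
      rw [(hTT (πT x) (T.projectionOnto L hc.symm x).2).2]
    | add a b ha hb => simp only [map_add, ha, hb]
  have hMLL : ∀ z, MT (ML z) = 0 := by
    intro z
    induction z using Dieu.BC.induction_on Wf with
    | zero => simp
    | tmul b x =>
      simp only [MT, ML, Dieu.BC.map_tmul]
      rw [(hLL (πL x) (L.projectionOnto T hc x).2).2, Dieu.BC.tmul_zero]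
    | add a b ha hb => simp only [map_add, ha, hb, add_zero]
  have hge' : ∀ z, ∑ j, g' j z • Dieu.BC.tmul Wf 1 (e j) = z := by
    intro z
    induction z using Dieu.BC.induction_on Wf with
    | zero => simp
    | add a b ha hb => simp only [map_add, add_smul, Finset.sum_add_distrib, ha, hb]
    | tmul b x =>
      conv_rhs => rw [← hge x, Dieu.BC.tmul_eq_smul_tmul_one]
      change _ = b • Dieu.BC.ι Wf P _
      rw [map_sum, Finset.smul_sum]
      refine Finset.sum_congr rfl fun j _ => ?_
      rw [hg', map_smulₛₗ, smul_smul]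
      rfl
  let QR : Submodule (WittVector p R) (Dieu.BC Wf P) := LinearMap.ker (Dieu.bcQuotMap f D.Q)
  have hqmem : ∀ (w : WittVector p R) (y : P), y ∈ D.Q → Dieu.BC.tmul Wf w y ∈ QR := fun w y hy => by
    rw [LinearMap.mem_ker, Dieu.bcQuotMap_tmul, Submodule.mkQ_apply,
      (Submodule.Quotient.mk_eq_zero _).2 hy, Dieu.BC.tmul_zero]
  have hIVle : IV p R • (⊤ : Submodule (WittVector p R) (Dieu.BC Wf P)) ≤ QR := by
    refine Submodule.smul_le.2 fun c hc z _ => ?_
    obtain ⟨a, rfl⟩ := exists_eq_verschiebung hc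
    rw [LinearMap.mem_ker, map_smulₛₗ,
      show (WittVector.constantCoeff : WittVector p R →+* R) (verschiebung a) = 0 from
        verschiebung_coeff_zero a, zero_smul]
  -- the `T`-coordinates of elements of `Q_R`
  have hcoef : ∀ z ∈ QR, ∀ j, g' j (MT z) ∈ IV p R := by
    intro z hz j
    let cc : WittVector p R →+* R := WittVector.constantCoeff
    let ψ0 : P →ₛₗ[cc.comp Wf] R :=
      { toFun := fun x => cc (Wf (g j (πT x)))
        map_add' := fun x y => by simp only [map_add]
        map_smul' := fun a x => by simp only [map_smul, smul_eq_mul, map_mul, RingHom.comp_apply] }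
    have hk : D.Q ≤ LinearMap.ker ψ0 := fun y hy => by
      change cc (Wf (g j (πT y))) = 0
      obtain ⟨a, ha⟩ := exists_eq_verschiebung (hπTQ y hy (g j))
      rw [ha, WittVector.map_verschiebung]
      change (verschiebung (Wf a)).coeff 0 = 0
      exact verschiebung_coeff_zero _
    have hcomm : ∀ u, cc (g' j (MT u)) =
        Dieu.BC.lift (cc.comp Wf) (D.Q.liftQ ψ0 hk) (Dieu.bcQuotMap f D.Q u) := by
      intro u
      induction u using Dieu.BC.induction_on Wf with
      | zero => simp only [map_zero]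
      | add a b ha hb => simp only [map_add, ha, hb]
      | tmul b x =>
        rw [Dieu.bcQuotMap_tmul, Dieu.BC.lift_tmul, show MT (Dieu.BC.tmul Wf b x) =
          Dieu.BC.tmul Wf b (πT x) from Dieu.BC.map_tmul _ _ _ _, hg', map_mul, smul_eq_mul]
        rfl
    rw [IV_eq_ker, RingHom.mem_ker]
    change cc (g' j (MT z)) = 0
    rw [hcomm, LinearMap.mem_ker.1 hz, map_zero]
  have hMTmem : ∀ z ∈ QR, MT z ∈ IV p R • (⊤ : Submodule (WittVector p R) (Dieu.BC Wf P)) := by
    intro z hz
    rw [← hge' (MT z)]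
    exact Submodule.sum_mem _ fun j _ => Submodule.smul_mem_smul (hcoef z hz j) Submodule.mem_top
  -- the operators
  let FR : Dieu.BC Wf P →ₛₗ[σR] Dieu.BC Wf P := extendS σR Wf (oneTmul f D.F)
  let ΘL : Dieu.BC Wf P →ₛₗ[σR] Dieu.BC Wf P := extendS σR Wf
    (oneTmul f (D.Vinv.comp ((Submodule.inclusion hLQ).comp (L.projectionOnto T hc))))
  let u : Fin n → Dieu.BC Wf P := fun j => Dieu.BC.tmul Wf 1 (D.F (πT (e j)))
  let VR : QR →ₛₗ[σR] Dieu.BC Wf P :=
    { toFun := fun z => ΘL z + ∑ j, shift (g' j (MT z)) • u j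
      map_add' := fun a b => by
        simp only [Submodule.coe_add, map_add]
        simp only [fun j => shift_add_of_IV (hcoef _ a.2 j) (hcoef _ b.2 j), add_smul,
          Finset.sum_add_distrib]
        abel
      map_smul' := fun c a => by
        simp only [Submodule.coe_smul, map_smul, map_smulₛₗ, smul_eq_mul, smul_add, Finset.smul_sum,
          smul_smul, fun j => shift_mul_of_IV c (hcoef _ a.2 j)] }
  have hexpT : ∀ x : P, πT x = ∑ j, g j (πT x) • πT (e j) := fun x => by
    have h := congrArg πT (hge (πT x))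
    rw [(hTT (πT x) (T.projectionOnto L hc.symm x).2).2, map_sum] at h
    simp only [map_smul] at h
    exact h.symm
  have hΘ : ∀ b x, ΘL (Dieu.BC.tmul Wf b x) = σR b • Dieu.BC.tmul Wf 1
      (D.Vinv ⟨πL x, hLQ (L.projectionOnto T hc x).2⟩) := fun b x => by
    simp only [ΘL, extendS_tmul, oneTmul_apply, LinearMap.comp_apply]
    rfl
  have hVtm : ∀ (w : WittVector p R) (y : D.Q) (h : Dieu.BC.tmul Wf w (y : P) ∈ QR),
      VR ⟨_, h⟩ = Dieu.BC.tmul Wf (σR w) (D.Vinv y) := by
    rintro w ⟨y, hy⟩ h
    change ΘL (Dieu.BC.tmul Wf w y) + ∑ j, shift (g' j (MT (Dieu.BC.tmul Wf w y))) • u j = _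
    choose a ha using fun j => exists_eq_verschiebung (hπTQ y hy (g j))
    have hT1 : πT y = ∑ j, verschiebung (a j) • πT (e j) := by
      conv_lhs => rw [hexpT]
      simp only [ha]
    have hTQ : πT y ∈ D.Q := hT1 ▸ Submodule.sum_mem _ fun j _ =>
      D.IV_smul_le (Submodule.smul_mem_smul (verschiebung_mem_IV p S _) Submodule.mem_top)
    have hT2 : D.Vinv ⟨πT y, hTQ⟩ = ∑ j, a j • D.F (πT (e j)) := by
      have h2 : (⟨πT y, hTQ⟩ : D.Q) = ∑ j, ⟨verschiebung (a j) • πT (e j),
          D.IV_smul_le (Submodule.smul_mem_smul (verschiebung_mem_IV p S _) Submodule.mem_top)⟩ :=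
        Subtype.ext (by rw [Submodule.coe_sum]; exact hT1)
      rw [h2, map_sum]
      exact Finset.sum_congr rfl fun j _ => D.Vinv_verschiebung_smul _ _
    have hsplit : D.Vinv ⟨y, hy⟩ = D.Vinv ⟨πL y, hLQ (L.projectionOnto T hc y).2⟩ +
        D.Vinv ⟨πT y, hTQ⟩ := by
      rw [← map_add]
      exact Vinv_eq_of_eq D _ _ (hsum y).symm
    rw [hΘ, hsplit, hT2, Dieu.BC.tmul_add, ← Dieu.BC.tmul_eq_smul_tmul_one]
    congr 1
    conv_rhs => rw [Dieu.BC.tmul_eq_smul_tmul_one]
    change _ = σR w • Dieu.BC.ι Wf P _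
    rw [map_sum, Finset.smul_sum]
    refine Finset.sum_congr rfl fun j _ => ?_
    rw [show MT (Dieu.BC.tmul Wf w y) = Dieu.BC.tmul Wf w (πT y) from Dieu.BC.map_tmul _ _ _ _, hg',
      ha, WittVector.map_verschiebung, mul_verschiebung, shift_verschiebung, map_smulₛₗ, smul_smul]
    rfl
  have hVv : ∀ (w : WittVector p R) (x : P) (h : Dieu.BC.tmul Wf (verschiebung w) x ∈ QR),
      VR ⟨_, h⟩ = Dieu.BC.tmul Wf w (D.F x) := by
    intro w x h
    change ΘL (Dieu.BC.tmul Wf (verschiebung w) x) +
      ∑ j, shift (g' j (MT (Dieu.BC.tmul Wf (verschiebung w) x))) • u j = _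
    have h1 : D.F x = (p : WittVector p S) • D.Vinv ⟨πL x, hLQ (L.projectionOnto T hc x).2⟩ +
        ∑ j, σS (g j (πT x)) • D.F (πT (e j)) := by
      rw [← F_apply_Q]
      conv_lhs => rw [← hsum x, map_add, hexpT x, map_sum]
      simp only [map_smulₛₗ]
    rw [hΘ, h1, Dieu.BC.tmul_add, WittVector.frobenius_verschiebung]
    refine congrArg₂ (· + ·) ?_ ?_
    · rw [← Dieu.BC.tmul_eq_smul_tmul_one, ← Dieu.BC.tmul_mul_apply, map_natCast]
    · conv_rhs => rw [Dieu.BC.tmul_eq_smul_tmul_one]
      change _ = w • Dieu.BC.ι Wf P _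
      rw [map_sum, Finset.smul_sum]
      refine Finset.sum_congr rfl fun j _ => ?_
      rw [show MT (Dieu.BC.tmul Wf (verschiebung w) x) = Dieu.BC.tmul Wf (verschiebung w) (πT x) from
        Dieu.BC.map_tmul _ _ _ _, hg', mul_comm, mul_verschiebung, shift_verschiebung, map_smulₛₗ,
        smul_smul, Witt.map_frobenius, mul_comm w]
      rfl
  have := D.finite
  have := D.projective
  let DR : Display3n p R (Dieu.BC Wf P) :=
    { Q := QR
      F := FR
      Vinv := VR
      finite := Module.Finite.of_surjective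
        (Fintype.linearCombination (WittVector p R) fun j => Dieu.BC.tmul Wf 1 (e j))
        fun z => ⟨fun j => g' j z, (Fintype.linearCombination_apply _ _ _).trans (hge' z)⟩
      projective := Module.Projective.of_split (M := Fin n → WittVector p R)
        (LinearMap.pi g') (Fintype.linearCombination (WittVector p R) fun j => Dieu.BC.tmul Wf 1 (e j))
        (LinearMap.ext fun z => by
          simp only [LinearMap.comp_apply, Fintype.linearCombination_apply, LinearMap.pi_apply,
            LinearMap.id_apply, hge'])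
      IV_smul_le := hIVle
      exists_normal := by
        refine ⟨LinearMap.range ML, LinearMap.range MT, ⟨?_, ?_⟩, ?_⟩
        · rw [Submodule.disjoint_def]
          rintro _ ⟨a, rfl⟩ ⟨b, hb⟩
          have := congrArg MT hb
          rw [hMTT, hMLL, hb] at this
          exact this
        · rw [codisjoint_iff, eq_top_iff]
          intro z _
          rw [← hMsum z]
          exact Submodule.add_mem_sup ⟨z, rfl⟩ ⟨z, rfl⟩
        · refine le_antisymm (fun z hz => ?_) (sup_le ?_ ((Submodule.smul_mono le_rfl le_top).trans hIVle))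
          · rw [← hMsum z]
            refine Submodule.add_mem_sup ⟨z, rfl⟩ ?_
            have h := Submodule.mem_map_of_mem (f := MT) (hMTmem z hz)
            rw [Submodule.map_smul'', Submodule.map_top, hMTT] at h
            exact h
          · rintro _ ⟨z, rfl⟩
            induction z using Dieu.BC.induction_on Wf with
            | zero => rw [map_zero]; exact zero_mem _
            | add a b ha hb => rw [map_add]; exact add_mem ha hb
            | tmul b x =>
              rw [show ML (Dieu.BC.tmul Wf b x) = Dieu.BC.tmul Wf b (πL x) from Dieu.BC.map_tmul _ _ _ _]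
              exact hqmem _ _ (hLQ (L.projectionOnto T hc x).2)
      span_range_Vinv := by
        have h1 : ∀ x, Dieu.BC.ι Wf P x ∈ Submodule.span (WittVector p R) (Set.range VR) := by
          intro x
          have hx : x ∈ Submodule.span (WittVector p S) (Set.range D.Vinv) :=
            D.span_range_Vinv ▸ Submodule.mem_top
          induction hx using Submodule.span_induction with
          | mem _ hy =>
            obtain ⟨y, rfl⟩ := hy
            refine Submodule.subset_span ⟨⟨_, hqmem 1 y y.2⟩, ?_⟩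
            rw [hVtm, map_one]
            rfl
          | zero => rw [map_zero]; exact zero_mem _
          | add a b _ _ ha hb => rw [map_add]; exact add_mem ha hb
          | smul c a _ ha => rw [map_smulₛₗ]; exact Submodule.smul_mem _ _ ha
        refine eq_top_iff.2 fun z hz => ?_
        clear hz
        induction z using Dieu.BC.induction_on Wf with
        | zero => exact zero_mem _
        | add a b ha hb => exact add_mem ha hb
        | tmul b x =>
          rw [Dieu.BC.tmul_eq_smul_tmul_one]
          exact Submodule.smul_mem _ _ (h1 x)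
      Vinv_verschiebung_smul := by
        intro w z
        induction z using Dieu.BC.induction_on Wf with
        | zero =>
          have : ∀ h, VR ⟨verschiebung w • 0, h⟩ = 0 := fun h => by
            rw [show (⟨verschiebung w • 0, h⟩ : QR) = 0 from Subtype.ext (smul_zero _), map_zero]
          rw [this, map_zero, smul_zero]
        | add a b ha hb =>
          rw [map_add]
          refine Eq.trans ?_ (smul_add w _ _).symm
          rw [← ha, ← hb, ← map_add]
          exact congrArg VR (Subtype.ext (smul_add _ _ _))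
        | tmul b x =>
          have h2 : verschiebung w • Dieu.BC.tmul Wf b x =
              Dieu.BC.tmul Wf (verschiebung (σR b * w)) x := by
            rw [Dieu.BC.smul_tmul, mul_comm (verschiebung w), mul_verschiebung]
          have h3 : Dieu.BC.tmul Wf (verschiebung (σR b * w)) x ∈ QR :=
            h2 ▸ hIVle (Submodule.smul_mem_smul (verschiebung_mem_IV p R w) Submodule.mem_top)
          have h4 : ∀ h, VR ⟨verschiebung w • Dieu.BC.tmul Wf b x, h⟩ = VR ⟨_, h3⟩ := fun h =>
            congrArg VR (Subtype.ext h2)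
          rw [h4, hVv]
          simp only [FR, extendS_tmul, oneTmul_apply, smul_smul]
          rw [← Dieu.BC.tmul_eq_smul_tmul_one, mul_comm] }
  have hDR : Dieu.IsDispBaseChange f D DR :=
    { Q_eq := rfl
      F_tmul := fun w x => by
        change FR _ = _
        simp only [FR, extendS_tmul, oneTmul_apply]
        rw [← Dieu.BC.tmul_eq_smul_tmul_one]
      Vinv_tmul := fun w y h => hVtm w y h
      Vinv_verschiebung_tmul := fun w x h => hVv w x h }
  refine ⟨DR, hDR, fun DR' h' => ?_⟩
  obtain ⟨Q', F', V', fin', proj', iv', nor', span', vv'⟩ := DR'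
  obtain rfl : Q' = QR := h'.Q_eq
  obtain rfl : F' = FR := LinearMap.ext fun z => by
    induction z using Dieu.BC.induction_on Wf with
    | zero => simp only [map_zero]
    | add a b ha hb => simp only [map_add, ha, hb]
    | tmul b x => exact (h'.F_tmul b x).trans (hDR.F_tmul b x).symm
  obtain rfl : V' = VR := LinearMap.ext fun z => by
    have hML : ∀ u, ∃ h : ML u ∈ QR, V' ⟨ML u, h⟩ = VR ⟨ML u, h⟩ := by
      intro u
      induction u using Dieu.BC.induction_on Wf with
      | zero =>
        refine ⟨by rw [map_zero]; exact zero_mem _, ?_⟩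
        have : ∀ h, (⟨ML 0, h⟩ : QR) = 0 := fun h => Subtype.ext (map_zero _)
        rw [this, map_zero, map_zero]
      | add a b ha hb =>
        obtain ⟨ha, ha'⟩ := ha
        obtain ⟨hb, hb'⟩ := hb
        refine ⟨by rw [map_add]; exact add_mem ha hb, ?_⟩
        have : ∀ h, (⟨ML (a + b), h⟩ : QR) = ⟨ML a, ha⟩ + ⟨ML b, hb⟩ := fun h =>
          Subtype.ext (map_add _ _ _)
        rw [this, map_add, map_add, ha', hb']
      | tmul b x =>
        have e1 : ML (Dieu.BC.tmul Wf b x) = Dieu.BC.tmul Wf b (πL x) := Dieu.BC.map_tmul _ _ _ _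
        have h := hqmem b _ (hLQ (L.projectionOnto T hc x).2)
        refine ⟨e1 ▸ h, ?_⟩
        have : ∀ h', (⟨ML (Dieu.BC.tmul Wf b x), h'⟩ : QR) = ⟨Dieu.BC.tmul Wf b (πL x), h⟩ := fun h' =>
          Subtype.ext e1
        rw [this]
        exact (h'.Vinv_tmul b ⟨_, hLQ (L.projectionOnto T hc x).2⟩ h).trans
          (hVtm b ⟨_, hLQ (L.projectionOnto T hc x).2⟩ h).symm
    obtain ⟨z, hz⟩ := z
    obtain ⟨hL, hL'⟩ := hML z
    have hT' : ∀ h, V' ⟨MT z, h⟩ = VR ⟨MT z, h⟩ := by
      suffices ∀ t ∈ IV p R • (⊤ : Submodule (WittVector p R) (Dieu.BC Wf P)),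
          ∀ h, V' ⟨t, h⟩ = VR ⟨t, h⟩ from this _ (hMTmem z hz)
      intro t ht
      suffices t ∈ QR ∧ ∀ h, V' ⟨t, h⟩ = VR ⟨t, h⟩ from this.2
      refine Submodule.smul_induction_on ht (fun c hc' y _ => ⟨?_, ?_⟩) fun a b ha hb => ⟨?_, fun h => ?_⟩
      · exact hIVle (Submodule.smul_mem_smul hc' Submodule.mem_top)
      · obtain ⟨a, rfl⟩ := exists_eq_verschiebung hc'
        exact fun h => (vv' a y).trans (DR.Vinv_verschiebung_smul a y).symm
      · exact add_mem ha.1 hb.1
      · rw [show (⟨a + b, h⟩ : QR) = ⟨a, ha.1⟩ + ⟨b, hb.1⟩ from rfl, map_add, map_add, ha.2, hb.2]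
    have hTmem : MT z ∈ QR := hIVle (hMTmem z hz)
    rw [show (⟨z, hz⟩ : QR) = ⟨ML z, hL⟩ + ⟨MT z, hTmem⟩ from Subtype.ext (hMsum z).symm,
      map_add, map_add, hL', hT' hTmem]
  rfl

end

end Groth.Agent.Lib.Disp.BCExists
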