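import Groth.Agent.Lib.Disp.VSharp

/-!
# Nilpotence is preserved by base change; displays over perfect rings
-/

open WittVector Groth.Agent.Lib.Disp.Witt Groth.Agent.Lib.Disp.Basic
open W4c1extbt610 (IV Display3n IsHom verschiebung_mem_IV)

universe u v

namespace Groth.Agent.Lib.Disp.BaseChange

noncomputable section

section Comm

variable {A B : Type u} [CommRing A] [CommRing B] (g : A →+* A) (g' : B →+* B) (h : A →+* B)
  (e : h.comp g = g'.comp h) {P : Type v} [AddCommGroup P] [Module A P]

/-- `x ↦ 1 ⊗ (1 ⊗ x)`. -/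
def θ : P →ₛₗ[h.comp g] Dieu.BC g' (Dieu.BC h P) where
  toFun x := Dieu.BC.ι g' _ (Dieu.BC.ι h P x)
  map_add' x y := by rw [map_add, map_add]
  map_smul' a x := by rw [map_smulₛₗ, map_smulₛₗ, e]; rfl

/-- `c ⊗ x ↦ h c ⊗ (1 ⊗ x)`. -/
def γ : Dieu.BC g P →ₛₗ[h] Dieu.BC g' (Dieu.BC h P) :=
  (Dieu.BC.lift (h.comp g) (θ g g' h e)).comp (Dieu.BC.push g h)

theorem γ_tmul (c : A) (x : P) :
    γ g g' h e (Dieu.BC.tmul g c x) = Dieu.BC.tmul g' (h c) (Dieu.BC.tmul h 1 x) := by
  rw [γ, LinearMap.comp_apply, Dieu.BC.push_tmul, Dieu.BC.lift_tmul,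
    Dieu.BC.tmul_eq_smul_tmul_one g' (h c)]
  rfl

end Comm

variable {p : ℕ} [hp : Fact p.Prime] {S R : Type u} [CommRing S] [CommRing R]

set_option hygiene false in
local notation "Wf" => (WittVector.map f : WittVector p S →+* WittVector p R)
set_option hygiene false in
local notation "σS" => (WittVector.frobenius : WittVector p S →+* WittVector p S)
set_option hygiene false in
local notation "σR" => (WittVector.frobenius : WittVector p R →+* WittVector p R)

variable {P : Type v} [AddCommGroup P] [Module (WittVector p S) P]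

theorem comm_pow (f : S →+* R) : ∀ k : ℕ, RingHom.comp Wf (σS ^ k) = (σR ^ k).comp Wf
  | 0 => rfl
  | k + 1 => RingHom.ext fun x => by
    simp only [RingHom.comp_apply, RingHom.coe_pow, map_frobenius_iterate]

theorem isDisplay (hp' : IsNilpotent (p : S)) (f : S →+* R) (D : Display3n p S P)
    (hD : Dieu.IsDisplay D) (DR : Display3n p R (Dieu.BC Wf P))
    (hDR : Dieu.IsDispBaseChange f D DR) : Dieu.IsDisplay DR := by
  obtain ⟨Vs, hVs, n, hn⟩ := hD
  have hpR : IsNilpotent (p : R) := map_natCast f p ▸ hp'.map f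
  obtain ⟨VR, hVR, -⟩ := VSharp.exists_unique_VSharp hpR DR
  have e1 : RingHom.comp Wf σS = RingHom.comp σR Wf := RingHom.ext fun x => map_frobenius f x
  have hbase : ∀ x, VR (Dieu.BC.tmul Wf 1 x) = γ σS σR Wf e1 (Vs x) := by
    have hle : ∀ x, x ∈ Submodule.span (WittVector p S) (Set.range D.Vinv) →
        VR (Dieu.BC.ι Wf P x) = γ σS σR Wf e1 (Vs x) := by
      intro x hx
      induction hx using Submodule.span_induction with
      | zero => simp only [map_zero]
      | add a b _ _ ha hb => simp only [map_add, ha, hb]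
      | smul c a _ ha => simp only [map_smul, map_smulₛₗ, ha]
      | mem _ hy =>
        obtain ⟨y, rfl⟩ := hy
        have hmem : Dieu.BC.tmul Wf 1 (y : P) ∈ DR.Q := by
          rw [hDR.Q_eq, LinearMap.mem_ker, Dieu.bcQuotMap_tmul, Submodule.mkQ_apply,
            (Submodule.Quotient.mk_eq_zero _).2 y.2, Dieu.BC.tmul_zero]
        have h1 := hDR.Vinv_tmul 1 y hmem
        rw [map_one] at h1
        rw [Dieu.BC.ι_apply, ← h1, Vs_Vinv hVR, Vs_Vinv hVs, γ_tmul, map_one]
    exact fun x => hle x (D.span_range_Vinv ▸ Submodule.mem_top)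
  have hiter : ∀ (k : ℕ) x, Dieu.vSharpPow VR k (Dieu.BC.tmul Wf 1 x) =
      γ (σS ^ (k + 1)) (σR ^ (k + 1)) Wf (comm_pow f (k + 1)) (Dieu.vSharpPow Vs k x) := by
    intro k
    induction k with
    | zero =>
      intro x
      rw [Dieu.vSharpPow_zero_apply, Dieu.vSharpPow_zero_apply, hbase]
      induction Vs x using Dieu.BC.induction_on σS with
      | zero => simp only [map_zero]
      | add a b ha hb => simp only [map_add, ha, hb]
      | tmul b y => rw [γ_tmul, Dieu.BC.castHom_tmul, Dieu.BC.castHom_tmul, γ_tmul]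
    | succ k ih =>
      intro x
      rw [Dieu.vSharpPow_succ_apply, Dieu.vSharpPow_succ_apply, hbase]
      induction Vs x using Dieu.BC.induction_on σS with
      | zero => simp only [map_zero]
      | add a b ha hb => simp only [map_add, ha, hb]
      | tmul b y =>
        rw [γ_tmul, Dieu.BC.map_tmul, Dieu.BC.map_tmul, Dieu.BC.lift_tmul, Dieu.BC.lift_tmul, ih,
          map_smul, map_smul, map_smulₛₗ]
        congr 1
        generalize Dieu.vSharpPow Vs k y = z
        induction z using Dieu.BC.induction_on (σS ^ (k + 1)) with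
        | zero => simp only [map_zero]
        | add a b ha hb => simp only [map_add, ha, hb]
        | tmul c t =>
          rw [γ_tmul, Dieu.BC.push_tmul, Dieu.BC.push_tmul, Dieu.BC.castHom_tmul,
            Dieu.BC.castHom_tmul, γ_tmul, map_frobenius]
  refine ⟨VR, hVR, n, fun z => ?_⟩
  induction z using Dieu.BC.induction_on Wf with
  | zero => rw [map_zero]; exact zero_mem _
  | add a b ha hb => rw [map_add]; exact add_mem ha hb
  | tmul b x =>
    rw [Dieu.BC.tmul_eq_smul_tmul_one, map_smul, hiter]
    refine Submodule.smul_mem _ _ ?_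
    refine Submodule.smul_induction_on (hn x) (fun c hc z _ => ?_) fun a b ha hb => by
      rw [map_add]; exact add_mem ha hb
    rw [map_smulₛₗ]
    refine Submodule.smul_mem_smul ?_ Submodule.mem_top
    obtain ⟨a, ha, b, hb, rfl⟩ := Submodule.mem_sup.1 hc
    obtain ⟨a, rfl⟩ := exists_eq_verschiebung ha
    obtain ⟨d, rfl⟩ := Ideal.mem_span_singleton'.1 hb
    rw [map_add, map_mul, map_natCast, WittVector.map_verschiebung]
    exact Submodule.add_mem_sup (verschiebung_mem_IV p R _) (Ideal.mem_span_singleton'.2 ⟨_, rfl⟩)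

section Perfect

variable {k : Type u} [CommRing k] [CharP k p] [PerfectRing k p]
variable {M : Type v} [AddCommGroup M] [Module (WittVector p k) M]

set_option hygiene false in
local notation "σk" => (WittVector.frobenius : WittVector p k →+* WittVector p k)

theorem frobenius_symm_apply (c : WittVector p k) : σk ((WittVector.frobeniusEquiv p k).symm c) = c :=
  (WittVector.frobeniusEquiv p k).apply_symm_apply c

theorem mem_span_p_of_frobenius (c : WittVector p k) (h : σk c ∈ Ideal.span {(p : WittVector p k)}) :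
    c ∈ Ideal.span {(p : WittVector p k)} := by
  obtain ⟨d, hd⟩ := Ideal.mem_span_singleton'.1 h
  refine Ideal.mem_span_singleton'.2 ⟨(WittVector.frobeniusEquiv p k).symm d,
    (WittVector.frobenius_bijective p k).1 ?_⟩
  rw [map_mul, map_natCast, frobenius_symm_apply, hd]

theorem IV_le_span_p : IV p k ≤ Ideal.span {(p : WittVector p k)} := by
  refine Ideal.span_le.2 ?_
  rintro _ ⟨w, rfl⟩
  refine Ideal.mem_span_singleton'.2 ⟨(WittVector.frobeniusEquiv p k).symm w, ?_⟩
  rw [← verschiebung_frobenius, frobenius_symm_apply]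

theorem isDisplay_iff [Module.Finite (WittVector p k) M] [Module.Projective (WittVector p k) M]
    (Dm : Dieu.DieuMod p k M) (D : Display3n p k M) (hF : D.F = Dm.F)
    (hQ : ∀ x : M, x ∈ D.Q ↔ x ∈ Set.range Dm.V)
    (hV : ∀ (m : M) (h : Dm.V m ∈ D.Q), D.Vinv ⟨Dm.V m, h⟩ = m) :
    Dieu.IsDisplay D ↔ Dm.VTopNilp := by
  let V0 : M →ₗ[WittVector p k] Dieu.BC σk M :=
    { toFun := fun x => Dieu.BC.tmul σk 1 (Dm.V x)
      map_add' := fun x y => by rw [map_add, Dieu.BC.tmul_add]
      map_smul' := fun c x => by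
        rw [map_smulₛₗ, ← Dieu.BC.tmul_mul_apply, one_mul, RingHom.id_apply,
          show σk (((WittVector.frobeniusEquiv p k).symm : WittVector p k →+* WittVector p k) c) = c
            from frobenius_symm_apply c, ← Dieu.BC.tmul_eq_smul_tmul_one] }
  have hVinv : ∀ y : D.Q, Dm.V (D.Vinv y) = (y : M) := by
    rintro ⟨y, hy⟩
    obtain ⟨m, rfl⟩ := (hQ y).1 hy
    rw [hV m hy]
  have hV0 : Dieu.IsVSharp D V0 := by
    refine ⟨fun w x => ?_, fun w y => ?_⟩
    · change Dieu.BC.tmul σk 1 (Dm.V (w • D.F x)) = _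
      rw [hF, map_smulₛₗ, Dm.V_F, smul_smul, ← Dieu.BC.tmul_mul_apply, one_mul, map_mul, map_natCast,
        show σk (((WittVector.frobeniusEquiv p k).symm : WittVector p k →+* WittVector p k) w) = w
          from frobenius_symm_apply w, Dieu.BC.smul_tmul, mul_comm]
    · change Dieu.BC.tmul σk 1 (Dm.V (w • D.Vinv y)) = _
      rw [map_smulₛₗ, hVinv, ← Dieu.BC.tmul_mul_apply, one_mul,
        show σk (((WittVector.frobeniusEquiv p k).symm : WittVector p k →+* WittVector p k) w) = w
          from frobenius_symm_apply w]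
  have hpow : ∀ (j : ℕ) x, Dieu.vSharpPow V0 j x = Dieu.BC.tmul (σk ^ (j + 1)) 1 ((⇑Dm.V)^[j + 1] x) := by
    intro j
    induction j with
    | zero => intro x; rw [Dieu.vSharpPow_zero_apply, show V0 x = Dieu.BC.tmul σk 1 (Dm.V x) from rfl, Dieu.BC.castHom_tmul]; rfl
    | succ j ih =>
      intro x
      rw [Dieu.vSharpPow_succ_apply, show V0 x = Dieu.BC.tmul σk 1 (Dm.V x) from rfl,
        Dieu.BC.map_tmul, ih, Dieu.BC.lift_tmul, one_smul, Dieu.BC.push_tmul, Dieu.BC.castHom_tmul,
        map_one, ← Function.iterate_succ_apply]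
  constructor
  · rintro ⟨Vs, hVs, n, hn⟩
    obtain rfl : Vs = V0 := ext_Vinv D fun y => by rw [Vs_Vinv hVs, Vs_Vinv hV0]
    have hn1 : ∀ x, (⇑Dm.V)^[n + 1] x ∈
        Ideal.span {(p : WittVector p k)} • (⊤ : Submodule (WittVector p k) M) := by
      intro x
      obtain ⟨m, g, e, hge⟩ := exists_coords D
      refine mem_smul_top_of_coords hge fun i => ?_
      have h1 := Submodule.smul_mono (sup_le IV_le_span_p le_rfl) le_rfl (hn x)
      rw [hpow] at h1
      have h2 : Dieu.BC.lift (σk ^ (n + 1)) ((Dieu.semilinearOfRingHom (σk ^ (n + 1))).comp (g i))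
          (Dieu.BC.tmul (σk ^ (n + 1)) 1 ((⇑Dm.V)^[n + 1] x)) ∈ Ideal.span {(p : WittVector p k)} := by
        refine Submodule.smul_induction_on h1 (fun c hc z _ => ?_) fun a b ha hb => ?_
        · rw [map_smul, smul_eq_mul]; exact Ideal.mul_mem_right _ _ hc
        · rw [map_add]; exact Ideal.add_mem _ ha hb
      rw [Dieu.BC.lift_tmul, one_smul, LinearMap.comp_apply, Dieu.semilinearOfRingHom_apply,
        RingHom.coe_pow] at h2
      generalize g i ((⇑Dm.V)^[n + 1] x) = c at h2 ⊢
      revert h2
      generalize n + 1 = j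
      induction j with
      | zero => exact id
      | succ j ih =>
        intro h2
        rw [Function.iterate_succ_apply'] at h2
        exact ih (mem_span_p_of_frobenius _ h2)
    intro e
    refine ⟨(n + 1) * e, ?_⟩
    induction e with
    | zero => intro m; rw [pow_zero, Ideal.one_eq_top, Submodule.top_smul]; exact Submodule.mem_top
    | succ e ih =>
      intro m
      rw [mul_add, mul_one, Function.iterate_add_apply, pow_succ', Submodule.mul_smul]
      refine Submodule.smul_induction_on (hn1 m) (fun c hc z _ => ?_) fun a b ha hb => ?_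
      · obtain ⟨d, rfl⟩ := Ideal.mem_span_singleton'.1 hc
        have h3 : ∀ (j : ℕ) (z : M), (⇑Dm.V)^[j] ((p : WittVector p k) • z) =
            (p : WittVector p k) • (⇑Dm.V)^[j] z := by
          intro j
          induction j with
          | zero => intro z; rfl
          | succ j ihj =>
            intro z
            rw [Function.iterate_succ_apply', Function.iterate_succ_apply', ihj, map_smulₛₗ,
              map_natCast]
        rw [show d * (p : WittVector p k) = (p : WittVector p k) * d from mul_comm _ _, mul_smul, h3]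
        exact Submodule.smul_mem_smul (Ideal.mem_span_singleton_self _) (ih _)
      · have h4 : ∀ (j : ℕ), (⇑Dm.V)^[j] (a + b) = (⇑Dm.V)^[j] a + (⇑Dm.V)^[j] b := by
          intro j
          induction j with
          | zero => rfl
          | succ j ihj => simp only [Function.iterate_succ_apply', ihj, map_add]
        rw [h4]
        exact add_mem ha hb
  · intro htn
    obtain ⟨n, hn⟩ := htn 1
    refine ⟨V0, hV0, n, fun x => ?_⟩
    rw [hpow, Function.iterate_succ_apply]
    have h1 := hn (Dm.V x)
    rw [pow_one] at h1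
    refine Submodule.smul_induction_on h1 (fun c hc z _ => ?_) fun a b ha hb => ?_
    · obtain ⟨d, rfl⟩ := Ideal.mem_span_singleton'.1 hc
      change Dieu.BC.ι (σk ^ (n + 1)) M _ ∈ _
      rw [map_smulₛₗ, map_mul, map_natCast]
      exact Submodule.smul_mem_smul
        (Submodule.mem_sup_right (Ideal.mem_span_singleton'.2 ⟨_, rfl⟩)) Submodule.mem_top
    · rw [Dieu.BC.tmul_add]; exact add_mem ha hb

end Perfect

end

end Groth.Agent.Lib.Disp.BaseChange
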