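import Groth.Prelude.Def_Disp2
import Groth.Agent.Lib.Disp.Witt
import Mathlib.LinearAlgebra.FreeModule.Finite.Basic

/-!
# Displays: elementary identities and coordinates
-/

open WittVector Groth.Agent.Lib.Disp.Witt
open W4c1extbt610 (IV Display3n IsHom verschiebung_mem_IV)

universe u v w

namespace Groth.Agent.Lib.Disp.Basic

noncomputable section

variable {p : ℕ} [hp : Fact p.Prime] {R : Type u} [CommRing R]

set_option hygiene false in
local notation "𝕨" => WittVector p R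
set_option hygiene false in
local notation "σ" => (WittVector.frobenius : WittVector p R →+* WittVector p R)

variable {P : Type v} [AddCommGroup P] [Module 𝕨 P]

/-- Coordinates on a finite projective module. -/
theorem exists_coords (D : Display3n p R P) :
    ∃ (n : ℕ) (f : Fin n → (P →ₗ[𝕨] 𝕨)) (e : Fin n → P), ∀ x : P, ∑ j, f j x • e j = x := by
  have := D.finite
  have := D.projective
  obtain ⟨n, s, i, -, -, hsi⟩ := Module.Finite.exists_comp_eq_id_of_projective 𝕨 P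
  refine ⟨n, fun j => (LinearMap.proj j).comp i, fun j => s (Pi.single j 1), fun x => ?_⟩
  conv_rhs => rw [show x = s (i x) from (LinearMap.congr_fun hsi x).symm, ← Finset.univ_sum_single (i x),
    map_sum]
  refine Finset.sum_congr rfl fun j _ => ?_
  rw [LinearMap.comp_apply, LinearMap.proj_apply, ← map_smul, ← Pi.single_smul, smul_eq_mul, mul_one]

theorem apply_mem_of_mem_smul_top {𝔠 : Ideal 𝕨} {z : P} (hz : z ∈ 𝔠 • (⊤ : Submodule 𝕨 P))
    (g : P →ₗ[𝕨] 𝕨) : g z ∈ 𝔠 := by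
  refine Submodule.smul_induction_on hz (fun c hc x _ => ?_) fun x y hx hy => ?_
  · rw [map_smul, smul_eq_mul]; exact Ideal.mul_mem_right _ _ hc
  · rw [map_add]; exact Ideal.add_mem _ hx hy

theorem mem_smul_top_of_coords {n : ℕ} {f : Fin n → (P →ₗ[𝕨] 𝕨)} {e : Fin n → P}
    (hfe : ∀ x : P, ∑ j, f j x • e j = x) {𝔠 : Ideal 𝕨} {z : P} (h : ∀ j, f j z ∈ 𝔠) :
    z ∈ 𝔠 • (⊤ : Submodule 𝕨 P) := by
  rw [← hfe z]
  exact Submodule.sum_mem _ fun j _ => Submodule.smul_mem_smul (h j) Submodule.mem_top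

theorem F_apply_Q (D : Display3n p R P) (y : D.Q) : D.F (y : P) = (p : 𝕨) • D.Vinv y := by
  have h := D.Vinv_verschiebung_smul 1 (y : P)
  rw [one_smul] at h
  rw [← h]
  have : (⟨verschiebung (1 : 𝕨) • (y : P),
      D.IV_smul_le (Submodule.smul_mem_smul (verschiebung_mem_IV p R 1) Submodule.mem_top)⟩ : D.Q) =
      verschiebung (1 : 𝕨) • y := rfl
  rw [this, map_smulₛₗ, frobenius_verschiebung, one_mul]

theorem Vinv_eq_of_eq (D : Display3n p R P) {y z : P} (hy : y ∈ D.Q) (hz : z ∈ D.Q) (h : y = z) :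
    D.Vinv ⟨y, hy⟩ = D.Vinv ⟨z, hz⟩ := by subst h; rfl

/-- Linear maps out of `P` are determined on the `V⁻¹ y`. -/
theorem ext_Vinv (D : Display3n p R P) {N : Type w} [AddCommGroup N] [Module 𝕨 N]
    {φ ψ : P →ₗ[𝕨] N} (h : ∀ y : D.Q, φ (D.Vinv y) = ψ (D.Vinv y)) : φ = ψ :=
  LinearMap.ext_on D.span_range_Vinv fun _ ⟨y, hy⟩ => hy ▸ h y

variable {D : Display3n p R P} {Vs : P →ₗ[𝕨] Dieu.BC σ P}

theorem Vs_Vinv (h : Dieu.IsVSharp D Vs) (y : D.Q) :
    Vs (D.Vinv y) = Dieu.BC.tmul σ 1 (y : P) := by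
  simpa using h.app_smul_Vinv 1 y

theorem Vs_F (h : Dieu.IsVSharp D Vs) (x : P) :
    Vs (D.F x) = (p : 𝕨) • Dieu.BC.tmul σ 1 x := by
  simpa using h.app_smul_F 1 x

theorem lift_F_comp_Vs (h : Dieu.IsVSharp D Vs) :
    (Dieu.BC.lift σ D.F).comp Vs = (p : 𝕨) • LinearMap.id :=
  ext_Vinv D fun y => by
    rw [LinearMap.comp_apply, Vs_Vinv h, Dieu.BC.lift_tmul, one_smul, F_apply_Q]
    rfl

theorem Vs_comp_lift_F (h : Dieu.IsVSharp D Vs) :
    Vs.comp (Dieu.BC.lift σ D.F) = (p : 𝕨) • LinearMap.id :=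
  Dieu.BC.ext σ fun x => by
    rw [LinearMap.comp_apply, Dieu.BC.lift_tmul, one_smul, Vs_F h]
    rfl

end

end Groth.Agent.Lib.Disp.Basic
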