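import Groth.Agent.S14864
import Groth.Agent.Lib.Disp.Witt
import Mathlib.RingTheory.AdicCompletion.Basic
import Mathlib.LinearAlgebra.Matrix.ToLin
import Mathlib.Tactic.NoncommRing
import Mathlib.LinearAlgebra.FreeModule.Finite.Basic
import Mathlib.Algebra.Module.Projective

/-!
# Completeness of `W(R)` for p-adically complete `R`, idempotent lifting, normal decompositions
-/

open WittVector Groth.Agent.Lib.Disp.Witt
open W4c1extbt610 (IV)

universe u v

namespace Groth.Agent.Lib.Disp.Complete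

noncomputable section

variable {p : ℕ} [hp : Fact p.Prime] {R : Type u} [CommRing R]

set_option hygiene false in
local notation "𝕨" => WittVector p R

/-- The kernel of `W(R) → W_n(R/p^n)`. -/
def J (n : ℕ) : Ideal 𝕨 :=
  RingHom.ker ((WittVector.truncate (p := p) n).comp
    (WittVector.map (Ideal.Quotient.mk (Ideal.span {(p : R)} ^ n))))

theorem mem_J {n : ℕ} {x y : 𝕨} :
    x - y ∈ J n ↔ ∀ i < n, x.coeff i - y.coeff i ∈ Ideal.span {(p : R)} ^ n := by
  rw [J, RingHom.mem_ker, map_sub, sub_eq_zero]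
  simp only [RingHom.comp_apply]
  rw [TruncatedWittVector.ext_iff]
  simp only [WittVector.coeff_truncate, WittVector.map_coeff, Ideal.Quotient.eq]
  exact ⟨fun h i hi => h ⟨i, hi⟩, fun h i => h i i.2⟩

theorem exists_pow_IV_le_J (n : ℕ) : ∃ m : ℕ, IV p R ^ m ≤ J n := by
  let f : R →+* R ⧸ Ideal.span {(p : R)} ^ n := Ideal.Quotient.mk _
  have hn : IsNilpotent (p : R ⧸ Ideal.span {(p : R)} ^ n) := ⟨n, by
    rw [← map_natCast f, ← map_pow, Ideal.Quotient.eq_zero_iff_mem]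
    exact Ideal.pow_mem_pow (Ideal.mem_span_singleton_self _) n⟩
  obtain ⟨h1, -, h3⟩ := Groth.Agent.S14864.result p _ hn
  obtain ⟨a, ha⟩ := h3 n
  obtain ⟨m, hm⟩ := h1 a
  refine ⟨m, fun x hx => ?_⟩
  rw [J, RingHom.mem_ker, RingHom.comp_apply]
  refine RingHom.mem_ker.1 (ha ?_)
  refine hm ?_
  have h := Ideal.mem_map_of_mem (WittVector.map f) hx
  rw [Ideal.map_pow] at h
  refine Ideal.pow_right_mono ?_ m h
  rw [Ideal.map_le_iff_le_comap]
  intro y hy
  rw [Ideal.mem_comap, RingHom.mem_ker]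
  change f (y.coeff 0) = 0
  rw [mem_IV.1 hy, map_zero]

variable [IsAdicComplete (Ideal.span {(p : R)}) R]

omit hp in
theorem eq_zero_of_forall {x : R} (h : ∀ n, x ∈ Ideal.span {(p : R)} ^ n) : x = 0 :=
  IsHausdorff.haus (IsAdicComplete.toIsHausdorff (I := Ideal.span {(p : R)})) x fun n => by
    rw [SModEq.zero, smul_eq_mul, Ideal.mul_top]; exact h n

theorem ext_J {x y : 𝕨} (h : ∀ n, x - y ∈ J n) : x = y := by
  ext i
  refine sub_eq_zero.1 (eq_zero_of_forall (p := p) fun n => ?_)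
  exact Ideal.pow_le_pow_right (le_max_left n (i + 1))
    (mem_J.1 (h (max n (i + 1))) i (lt_of_lt_of_le i.lt_succ_self (le_max_right _ _)))

theorem exists_limit (s : ℕ → 𝕨) (hs : ∀ n, ∃ K, ∀ k ≥ K, s k - s K ∈ J n) :
    ∃ L, ∀ n, ∃ K, ∀ k ≥ K, s k - L ∈ J n := by
  choose K hK using hs
  let b : ℕ → ℕ → R := fun i n => (s (K (max n (i + 1)))).coeff i
  have hcong : ∀ i a k, K (max a (i + 1)) ≤ k →
      (s k).coeff i - b i a ∈ Ideal.span {(p : R)} ^ a := fun i a k hk =>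
    Ideal.pow_le_pow_right (le_max_left _ _)
      (mem_J.1 (hK _ k hk) i (lt_of_lt_of_le i.lt_succ_self (le_max_right _ _)))
  have hb : ∀ i {m n}, m ≤ n → b i m ≡ b i n [SMOD (Ideal.span {(p : R)} ^ m • ⊤ : Ideal R)] := by
    intro i m n hmn
    rw [SModEq.sub_mem, smul_eq_mul, Ideal.mul_top]
    let k := max (K (max m (i + 1))) (K (max n (i + 1)))
    have h := Ideal.sub_mem _ (Ideal.pow_le_pow_right hmn (hcong i n k (le_max_right _ _)))
      (hcong i m k (le_max_left _ _))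
    simpa using h
  choose L hL using fun i =>
    IsPrecomplete.prec (IsAdicComplete.toIsPrecomplete (I := Ideal.span {(p : R)})) (hb i)
  refine ⟨WittVector.mk p L, fun n => ⟨K n, fun k hk => mem_J.2 fun i hi => ?_⟩⟩
  have h1 := hL i n
  rw [SModEq.sub_mem, smul_eq_mul, Ideal.mul_top] at h1
  have hn : max n (i + 1) = n := max_eq_left hi
  have h := Ideal.add_mem _ (hcong i n k (by rw [hn]; exact hk)) h1
  simpa using h

variable {N : Type*} [Fintype N] [DecidableEq N]

/-- Lifting idempotents along `W(R) → R`. -/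
theorem exists_idempotent (A : Matrix N N 𝕨) (E : Matrix N N 𝕨)
    (hA : ∀ a b, (A * A - A) a b ∈ IV p R) (hEA : E * A = A) (hAE : A * E = A) :
    ∃ e : Matrix N N 𝕨, e * e = e ∧ E * e = e ∧ e * E = e ∧ ∀ a b, (e - A) a b ∈ IV p R := by
  let step : Matrix N N 𝕨 → Matrix N N 𝕨 := fun x => 3 * (x * x) - 2 * (x * x * x)
  let X : ℕ → Matrix N N 𝕨 := fun k => step^[k] A
  have hX : ∀ k, X (k + 1) = step (X k) := fun k => Function.iterate_succ_apply' _ _ _
  have hE : ∀ k, E * X k = X k ∧ X k * E = X k := by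
    intro k
    induction k with
    | zero => exact ⟨hEA, hAE⟩
    | succ k ih =>
      rw [hX]
      simp only [step]
      constructor
      · rw [mul_sub, show E * (3 * (X k * X k)) = 3 * (E * X k * X k) by noncomm_ring,
          show E * (2 * (X k * X k * X k)) = 2 * (E * X k * X k * X k) by noncomm_ring, ih.1]
      · rw [sub_mul, show 3 * (X k * X k) * E = 3 * (X k * (X k * E)) by noncomm_ring,
          show 2 * (X k * X k * X k) * E = 2 * (X k * X k * (X k * E)) by noncomm_ring, ih.2]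
  let φ : ∀ 𝔞 : Ideal 𝕨, Matrix N N 𝕨 →+* Matrix N N (𝕨 ⧸ 𝔞) := fun 𝔞 => (Ideal.Quotient.mk 𝔞).mapMatrix
  have hφ : ∀ (𝔞 : Ideal 𝕨) (x y : Matrix N N 𝕨), φ 𝔞 x = φ 𝔞 y ↔ ∀ a b, x a b - y a b ∈ 𝔞 := by
    intro 𝔞 x y
    simp [φ, ← Matrix.ext_iff, Ideal.Quotient.eq]
  have hmul : ∀ (𝔞 𝔟 : Ideal 𝕨) (x y : Matrix N N 𝕨), (∀ a b, x a b ∈ 𝔞) → (∀ a b, y a b ∈ 𝔟) →
      ∀ a b, (x * y) a b ∈ 𝔞 * 𝔟 := fun 𝔞 𝔟 x y hx hy a b => by
    rw [Matrix.mul_apply]
    exact Ideal.sum_mem _ fun c _ => Ideal.mul_mem_mul (hx a c) (hy c b)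
  have hd : ∀ k, ∀ a b, (X k * X k - X k) a b ∈ IV p R ^ (k + 1) := by
    intro k
    induction k with
    | zero =>
      simp only [X, Function.iterate_zero_apply, zero_add, pow_one]
      exact hA
    | succ k ih =>
      intro a b
      have he : X (k + 1) * X (k + 1) - X (k + 1) =
          (X k * X k - X k) * (X k * X k - X k) * (4 * (X k * X k - X k) - 3) := by
        rw [hX]; simp only [step]; noncomm_ring
      have h2 := hmul _ ⊤ _ (4 * (X k * X k - X k) - 3) (hmul _ _ _ _ ih ih)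
        (fun _ _ => Submodule.mem_top) a b
      rw [he]
      have h3 := Ideal.mul_le_left h2
      rw [← pow_add] at h3
      exact Ideal.pow_le_pow_right (by omega) h3
  have hdiff : ∀ (𝔞 : Ideal 𝕨) (K : ℕ), IV p R ^ (K + 1) ≤ 𝔞 → ∀ k ≥ K, φ 𝔞 (X k) = φ 𝔞 (X K) := by
    intro 𝔞 K hK k hk
    induction k, hk using Nat.le_induction with
    | base => rfl
    | succ k hk ih =>
      rw [← ih, ← sub_eq_zero, ← map_sub, show X (k + 1) - X k = -((X k * X k - X k) * (2 * X k - 1)) by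
        rw [hX]; simp only [step]; noncomm_ring, map_neg, map_mul, neg_eq_zero]
      have : φ 𝔞 (X k * X k - X k) = φ 𝔞 0 := (hφ _ _ _).2 fun a b => by
        rw [Matrix.zero_apply, sub_zero]
        exact hK (Ideal.pow_le_pow_right (by omega) (hd k a b))
      rw [this, map_zero, zero_mul]
  choose m hm using exists_pow_IV_le_J (p := p) (R := R)
  have hlim : ∀ a b, ∃ L, ∀ n, ∃ K, ∀ k ≥ K, X k a b - L ∈ J n := by
    intro a b
    refine exists_limit _ fun n => ⟨m n, fun k hk => ?_⟩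
    exact (hφ _ _ _).1 (hdiff (J n) (m n) ((Ideal.pow_le_pow_right (by omega)).trans (hm n)) k hk) a b
  choose e0 he using hlim
  obtain ⟨e, rfl⟩ : ∃ e : Matrix N N 𝕨, e0 = fun a b => e a b := ⟨Matrix.of e0, rfl⟩
  choose K hK using he
  have hlim' : ∀ n, ∃ k, m n ≤ k ∧ φ (J n) (X k) = φ (J n) e := fun n => by
    refine ⟨max (m n) (Finset.univ.sup fun ab : N × N => K ab.1 ab.2 n), le_max_left _ _, ?_⟩
    exact (hφ _ _ _).2 fun a b => hK a b n _
      ((Finset.le_sup (f := fun ab : N × N => K ab.1 ab.2 n) (Finset.mem_univ (a, b))).trans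
        (le_max_right _ _))
  have hext : ∀ x y : Matrix N N 𝕨, (∀ n, φ (J n) x = φ (J n) y) → x = y := fun x y h => by
    ext1 a b
    exact ext_J fun n => (hφ _ _ _).1 (h n) a b
  refine ⟨e, hext _ _ fun n => ?_, hext _ _ fun n => ?_, hext _ _ fun n => ?_, fun a b => ?_⟩
  · obtain ⟨k, hk, h⟩ := hlim' n
    rw [map_mul, ← h, ← map_mul]
    refine (hφ _ _ _).2 fun a b => ?_
    exact hm n (Ideal.pow_le_pow_right (by omega) (hd k a b))
  · obtain ⟨k, hk, h⟩ := hlim' n
    rw [map_mul, ← h, ← map_mul, (hE k).1]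
  · obtain ⟨k, hk, h⟩ := hlim' n
    rw [map_mul, ← h, ← map_mul, (hE k).2]
  · rw [mem_IV, Matrix.sub_apply]
    have h0 : ∀ k, φ (IV p R) (X k) = φ (IV p R) A := fun k =>
      hdiff _ 0 (by rw [zero_add, pow_one]) k (Nat.zero_le k)
    rw [← WittVector.constantCoeff_apply, map_sub]
    refine eq_zero_of_forall (p := p) fun n => ?_
    obtain ⟨k, hk, h⟩ := hlim' (n + 1)
    have h1 := Ideal.pow_le_pow_right n.le_succ
      (mem_J.1 ((hφ _ _ _).1 h.symm a b) 0 n.succ_pos)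
    have h2 := mem_IV.1 ((hφ _ _ _).1 (h0 k) a b)
    rw [← WittVector.constantCoeff_apply, map_sub, sub_eq_zero] at h2
    rw [← h2]
    exact h1

theorem exists_normal {P : Type v} [AddCommGroup P] [Module 𝕨 P] [Module.Finite 𝕨 P] [Module.Projective 𝕨 P]
    (Q C : Submodule 𝕨 P) (hsup : Q ⊔ C = ⊤) (hinf : Q ⊓ C = IV p R • (⊤ : Submodule 𝕨 P)) :
    ∃ L T : Submodule 𝕨 P, IsCompl L T ∧ Q = L ⊔ IV p R • T := by
  classical
  obtain ⟨n, s, i, -, -, hsi⟩ := Module.Finite.exists_comp_eq_id_of_projective 𝕨 P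
  have hsi' : ∀ x, s (i x) = x := fun x => LinearMap.congr_fun hsi x
  have hIP : IV p R • (⊤ : Submodule 𝕨 P) ≤ Q := hinf ▸ inf_le_left
  have hsurj : Function.Surjective (C.mkQ.comp Q.subtype) := fun z => by
    obtain ⟨x, rfl⟩ := C.mkQ_surjective z
    obtain ⟨q, hq, c, hc, rfl⟩ := Submodule.mem_sup.1 (hsup ▸ Submodule.mem_top : x ∈ Q ⊔ C)
    exact ⟨⟨q, hq⟩, (Submodule.Quotient.eq _).2 (by simpa using hc)⟩
  obtain ⟨ξ0, hξ0⟩ := Module.projective_lifting_property _ C.mkQ hsurj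
  let ξ : P →ₗ[𝕨] P := Q.subtype.comp ξ0
  have hξC : ∀ x, ξ x - x ∈ C := fun x =>
    (Submodule.Quotient.eq _).1 (LinearMap.congr_fun hξ0 x)
  have hξQ : ∀ x, ξ x ∈ Q := fun x => (ξ0 x).2
  have hξid : ∀ x ∈ Q, ξ x - x ∈ IV p R • (⊤ : Submodule 𝕨 P) := fun x hx =>
    hinf ▸ ⟨Submodule.sub_mem _ (hξQ x) hx, hξC x⟩
  let A := LinearMap.toMatrix' (i.comp (ξ.comp s))
  let E := LinearMap.toMatrix' (i.comp s)
  have hEA : E * A = A := by
    rw [← LinearMap.toMatrix'_comp]
    exact congrArg _ (LinearMap.ext fun v => by simp [hsi'])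
  have hAE : A * E = A := by
    rw [← LinearMap.toMatrix'_comp]
    exact congrArg _ (LinearMap.ext fun v => by simp [hsi'])
  have hA : ∀ a b, (A * A - A) a b ∈ IV p R := by
    intro a b
    rw [← LinearMap.toMatrix'_comp, Matrix.sub_apply]
    simp only [A, LinearMap.toMatrix'_apply, LinearMap.comp_apply, hsi']
    rw [← Pi.sub_apply, ← map_sub]
    refine Submodule.smul_induction_on (hξid _ (hξQ (s (Pi.single b 1))))
      (fun c hc y _ => ?_) fun x y hx hy => ?_
    · rw [map_smul, Pi.smul_apply, smul_eq_mul]; exact Ideal.mul_mem_right _ _ hc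
    · rw [map_add, Pi.add_apply]; exact Ideal.add_mem _ hx hy
  obtain ⟨e, hee, hEe, heE, heA⟩ := exists_idempotent A E hA hEA hAE
  let ε : P →ₗ[𝕨] P := s.comp ((Matrix.toLin' e).comp i)
  have hε : ∀ x, ε (ε x) = ε x := fun x => by
    have h := congrArg (fun M => Matrix.toLin' M) (show e * E * e = e by rw [heE, hee])
    simp only [Matrix.toLin'_mul, E, Matrix.toLin'_toMatrix'] at h
    have h2 := LinearMap.congr_fun h (i x)
    simp only [LinearMap.comp_apply] at h2
    simp only [ε, LinearMap.comp_apply]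
    rw [h2]
  have hεξ : ∀ x, ε x - ξ x ∈ IV p R • (⊤ : Submodule 𝕨 P) := by
    intro x
    have h1 : ξ x = s (Matrix.toLin' A (i x)) := by simp [A, Matrix.toLin'_toMatrix', hsi']
    have h2 : ε x - ξ x = s (Matrix.toLin' (e - A) (i x)) := by
      rw [h1, map_sub, LinearMap.sub_apply, map_sub]; rfl
    rw [h2, ← Finset.univ_sum_single (Matrix.toLin' (e - A) (i x)), map_sum]
    refine Submodule.sum_mem _ fun a _ => ?_
    rw [show (Pi.single a (Matrix.toLin' (e - A) (i x) a) : Fin n → 𝕨) =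
      Matrix.toLin' (e - A) (i x) a • Pi.single a 1 by rw [← Pi.single_smul, smul_eq_mul, mul_one],
      map_smul]
    refine Submodule.smul_mem_smul ?_ Submodule.mem_top
    rw [Matrix.toLin'_apply]
    change ∑ b, (e - A) a b * i x b ∈ IV p R
    exact Ideal.sum_mem _ fun b _ => Ideal.mul_mem_right _ _ (heA a b)
  have hεQ : ∀ x, ε x ∈ Q := fun x => by
    have := Submodule.add_mem _ (hξQ x) (hIP (hεξ x))
    simpa using this
  refine ⟨LinearMap.range ε, LinearMap.ker ε, ⟨?_, ?_⟩, le_antisymm (fun q hq => ?_) (sup_le ?_ ?_)⟩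
  · rw [Submodule.disjoint_def]
    rintro _ ⟨x, rfl⟩ hx
    rw [LinearMap.mem_ker, hε] at hx
    exact hx
  · rw [codisjoint_iff, eq_top_iff]
    intro x _
    rw [show x = ε x + (x - ε x) by abel]
    exact Submodule.add_mem_sup ⟨x, rfl⟩ (by rw [LinearMap.mem_ker, map_sub, hε, sub_self])
  · rw [show q = ε q + (q - ε q) by abel]
    refine Submodule.add_mem_sup ⟨q, rfl⟩ ?_
    have h1 : q - ε q ∈ IV p R • (⊤ : Submodule 𝕨 P) := by
      have := Submodule.neg_mem _ (Submodule.add_mem _ (hεξ q) (hξid q hq))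
      simpa using this
    have h2 := Submodule.mem_map_of_mem (f := LinearMap.id - ε) h1
    rw [Submodule.map_smul''] at h2
    simp only [LinearMap.sub_apply, LinearMap.id_apply, map_sub, hε, sub_self, sub_zero] at h2
    refine Submodule.smul_mono le_rfl ?_ h2
    rintro _ ⟨z, -, rfl⟩
    simp [hε]
  · rintro _ ⟨x, rfl⟩
    exact hεQ x
  · exact (Submodule.smul_mono le_rfl le_top).trans hIP

end

end Groth.Agent.Lib.Disp.Complete
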