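import Groth.Agent.Lib.Disp.VSharp
import Mathlib.Data.Matrix.Block
import Mathlib.Algebra.CharP.Lemmas
import Mathlib.LinearAlgebra.Matrix.Notation

/-!
# The matrix criterion for the nilpotence condition
-/

open WittVector Groth.Agent.Lib.Disp.Witt Groth.Agent.Lib.Disp.Basic
open W4c1extbt610 (IV Display3n IsHom verschiebung_mem_IV)

universe u v w

namespace Groth.Agent.Lib.Disp.Criterion

noncomputable section

variable {p : ℕ} [hp : Fact p.Prime] {R : Type u} [CommRing R]

set_option hygiene false in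
local notation "𝕨" => WittVector p R
set_option hygiene false in
local notation "σ" => (WittVector.frobenius : WittVector p R →+* WittVector p R)

/-- `W(R) → R/pR`. -/
def red : 𝕨 →+* R ⧸ Ideal.span {(p : R)} :=
  (Ideal.Quotient.mk _).comp WittVector.constantCoeff

theorem red_apply (x : 𝕨) : red x = Ideal.Quotient.mk (Ideal.span {(p : R)}) (x.coeff 0) := rfl

omit hp in
theorem natCast_quot : ((p : ℕ) : R ⧸ Ideal.span {(p : R)}) = 0 := by
  rw [← map_natCast (Ideal.Quotient.mk _), Ideal.Quotient.eq_zero_iff_mem]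
  exact Ideal.mem_span_singleton_self _

theorem red_eq_zero {x : 𝕨} : red x = 0 ↔ x ∈ IV p R ⊔ Ideal.span {(p : 𝕨)} := by
  constructor
  · intro h
    rw [red_apply, Ideal.Quotient.eq_zero_iff_mem, Ideal.mem_span_singleton] at h
    obtain ⟨r, hr⟩ := h
    refine Submodule.mem_sup.2 ⟨x - (p : 𝕨) * teichmuller p r, ?_, (p : 𝕨) * teichmuller p r,
      Ideal.mem_span_singleton.2 ⟨_, rfl⟩, by abel⟩
    rw [IV_eq_ker, RingHom.mem_ker, map_sub, map_mul, map_natCast]
    change x.coeff 0 - (p : R) * (teichmuller p r).coeff 0 = 0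
    rw [teichmuller_coeff_zero, hr, sub_self]
  · intro h
    obtain ⟨a, ha, b, hb, rfl⟩ := Submodule.mem_sup.1 h
    obtain ⟨c, rfl⟩ := Ideal.mem_span_singleton.1 hb
    rw [map_add, map_mul, map_natCast, natCast_quot, zero_mul, add_zero, red_apply, mem_IV.1 ha,
      map_zero]

theorem red_frobenius (x : 𝕨) : red (σ x) = red x ^ p := by
  rw [red_apply, red_apply, coeff_frobenius_eq, map_add, map_mul, map_pow, map_natCast,
    natCast_quot, zero_mul, add_zero]

theorem add_pow_p {A : Type*} [CommRing A] (hA : ((p : ℕ) : A) = 0) (x y : A) :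
    (x + y) ^ p = x ^ p + y ^ p := by
  obtain ⟨r, hr⟩ := exists_add_pow_prime_eq hp.out x y
  rw [hr, hA]; ring

/-- The `p`-power map on `R/pR`. -/
def frq : R ⧸ Ideal.span {(p : R)} →+* R ⧸ Ideal.span {(p : R)} where
  toFun x := x ^ p
  map_one' := one_pow p
  map_mul' x y := mul_pow x y p
  map_zero' := zero_pow hp.out.ne_zero
  map_add' x y := add_pow_p natCast_quot x y

variable {m : Type w} [Fintype m] [DecidableEq m]

/-- `B^{(p^n)} ⋯ B^{(p)} B`, by recursion on the right. -/
def twProd {A : Type*} [CommRing A] (f : A →+* A) (B : Matrix m m A) : ℕ → Matrix m m A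
  | 0 => B
  | n + 1 => (twProd f B n).map f * B

theorem prod_eq_twProd (B : Matrix m m (R ⧸ Ideal.span {(p : R)})) (n : ℕ) :
    ((List.range (n + 1)).reverse.map fun i : ℕ => B.map fun x => x ^ p ^ i).prod = twProd frq B n := by
  induction n with
  | zero => simp [twProd]
  | succ n ih =>
    have h0 : (B.map fun x => x ^ p ^ 0) = B := by ext; simp
    rw [List.range_succ_eq_map, List.reverse_cons, List.map_append, List.prod_append, List.map_singleton,
      List.prod_singleton, h0, twProd, ← ih]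
    congr 1
    rw [← RingHom.mapMatrix_apply, map_list_prod, List.map_reverse, List.map_reverse, List.map_reverse,
      List.map_map, List.map_map]
    congr 1
    congr 1
    refine List.map_congr_left fun i _ => ?_
    ext a b
    change B a b ^ p ^ (i + 1) = (B a b ^ p ^ i) ^ p
    rw [← pow_mul, pow_succ]

variable {ιT ιL : Type w} [Fintype ιT] [Fintype ιL] [DecidableEq ιT] [DecidableEq ιL]
variable {P : Type v} [AddCommGroup P] [Module 𝕨 P]

/-- The matrix of `V#`. -/
def vsMatrix (β : Matrix (ιT ⊕ ιL) (ιT ⊕ ιL) 𝕨) : Matrix (ιT ⊕ ιL) (ιT ⊕ ιL) 𝕨 :=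
  Matrix.of fun j i => Sum.elim (fun _ => (p : 𝕨)) (fun _ => 1) j * β j i

theorem isDisplay_iff (hpn : IsNilpotent (p : R)) (D : Display3n p R P)
    (L T : Submodule 𝕨 P) (hLT : IsCompl L T) (hLQ : L ≤ D.Q)
    (bT : Module.Basis ιT 𝕨 T) (bL : Module.Basis ιL 𝕨 L)
    (α β : Matrix (ιT ⊕ ιL) (ιT ⊕ ιL) 𝕨) (hαβ : α * β = 1)
    (hF : ∀ j : ιT, D.F (bT j : P) =
      ∑ i, α i (Sum.inl j) • Sum.elim (fun a : ιT => (bT a : P)) (fun a : ιL => (bL a : P)) i)
    (hV : ∀ k : ιL, D.Vinv ⟨(bL k : P), hLQ (bL k).2⟩ =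
      ∑ i, α i (Sum.inr k) • Sum.elim (fun a : ιT => (bT a : P)) (fun a : ιL => (bL a : P)) i) :
    Dieu.IsDisplay D ↔ ∃ n : ℕ,
      twProd frq ((Matrix.of fun k l : ιL => β (Sum.inr k) (Sum.inr l)).map red) n = 0 := by
  classical
  let b : Module.Basis (ιT ⊕ ιL) 𝕨 P := (bT.prod bL).map (Submodule.prodEquivOfIsCompl T L hLT.symm)
  have hb : ∀ i, b i = Sum.elim (fun a : ιT => (bT a : P)) (fun a : ιL => (bL a : P)) i := by
    rintro (j | k) <;> simp [b]
  simp only [← hb] at hF hV
  -- the columns of `α`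
  let φ : ιT ⊕ ιL → P := fun j => ∑ i, α i j • b i
  have hbφ : ∀ i, b i = ∑ j, β j i • φ j := by
    intro i
    simp only [φ, Finset.smul_sum, smul_smul]
    rw [Finset.sum_comm]
    have : ∀ k, (∑ j, (β j i * α k j) • b k) = (1 : Matrix (ιT ⊕ ιL) (ιT ⊕ ιL) 𝕨) k i • b k := by
      intro k
      rw [← Finset.sum_smul, ← hαβ, Matrix.mul_apply]
      exact congrArg (· • b k) (Finset.sum_congr rfl fun j _ => mul_comm _ _)
    simp only [this]
    simp [Matrix.one_apply]
  have hφV : ∀ {Vs}, Dieu.IsVSharp D Vs → ∀ i,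
      Vs (b i) = ∑ j, vsMatrix β j i • Dieu.BC.tmul σ 1 (b j) := by
    intro Vs hVs i
    conv_lhs => rw [hbφ i]
    rw [map_sum]
    refine Finset.sum_congr rfl fun j _ => ?_
    rw [map_smul, vsMatrix, Matrix.of_apply, mul_comm, mul_smul]
    congr 1
    rcases j with j | k
    · change Vs (φ (Sum.inl j)) = _
      rw [show φ (Sum.inl j) = D.F (bT j : P) from (hF j).symm, Vs_F hVs, hb]
      rfl
    · change Vs (φ (Sum.inr k)) = _
      rw [show φ (Sum.inr k) = D.Vinv ⟨(bL k : P), hLQ (bL k).2⟩ from (hV k).symm, Vs_Vinv hVs, hb]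
      simp
  let M : ℕ → Matrix (ιT ⊕ ιL) (ιT ⊕ ιL) 𝕨 := twProd σ (vsMatrix β)
  have hpow : ∀ {Vs}, Dieu.IsVSharp D Vs → ∀ n i,
      Dieu.vSharpPow Vs n (b i) = ∑ j, M n j i • Dieu.BC.tmul (σ ^ (n + 1)) 1 (b j) := by
    intro Vs hVs n
    induction n with
    | zero =>
      intro i
      rw [Dieu.vSharpPow_zero_apply, hφV hVs, map_sum]
      exact Finset.sum_congr rfl fun j _ => by rw [map_smul, Dieu.BC.castHom_tmul]; rfl
    | succ n ih =>
      intro i
      rw [Dieu.vSharpPow_succ_apply, hφV hVs, map_sum, map_sum, map_sum]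
      have h1 : ∀ k, Dieu.BC.castHom (Dieu.comp_pow_eq_pow_succ σ (n + 1))
          (Dieu.BC.lift σ (Dieu.BC.push (σ ^ (n + 1)) σ)
            (Dieu.BC.map σ (Dieu.vSharpPow Vs n) (vsMatrix β k i • Dieu.BC.tmul σ 1 (b k)))) =
          vsMatrix β k i • ∑ j, σ (M n j k) • Dieu.BC.tmul (σ ^ (n + 1 + 1)) 1 (b j) := by
        intro k
        rw [map_smul, map_smul, map_smul, Dieu.BC.map_tmul, ih, Dieu.BC.lift_tmul, one_smul, map_sum,
          map_sum]
        congr 1
        refine Finset.sum_congr rfl fun j _ => ?_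
        rw [map_smulₛₗ, map_smul, Dieu.BC.push_tmul, map_one, Dieu.BC.castHom_tmul]
      simp only [h1, Finset.smul_sum, smul_smul]
      rw [Finset.sum_comm]
      refine Finset.sum_congr rfl fun j _ => ?_
      rw [← Finset.sum_smul]
      congr 1
      change _ = ((M n).map σ * vsMatrix β) j i
      rw [Matrix.mul_apply]
      exact Finset.sum_congr rfl fun k _ => mul_comm _ _
  -- reduction
  let B := (Matrix.of fun k l : ιL => β (Sum.inr k) (Sum.inr l)).map red
  let C := (Matrix.of fun (k : ιL) (l : ιT) => β (Sum.inr k) (Sum.inl l)).map red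
  have hN : (vsMatrix β).map red = Matrix.fromBlocks 0 0 C B := by
    ext a c
    rcases a with a | a <;> rcases c with c | c <;>
      simp [vsMatrix, Matrix.fromBlocks, B, C, natCast_quot]
  have hM : ∀ n, (M (n + 1)).map red =
      Matrix.fromBlocks 0 0 ((twProd frq B n).map frq * C) (twProd frq B (n + 1)) ∧
      (M n).map red = twProd frq (Matrix.fromBlocks 0 0 C B) n := by
    have hall : ∀ n, (M n).map red = twProd frq (Matrix.fromBlocks 0 0 C B) n := by
      intro n
      induction n with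
      | zero => exact hN
      | succ n ih =>
        change ((M n).map σ * vsMatrix β).map red = _
        rw [Matrix.map_mul, hN, twProd, ← ih]
        congr 1
        ext a c
        exact red_frobenius _
    have hblk : ∀ n, ∃ E, twProd frq (Matrix.fromBlocks (0 : Matrix ιT ιT _) 0 C B) n =
        Matrix.fromBlocks 0 0 E (twProd frq B n) ∧ ∀ m, n = m + 1 → E = (twProd frq B m).map frq * C := by
      intro n
      induction n with
      | zero => exact ⟨C, rfl, fun m hm => by omega⟩
      | succ n ih =>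
        obtain ⟨E, hE, -⟩ := ih
        refine ⟨(twProd frq B n).map frq * C, ?_, fun m hm => by cases hm; rfl⟩
        rw [twProd, hE, Matrix.fromBlocks_map, Matrix.fromBlocks_multiply]
        simp [twProd]
    intro n
    refine ⟨?_, hall n⟩
    obtain ⟨E, hE, hE'⟩ := hblk (n + 1)
    rw [hall, hE, hE' n rfl]
  constructor
  · rintro ⟨Vs, hVs, n, hn⟩
    refine ⟨n, ?_⟩
    have hcoef : ∀ j i, red (M n j i) = 0 := by
      intro j i
      rw [red_eq_zero]
      let g : P →ₛₗ[σ ^ (n + 1)] 𝕨 :=
        { toFun := fun x => (σ ^ (n + 1)) (b.repr x j)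
          map_add' := fun x y => by simp
          map_smul' := fun c x => by simp }
      have hmem := hn (b i)
      rw [hpow hVs] at hmem
      have := Submodule.mem_map_of_mem (f := Dieu.BC.lift (σ ^ (n + 1)) g) hmem
      rw [Submodule.map_smul''] at this
      have h2 := Submodule.smul_mono (le_refl (IV p R ⊔ Ideal.span {(p : 𝕨)})) le_top this
      rw [Ideal.smul_eq_mul, Ideal.mul_top, map_sum] at h2
      have hg : ∀ k, g (b k) = if k = j then 1 else 0 := by
        intro k
        change (σ ^ (n + 1)) (b.repr (b k) j) = _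
        rw [Module.Basis.repr_self, Finsupp.single_apply]
        split <;> simp only [map_one, map_zero]
      simpa only [map_smul, Dieu.BC.lift_tmul, one_smul, hg, smul_eq_mul, mul_ite, mul_one, mul_zero,
        Finset.sum_ite_eq', Finset.mem_univ, if_true] using h2
    have : (M n).map red = 0 := by ext j i; exact hcoef j i
    rcases n with _ | n
    · change (Matrix.of fun k l : ιL => β (Sum.inr k) (Sum.inr l)).map red = 0
      ext k l
      have h := hcoef (Sum.inr k) (Sum.inr l)
      simpa [M, twProd, vsMatrix] using h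
    · rw [(hM n).1] at this
      have := congrArg Matrix.toBlocks₂₂ this
      rw [Matrix.toBlocks_fromBlocks₂₂] at this
      exact this
  · rintro ⟨n, hn⟩
    obtain ⟨Vs, hVs, -⟩ := VSharp.exists_unique_VSharp hpn D
    refine ⟨Vs, hVs, n + 1, fun x => ?_⟩
    have hz : (M (n + 1)).map red = 0 := by
      rw [(hM n).1, show twProd frq B (n + 1) = 0 by rw [twProd, hn]; simp, hn]
      simp
    rw [← b.sum_repr x, map_sum]
    refine Submodule.sum_mem _ fun i _ => ?_
    rw [map_smul, hpow hVs]
    refine Submodule.smul_mem _ _ (Submodule.sum_mem _ fun j _ => Submodule.smul_mem_smul ?_ Submodule.mem_top)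
    rw [← red_eq_zero]
    exact congrFun (congrFun hz j) i

end

end Groth.Agent.Lib.Disp.Criterion
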