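import Mathlib.LinearAlgebra.Matrix.Charpoly.Coeff
import Mathlib.LinearAlgebra.Matrix.ToLin
import Mathlib.LinearAlgebra.Basis.VectorSpace
import Mathlib.RingTheory.Ideal.Quotient.Basic
import Mathlib.Tactic.NoncommRing

/-!
# Generalized inverses from exactness at the closed fibres
-/

universe u

namespace Groth.Agent.Lib.Disp.GenInv

noncomputable section

variable {k : Type u} [CommRing k] {N : Type*} [Fintype N] [DecidableEq N]

theorem aeval_mul_eq (A X Y : Matrix N N k) (h : X * A = A * Y) (q : Polynomial k) :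
    Polynomial.aeval X q * A = A * Polynomial.aeval Y q := by
  induction q using Polynomial.induction_on' with
  | add a b ha hb => rw [map_add, map_add, add_mul, mul_add, ha, hb]
  | monomial n c =>
    rw [Polynomial.aeval_monomial, Polynomial.aeval_monomial, ← Algebra.smul_def, ← Algebra.smul_def,
      smul_mul_assoc, mul_smul_comm]
    congr 1
    exact ((show SemiconjBy A Y X from h.symm).pow_right n).eq.symm

omit [Fintype N] [DecidableEq N] in
theorem exists_geninv_field {K : Type u} [Field K] (f : (N → K) →ₗ[K] (N → K)) :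
    ∃ g : (N → K) →ₗ[K] (N → K), ∀ v, f (g (f v)) = f v := by
  obtain ⟨r, hr⟩ := Module.projective_lifting_property f.rangeRestrict LinearMap.id f.surjective_rangeRestrict
  obtain ⟨g, hg⟩ := LinearMap.exists_extend r
  refine ⟨g, fun v => ?_⟩
  have h1 : g (f v) = r ⟨f v, v, rfl⟩ := LinearMap.congr_fun hg ⟨f v, v, rfl⟩
  rw [h1]
  exact congrArg Subtype.val (LinearMap.congr_fun hr ⟨f v, v, rfl⟩)

theorem exists_geninv (A B E : Matrix N N k) (hEA : E * A = A) (hBA : B * A = 0)
    (hfib : ∀ 𝔪 : Ideal k, 𝔪.IsMaximal → ∀ v : N → k, (∀ i, B.mulVec v i ∈ 𝔪) →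
      ∃ u : N → k, ∀ i, E.mulVec v i - A.mulVec u i ∈ 𝔪) :
    ∃ W : Matrix N N k, A * W * A = A := by
  classical
  let I : Ideal k :=
    { carrier := {c | ∃ W : Matrix N N k, A * W * A = c • A}
      zero_mem' := ⟨0, by simp⟩
      add_mem' := by
        rintro a b ⟨Wa, ha⟩ ⟨Wb, hb⟩
        exact ⟨Wa + Wb, by rw [mul_add, add_mul, ha, hb, add_smul]⟩
      smul_mem' := by
        rintro c a ⟨Wa, ha⟩
        exact ⟨c • Wa, by rw [mul_smul_comm, smul_mul_assoc, ha, smul_smul, smul_eq_mul]⟩ }
  by_cases hI : I = ⊤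
  · obtain ⟨W, hW⟩ := (Ideal.eq_top_iff_one I).1 hI
    exact ⟨W, by rw [hW, one_smul]⟩
  exfalso
  obtain ⟨𝔪, h𝔪, hle⟩ := Ideal.exists_le_maximal I hI
  let _ : Field (k ⧸ 𝔪) := Ideal.Quotient.field 𝔪
  let φ := (Ideal.Quotient.mk 𝔪).mapMatrix (m := N)
  obtain ⟨g, hg⟩ := exists_geninv_field (Matrix.toLin' (φ B))
  choose G hG using fun a b => Ideal.Quotient.mk_surjective (LinearMap.toMatrix' g a b)
  let G' : Matrix N N k := Matrix.of G
  have hBGB : φ (B * G' * B) = φ B := by
    have h1 : φ G' = LinearMap.toMatrix' g := by ext a b; exact hG a b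
    refine Matrix.toLin'.injective (LinearMap.ext fun v => ?_)
    rw [RingHom.map_mul, RingHom.map_mul, h1, Matrix.toLin'_mul, Matrix.toLin'_mul, Matrix.toLin'_toMatrix']
    exact hg v
  let P : Matrix N N k := 1 - G' * B
  have hP : ∀ j i, B.mulVec (fun a => P a j) i ∈ 𝔪 := by
    intro j i
    rw [← Ideal.Quotient.eq_zero_iff_mem]
    have h : φ (B * P) = 0 := by rw [mul_sub, mul_one, ← mul_assoc, map_sub, hBGB, sub_self]
    exact congrFun (congrFun h i) j
  choose S hS using fun j => hfib 𝔪 h𝔪 _ (hP j)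
  let S' : Matrix N N k := Matrix.of fun a j => S j a
  let X : Matrix N N k := A * S' + E * G' * B + (1 - E)
  have hX : φ X = 1 := by
    have h : φ (E * P) = φ (A * S') := by
      ext i j
      exact (Ideal.Quotient.eq (I := 𝔪)).2 (hS j i)
    rw [← map_one φ, show X = A * S' - E * P + 1 by simp only [X, P]; noncomm_ring, map_add, map_sub,
      h, sub_self, zero_add]
  have hXA : X * A = A * (S' * A) := by
    simp only [X, add_mul, sub_mul, one_mul, mul_assoc, hBA, hEA, mul_zero, add_zero, sub_self]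
  have hmem : X.charpoly.coeff 0 ∈ I := by
    refine ⟨-(Polynomial.aeval (S' * A) X.charpoly.divX * S'), ?_⟩
    have h0 := X.aeval_self_charpoly
    conv at h0 => lhs; rw [← X.charpoly.divX_mul_X_add]
    rw [map_add, map_mul, Polynomial.aeval_X, Polynomial.aeval_C, add_eq_zero_iff_eq_neg] at h0
    have h1 := congrArg (· * A) h0
    simp only [neg_mul, ← Algebra.smul_def, mul_assoc, hXA] at h1
    rw [← mul_assoc, aeval_mul_eq A X (S' * A) hXA, eq_comm, neg_eq_iff_eq_neg] at h1
    rw [h1]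
    simp only [mul_assoc, mul_neg, neg_mul]
  have hdet : X.det ∈ 𝔪 := by
    rw [Matrix.det_eq_sign_charpoly_coeff]
    exact Ideal.mul_mem_left _ _ (hle hmem)
  rw [← Ideal.Quotient.eq_zero_iff_mem, RingHom.map_det] at hdet
  change (φ X).det = 0 at hdet
  rw [hX, Matrix.det_one] at hdet
  exact one_ne_zero hdet

end

end Groth.Agent.Lib.Disp.GenInv
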