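import Groth.Agent.Lib.Disp.Witt
import Groth.Agent.Lib.Disp.GenInv
import Mathlib.Algebra.Module.Torsion.Basic
import Mathlib.Algebra.Module.Projective
import Mathlib.RingTheory.Finiteness.Projective
import Mathlib.RingTheory.WittVector.Identities
import Mathlib.FieldTheory.Perfect

/-!
# Dieudonné modules over perfect rings: exactness modulo `p`, projectivity of `M/VM`
-/

open WittVector Groth.Agent.Lib.Disp.Witt
open W4c1extbt610 (IV)

universe u v

namespace Groth.Agent.Lib.Disp.Dieudonne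

noncomputable section

variable {p : ℕ} [hp : Fact p.Prime] {k : Type u} [CommRing k] [CharP k p]

set_option hygiene false in
local notation "𝕨" => WittVector p k

/-- The preimage of an ideal under `W(k) → k`. -/
def til (𝔞 : Ideal k) : Ideal 𝕨 := Ideal.comap WittVector.constantCoeff 𝔞

omit [CharP k p] in
theorem mem_til {𝔞 : Ideal k} {x : 𝕨} : x ∈ til 𝔞 ↔ x.coeff 0 ∈ 𝔞 := Iff.rfl

theorem p_mul_eq (w : 𝕨) : (p : 𝕨) * w = verschiebung (WittVector.frobenius w) := by
  rw [WittVector.verschiebung_frobenius, mul_comm]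

theorem coeff_zero_pow_mem {𝔞 : Ideal k} {w : 𝕨} (h : (p : 𝕨) * w ∈ WI 𝔞) : w.coeff 0 ^ p ∈ 𝔞 := by
  have := mem_WI.1 h 1
  rwa [p_mul_eq, verschiebung_coeff_succ, coeff_frobenius_charP] at this

theorem frobenius_mem {𝔞 : Ideal k} {x : 𝕨} (hx : x ∈ WI 𝔞) : WittVector.frobenius x ∈ WI 𝔞 :=
  mem_WI.2 fun n => by
    rw [coeff_frobenius_charP]
    exact Ideal.pow_mem_of_mem _ (mem_WI.1 hx n) p hp.out.pos

theorem isRadical_bot [PerfectRing k p] : (⊥ : Ideal k).IsRadical := by
  intro x hx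
  obtain ⟨n, hn⟩ := hx
  rw [Ideal.mem_bot] at hn ⊢
  have h : x ^ p ^ n = 0 := pow_eq_zero_of_le (Nat.lt_pow_self hp.out.one_lt).le hn
  exact (injective_iff_map_eq_zero (iterateFrobenius k p n)).1 (bijective_iterateFrobenius k p n).injective x
    (by rw [iterateFrobenius_def, h])

variable [PerfectRing k p]

set_option hygiene false in
local notation "σ" => (WittVector.frobenius : WittVector p k →+* WittVector p k)
set_option hygiene false in
local notation "σ'" => ((WittVector.frobeniusEquiv p k).symm : WittVector p k →+* WittVector p k)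

theorem σ_σ' (x : 𝕨) : σ (σ' x) = x := (WittVector.frobeniusEquiv p k).apply_symm_apply x

theorem σ'_σ (x : 𝕨) : σ' (σ x) = x := (WittVector.frobeniusEquiv p k).symm_apply_apply x

theorem verschiebung_eq (u : 𝕨) : verschiebung u = (p : 𝕨) * σ' u := by
  rw [p_mul_eq, σ_σ']

theorem p_mul_cancel {w : 𝕨} (h : (p : 𝕨) * w = 0) : w = 0 := by
  rw [p_mul_eq] at h
  have h1 : σ w = 0 := by
    ext n
    have := congrArg (fun x : 𝕨 => x.coeff (n + 1)) h
    simpa [verschiebung_coeff_succ] using this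
  rw [← σ'_σ w, h1, map_zero]

theorem span_p_eq : Ideal.span {(p : 𝕨)} = til (⊥ : Ideal k) := by
  refine le_antisymm ?_ fun x hx => ?_
  · rw [Ideal.span_singleton_le_iff_mem, til, Ideal.mem_comap, map_natCast, Ideal.mem_bot, CharP.cast_eq_zero]
  · rw [eq_verschiebung (Ideal.mem_bot.1 hx), verschiebung_eq]
    exact Ideal.mul_mem_right _ _ (Ideal.mem_span_singleton_self _)

theorem frobenius_symm_mem {𝔞 : Ideal k} (h𝔞 : 𝔞.IsRadical) {x : 𝕨} (hx : x ∈ WI 𝔞) : σ' x ∈ WI 𝔞 :=
  mem_WI.2 fun n => h𝔞 ⟨p, by rw [← coeff_frobenius_charP, σ_σ']; exact mem_WI.1 hx n⟩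

theorem til_le (𝔞 : Ideal k) : til 𝔞 ≤ WI 𝔞 ⊔ Ideal.span {(p : 𝕨)} := by
  intro x hx
  rw [eq_teich_add x, verschiebung_eq]
  refine Submodule.add_mem_sup (mem_WI.2 fun n => ?_) (Ideal.mul_mem_right _ _ (Ideal.mem_span_singleton_self _))
  rcases n with _ | n
  · rw [teichmuller_coeff_zero]; exact hx
  · rw [teichmuller_coeff_pos p _ _ n.succ_pos]; exact zero_mem _

omit [CharP k p] [PerfectRing k p] in
theorem WI_le_til (𝔞 : Ideal k) : WI (p := p) 𝔞 ≤ til 𝔞 := fun _ hx => mem_WI.1 hx 0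

variable {M : Type v} [AddCommGroup M] [Module 𝕨 M]

omit [CharP k p] [PerfectRing k p] in
theorem semilinear_mem {τ : 𝕨 →+* 𝕨} (f : M →ₛₗ[τ] M) {I : Ideal 𝕨} (hτ : ∀ c ∈ I, τ c ∈ I) {x : M}
    (hx : x ∈ I • (⊤ : Submodule 𝕨 M)) : f x ∈ I • (⊤ : Submodule 𝕨 M) := by
  refine Submodule.smul_induction_on hx (fun c hc y _ => ?_) fun a b ha hb => by
    rw [map_add]; exact add_mem ha hb
  rw [map_smulₛₗ]
  exact Submodule.smul_mem_smul (hτ c hc) Submodule.mem_top

/-- The torsion condition satisfied by projective and truncated Dieudonné modules. -/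
def PTorsionControl (M : Type v) [AddCommGroup M] [Module 𝕨 M] : Prop :=
  ∀ 𝔞 : Ideal k, 𝔞.IsRadical → ∀ x : M, (p : 𝕨) • x ∈ WI (p := p) 𝔞 • (⊤ : Submodule 𝕨 M) →
    x ∈ til (p := p) 𝔞 • (⊤ : Submodule 𝕨 M)

theorem exists_split {𝔞 : Ideal k} {z : M} (hz : z ∈ til (p := p) 𝔞 • (⊤ : Submodule 𝕨 M)) :
    ∃ y z', z' ∈ WI (p := p) 𝔞 • (⊤ : Submodule 𝕨 M) ∧ z = (p : 𝕨) • y + z' := by
  have h := Submodule.smul_mono (til_le 𝔞) le_rfl hz
  rw [Submodule.sup_smul] at h
  obtain ⟨a, ha, b, hb, rfl⟩ := Submodule.mem_sup.1 h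
  rw [Submodule.ideal_span_singleton_smul] at hb
  obtain ⟨y, -, rfl⟩ := hb
  exact ⟨y, a, ha, add_comm _ _⟩

variable (F : M →ₛₗ[σ] M) (V : M →ₛₗ[σ'] M)
  (hFV : ∀ m : M, F (V m) = (p : 𝕨) • m) (hVF : ∀ m : M, V (F m) = (p : 𝕨) • m)

include hFV hVF in
theorem exact_V (hT : PTorsionControl (p := p) (k := k) M) {𝔞 : Ideal k} (h𝔞 : 𝔞.IsRadical) {x : M}
    (hx : V x ∈ til (p := p) 𝔞 • (⊤ : Submodule 𝕨 M)) :
    ∃ y, x - F y ∈ til (p := p) 𝔞 • (⊤ : Submodule 𝕨 M) := by
  obtain ⟨y, z, hz, he⟩ := exists_split hx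
  refine ⟨y, hT 𝔞 h𝔞 _ ?_⟩
  rw [← hFV, map_sub, hVF, he, add_sub_cancel_left]
  exact semilinear_mem F (fun c hc => frobenius_mem hc) hz

include hFV hVF in
theorem exact_F (hT : PTorsionControl (p := p) (k := k) M) {𝔞 : Ideal k} (h𝔞 : 𝔞.IsRadical) {x : M}
    (hx : F x ∈ til (p := p) 𝔞 • (⊤ : Submodule 𝕨 M)) :
    ∃ y, x - V y ∈ til (p := p) 𝔞 • (⊤ : Submodule 𝕨 M) := by
  obtain ⟨y, z, hz, he⟩ := exists_split hx
  refine ⟨y, hT 𝔞 h𝔞 _ ?_⟩
  rw [← hVF, map_sub, hFV, he, add_sub_cancel_left]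
  exact semilinear_mem V (fun c hc => frobenius_symm_mem h𝔞 hc) hz

include hFV hVF in
theorem comap_F (hT : PTorsionControl (p := p) (k := k) M) :
    (Ideal.span {(p : 𝕨)} • (⊤ : Submodule 𝕨 M)).comap F =
      Submodule.span 𝕨 (Set.range V) ⊔ Ideal.span {(p : 𝕨)} • (⊤ : Submodule 𝕨 M) := by
  refine le_antisymm (fun x hx => ?_) (sup_le ?_ fun x hx => ?_)
  · rw [Submodule.mem_comap, span_p_eq] at hx
    obtain ⟨y, hy⟩ := exact_F F V hFV hVF hT isRadical_bot hx
    rw [← add_sub_cancel (V y) x, span_p_eq]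
    exact Submodule.add_mem_sup (Submodule.subset_span ⟨y, rfl⟩) hy
  · rw [Submodule.span_le]
    rintro _ ⟨y, rfl⟩
    rw [SetLike.mem_coe, Submodule.mem_comap, hFV]
    exact Submodule.smul_mem_smul (Ideal.mem_span_singleton_self _) Submodule.mem_top
  · refine semilinear_mem F (fun c hc => ?_) hx
    obtain ⟨d, rfl⟩ := Ideal.mem_span_singleton.1 hc
    rw [map_mul, map_natCast]
    exact Ideal.mul_mem_right _ _ (Ideal.mem_span_singleton_self _)

include hFV hVF in
theorem comap_V (hT : PTorsionControl (p := p) (k := k) M) :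
    (Ideal.span {(p : 𝕨)} • (⊤ : Submodule 𝕨 M)).comap V =
      Submodule.span 𝕨 (Set.range F) ⊔ Ideal.span {(p : 𝕨)} • (⊤ : Submodule 𝕨 M) := by
  refine le_antisymm (fun x hx => ?_) (sup_le ?_ fun x hx => ?_)
  · rw [Submodule.mem_comap, span_p_eq] at hx
    obtain ⟨y, hy⟩ := exact_V F V hFV hVF hT isRadical_bot hx
    rw [← add_sub_cancel (F y) x, span_p_eq]
    exact Submodule.add_mem_sup (Submodule.subset_span ⟨y, rfl⟩) hy
  · rw [Submodule.span_le]
    rintro _ ⟨y, rfl⟩
    rw [SetLike.mem_coe, Submodule.mem_comap, hVF]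
    exact Submodule.smul_mem_smul (Ideal.mem_span_singleton_self _) Submodule.mem_top
  · refine semilinear_mem V (fun c hc => ?_) hx
    obtain ⟨d, rfl⟩ := Ideal.mem_span_singleton.1 hc
    rw [map_mul, map_natCast]
    exact Ideal.mul_mem_right _ _ (Ideal.mem_span_singleton_self _)

set_option maxHeartbeats 800000 in
include hFV hVF in
theorem projective_coker (hT : PTorsionControl (p := p) (k := k) M) {n : ℕ}
    (g : Fin n → (M →ₛₗ[(WittVector.constantCoeff : 𝕨 →+* k)] k)) (e : Fin n → M)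
    (hge : ∀ x, x - ∑ j, teichmuller p (g j x) • e j ∈ Ideal.span {(p : 𝕨)} • (⊤ : Submodule 𝕨 M)) :
    Module.Projective (𝕨 ⧸ Ideal.span {(p : 𝕨)})
      ((M ⧸ (Ideal.span {(p : 𝕨)} • (⊤ : Submodule 𝕨 M))) ⧸
        Submodule.span (𝕨 ⧸ Ideal.span {(p : 𝕨)})
          (Set.range fun m : M => (Ideal.span {(p : 𝕨)} • (⊤ : Submodule 𝕨 M)).mkQ (V m))) := by
  classical
  let pM : Submodule 𝕨 M := Ideal.span {(p : 𝕨)} • ⊤
  have hgp : ∀ x ∈ pM, ∀ j, g j x = 0 := by
    intro x hx j
    refine Submodule.smul_induction_on hx (fun c hc y _ => ?_) fun a b ha hb => by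
      rw [map_add, ha, hb, add_zero]
    rw [span_p_eq] at hc
    rw [map_smulₛₗ, show WittVector.constantCoeff c = 0 from Ideal.mem_bot.1 hc, zero_smul]
  have hkey : ∀ {𝔞 : Ideal k} (x : M), (∀ j, g j x ∈ 𝔞) → x ∈ til (p := p) 𝔞 • (⊤ : Submodule 𝕨 M) := by
    intro 𝔞 x hx
    rw [show x = (x - ∑ j, teichmuller p (g j x) • e j) + ∑ j, teichmuller p (g j x) • e j by abel]
    refine Submodule.add_mem _ ?_ (Submodule.sum_mem _ fun j _ =>
      Submodule.smul_mem_smul ?_ Submodule.mem_top)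
    · refine Submodule.smul_mono ?_ le_rfl (hge x)
      rw [span_p_eq]; exact Ideal.comap_mono bot_le
    · rw [mem_til, teichmuller_coeff_zero]; exact hx j
  have hgtil : ∀ {𝔞 : Ideal k} {x : M}, x ∈ til (p := p) 𝔞 • (⊤ : Submodule 𝕨 M) → ∀ j, g j x ∈ 𝔞 := by
    intro 𝔞 x hx j
    refine Submodule.smul_induction_on hx (fun c hc y _ => ?_) fun a b ha hb => by
      rw [map_add]; exact Ideal.add_mem _ ha hb
    rw [map_smulₛₗ, smul_eq_mul]
    exact Ideal.mul_mem_right _ _ hc
  have hgsum : ∀ (v : Fin n → 𝕨) i, g i (∑ j, v j • e j) = ∑ j, (v j).coeff 0 * g i (e j) := by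
    intro v i
    rw [map_sum]
    exact Finset.sum_congr rfl fun j _ => by rw [map_smulₛₗ]; rfl
  let E : Matrix (Fin n) (Fin n) k := Matrix.of fun i j => g i (e j)
  let A : Matrix (Fin n) (Fin n) k := Matrix.of fun i j => g i (F (e j))
  let B : Matrix (Fin n) (Fin n) k := Matrix.of fun i j => g i (V (e j)) ^ p
  have hE : ∀ x i, g i x = ∑ j, E i j * g j x := by
    intro x i
    have h := hgp _ (hge x) i
    rw [map_sub, sub_eq_zero, hgsum] at h
    rw [h]
    exact Finset.sum_congr rfl fun j _ => by rw [teichmuller_coeff_zero, mul_comm]; rfl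
  have hA : ∀ x i, g i (F x) = ∑ j, A i j * g j x ^ p := by
    intro x i
    have h1 : F (x - ∑ j, teichmuller p (g j x) • e j) ∈ pM := semilinear_mem F (fun c hc => by
      obtain ⟨d, rfl⟩ := Ideal.mem_span_singleton.1 hc
      rw [map_mul, map_natCast]
      exact Ideal.mul_mem_right _ _ (Ideal.mem_span_singleton_self _)) (hge x)
    have h := hgp _ h1 i
    rw [map_sub, map_sub, sub_eq_zero, map_sum, map_sum] at h
    rw [h]
    refine Finset.sum_congr rfl fun j _ => ?_
    rw [map_smulₛₗ, map_smulₛₗ, smul_eq_mul, mul_comm, WittVector.constantCoeff_apply,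
      coeff_frobenius_charP, teichmuller_coeff_zero]
    rfl
  have hB : ∀ x i, g i (V x) ^ p = ∑ j, B i j * g j x := by
    intro x i
    have h1 : V (x - ∑ j, teichmuller p (g j x) • e j) ∈ pM := semilinear_mem V (fun c hc => by
      obtain ⟨d, rfl⟩ := Ideal.mem_span_singleton.1 hc
      rw [map_mul, map_natCast]
      exact Ideal.mul_mem_right _ _ (Ideal.mem_span_singleton_self _)) (hge x)
    have h := hgp _ h1 i
    rw [map_sub, map_sub, sub_eq_zero, map_sum, map_sum] at h
    rw [h, ← frobenius_def, map_sum]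
    refine Finset.sum_congr rfl fun j _ => ?_
    rw [map_smulₛₗ, map_smulₛₗ, smul_eq_mul, map_mul, mul_comm, frobenius_def, frobenius_def,
      WittVector.constantCoeff_apply, ← coeff_frobenius_charP, σ_σ', teichmuller_coeff_zero]
    rfl
  have hEA : E * A = A := by
    ext i j
    rw [Matrix.mul_apply]
    exact (hE (F (e j)) i).symm
  have hBA : B * A = 0 := by
    ext i j
    rw [Matrix.mul_apply]
    refine (hB (F (e j)) i).symm.trans ?_
    rw [hVF, hgp _ (Submodule.smul_mem_smul (Ideal.mem_span_singleton_self _) Submodule.mem_top) i,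
      zero_pow hp.out.ne_zero]
    rfl
  obtain ⟨W, hW⟩ := GenInv.exists_geninv A B E hEA hBA fun 𝔪 h𝔪 v hv => by
    let x : M := ∑ j, teichmuller p (v j) • e j
    have hx : ∀ i, g i x = E.mulVec v i := fun i => by
      simp only [x]
      rw [hgsum]
      exact Finset.sum_congr rfl fun j _ => by rw [teichmuller_coeff_zero, mul_comm]; rfl
    have hV : ∀ i, g i (V x) ∈ 𝔪 := fun i => by
      refine h𝔪.isPrime.mem_of_pow_mem p ?_
      rw [hB]
      have : (∑ j, B i j * g j x) = B.mulVec v i := by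
        simp only [hx]
        rw [show (∑ j, B i j * E.mulVec v j) = B.mulVec (E.mulVec v) i from rfl, Matrix.mulVec_mulVec]
        congr 2
        ext a b
        rw [Matrix.mul_apply]
        exact ((hB (e b) a).symm.trans rfl)
      rw [this]
      exact hv i
    obtain ⟨y, hy⟩ := exact_V F V hFV hVF hT h𝔪.isPrime.isRadical (hkey _ hV)
    refine ⟨fun j => g j y ^ p, fun i => ?_⟩
    have := hgtil hy i
    rw [map_sub, hx, hA] at this
    exact this
  -- the identification of `W/pW` with `k`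
  let K := 𝕨 ⧸ Ideal.span {(p : 𝕨)}
  let ι : k → K := fun r => Ideal.Quotient.mk _ (teichmuller p r)
  have hι : ∀ w : 𝕨, ι (w.coeff 0) = Ideal.Quotient.mk _ w := by
    intro w
    rw [Ideal.Quotient.eq, span_p_eq, til, Ideal.mem_comap, Ideal.mem_bot, map_sub, sub_eq_zero]
    exact teichmuller_coeff_zero p _
  have hιadd : ∀ a b, ι (a + b) = ι a + ι b := fun a b => by
    have h := hι (teichmuller p a + teichmuller p b)
    rw [← WittVector.constantCoeff_apply, map_add] at h
    simp only [WittVector.constantCoeff_apply, teichmuller_coeff_zero] at h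
    rw [h, map_add]
  have hιmul : ∀ (w : 𝕨) (b : k), ι (w.coeff 0 * b) = Ideal.Quotient.mk _ w * ι b := fun w b => by
    have h := hι (w * teichmuller p b)
    rw [← WittVector.constantCoeff_apply, map_mul] at h
    simp only [WittVector.constantCoeff_apply, teichmuller_coeff_zero] at h
    rw [h, map_mul]
  let τ : k →+* k := ((frobeniusEquiv k p).symm : k →+* k)
  have hτ : ∀ r, τ r ^ p = r := fun r => by
    rw [← frobenius_def]; exact (frobeniusEquiv k p).apply_symm_apply r
  have hτ' : ∀ r, τ (r ^ p) = r := fun r => by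
    rw [← frobenius_def]; exact (frobeniusEquiv k p).symm_apply_apply r
  let ψ0 : M →ₗ[𝕨] (Fin n → K) :=
    { toFun := fun x j => ι (τ (W.mulVec (fun i => g i (F x)) j))
      map_add' := fun x y => funext fun j => by
        change ι _ = ι _ + ι _
        rw [← hιadd, ← map_add]
        congr 2
        rw [← Pi.add_apply, ← Matrix.mulVec_add]
        exact congrArg (fun u => W.mulVec u j) (funext fun i => by rw [map_add, map_add]; rfl)
      map_smul' := fun w x => funext fun j => by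
        change ι _ = Ideal.Quotient.mk _ w * ι _
        rw [← hιmul]
        congr 1
        rw [show (fun i => g i (F (w • x))) = (w.coeff 0 ^ p) • fun i => g i (F x) from funext fun i => by
          rw [map_smulₛₗ, map_smulₛₗ, WittVector.constantCoeff_apply, coeff_frobenius_charP]; rfl,
          Matrix.mulVec_smul, Pi.smul_apply, smul_eq_mul, map_mul, hτ'] }
  have hψ0 : ∀ x, F x ∈ pM → ψ0 x = 0 := fun x hx => funext fun j => by
    change ι (τ (W.mulVec (fun i => g i (F x)) j)) = 0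
    rw [show (fun i => g i (F x)) = 0 from funext (hgp _ hx), Matrix.mulVec_zero, Pi.zero_apply, map_zero]
    simp [ι]
  let ψ1 : (M ⧸ pM) →ₗ[𝕨] (Fin n → K) := pM.liftQ ψ0 fun x hx => hψ0 x
    (semilinear_mem F (fun c hc => by
      obtain ⟨d, rfl⟩ := Ideal.mem_span_singleton.1 hc
      rw [map_mul, map_natCast]
      exact Ideal.mul_mem_right _ _ (Ideal.mem_span_singleton_self _)) hx)
  let ψ2 : (M ⧸ pM) →ₗ[K] (Fin n → K) :=
    { toFun := ψ1
      map_add' := map_add ψ1
      map_smul' := fun c z => by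
        obtain ⟨w, rfl⟩ := Ideal.Quotient.mk_surjective c
        exact map_smul ψ1 w z }
  let S := Submodule.span K (Set.range fun m : M => pM.mkQ (V m))
  let ψ : ((M ⧸ pM) ⧸ S) →ₗ[K] (Fin n → K) := S.liftQ ψ2 (Submodule.span_le.2 (by
    rintro _ ⟨m, rfl⟩
    rw [SetLike.mem_coe, LinearMap.mem_ker]
    refine hψ0 (V m) ?_
    rw [hFV]
    exact Submodule.smul_mem_smul (Ideal.mem_span_singleton_self _) Submodule.mem_top))
  let π : (Fin n → K) →ₗ[K] ((M ⧸ pM) ⧸ S) :=
    Fintype.linearCombination K fun j => S.mkQ (pM.mkQ (e j))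
  refine Module.Projective.of_split ψ π (LinearMap.ext fun z => ?_)
  obtain ⟨z, rfl⟩ := S.mkQ_surjective z
  obtain ⟨x, rfl⟩ := pM.mkQ_surjective z
  let c : Fin n → k := fun j => τ (W.mulVec (fun i => g i (F x)) j)
  let x' : M := ∑ j, teichmuller p (c j) • e j
  have hπ : π (ψ (S.mkQ (pM.mkQ x))) = S.mkQ (pM.mkQ x') := by
    simp only [x', map_sum]
    rw [Fintype.linearCombination_apply]
    refine Finset.sum_congr rfl fun j _ => ?_
    rfl
  rw [LinearMap.comp_apply, hπ, LinearMap.id_apply]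
  refine (Submodule.Quotient.eq S).2 ?_
  rw [← map_sub]
  have hF : F (x' - x) ∈ Ideal.span {(p : 𝕨)} • (⊤ : Submodule 𝕨 M) := by
    rw [span_p_eq]
    refine hkey _ fun i => ?_
    rw [Ideal.mem_bot, map_sub, map_sub, sub_eq_zero]
    have h1 : ∀ i, g i (F x) = A.mulVec (fun j => g j x ^ p) i := fun i => hA x i
    simp only [x']
    rw [map_sum, map_sum, h1]
    have h2 : ∀ j, g i (F (teichmuller p (c j) • e j)) = A i j * c j ^ p := fun j => by
      rw [map_smulₛₗ, map_smulₛₗ, smul_eq_mul, mul_comm, WittVector.constantCoeff_apply,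
        coeff_frobenius_charP, teichmuller_coeff_zero]
      rfl
    simp only [h2, c, hτ]
    rw [show (fun i => g i (F x)) = A.mulVec (fun j => g j x ^ p) from funext h1,
      ← show A.mulVec (W.mulVec (A.mulVec (fun j => g j x ^ p))) i = A.mulVec (fun j => g j x ^ p) i by
        rw [Matrix.mulVec_mulVec, Matrix.mulVec_mulVec, hW]]
    rfl
  have hmem := (comap_F F V hFV hVF hT).le hF
  obtain ⟨a, ha, b, hb, hab⟩ := Submodule.mem_sup.1 hmem
  rw [← hab, map_add, show pM.mkQ b = 0 from (Submodule.Quotient.mk_eq_zero _).2 hb, add_zero]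
  clear hab
  induction ha using Submodule.span_induction with
  | mem y hy => obtain ⟨m, rfl⟩ := hy; exact Submodule.subset_span ⟨m, rfl⟩
  | zero => rw [map_zero]; exact zero_mem _
  | add y z _ _ hy hz => rw [map_add]; exact add_mem hy hz
  | smul w y _ hy =>
    rw [map_smul]
    exact S.smul_mem (Ideal.Quotient.mk _ w) hy

end

end Groth.Agent.Lib.Disp.Dieudonne
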