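import Groth.Agent.Lib.Disp.Dieudonne
import Groth.Agent.Lib.Disp.Complete
import Mathlib.LinearAlgebra.FreeModule.Finite.Basic

/-!
# Coordinates for (truncated) Dieudonné modules, and the 3n-display of a Dieudonné module
-/

open WittVector Groth.Agent.Lib.Disp.Witt Groth.Agent.Lib.Disp.Dieudonne
open W4c1extbt610 (IV Display3n)

universe u v

namespace Groth.Agent.Lib.Disp.DieudonneProj

noncomputable section

variable {p : ℕ} [hp : Fact p.Prime] {k : Type u} [CommRing k] [CharP k p] [PerfectRing k p]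

set_option hygiene false in
local notation "𝕨" => WittVector p k
set_option hygiene false in
local notation "σ" => (WittVector.frobenius : WittVector p k →+* WittVector p k)
set_option hygiene false in
local notation "σ'" => ((WittVector.frobeniusEquiv p k).symm : WittVector p k →+* WittVector p k)

variable {M : Type v} [AddCommGroup M] [Module 𝕨 M]

theorem control_and_coords (K : Type u) [CommRing K] [Algebra 𝕨 K] [Module K M] [IsScalarTower 𝕨 K M]
    [Module.Finite K M] [Module.Projective K M] (hsurj : Function.Surjective (algebraMap 𝕨 K))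
    (hker : ∀ t, algebraMap 𝕨 K t = 0 → ∃ t', t = (p : 𝕨) * t' ∧ t'.coeff 0 = 0) :
    PTorsionControl (p := p) (k := k) M ∧
      ∃ (n : ℕ) (g : Fin n → (M →ₛₗ[(WittVector.constantCoeff : 𝕨 →+* k)] k)) (e : Fin n → M),
        ∀ x, x - ∑ j, teichmuller p (g j x) • e j ∈ Ideal.span {(p : 𝕨)} • (⊤ : Submodule 𝕨 M) := by
  classical
  obtain ⟨n, s, i, -, -, hsi⟩ := Module.Finite.exists_comp_eq_id_of_projective K M
  let e : Fin n → M := fun j => s (Pi.single j 1)
  have hsum : ∀ x (w : Fin n → 𝕨), (∀ j, algebraMap 𝕨 K (w j) = i x j) → ∑ j, w j • e j = x := by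
    intro x w hw
    conv_rhs => rw [show x = s (i x) from (LinearMap.congr_fun hsi x).symm, ← Finset.univ_sum_single (i x),
      map_sum]
    refine Finset.sum_congr rfl fun j _ => ?_
    rw [← algebraMap_smul K (w j) (e j), ← map_smul, ← Pi.single_smul, smul_eq_mul, mul_one, hw]
  have hiw : ∀ (w : 𝕨) x j, i (w • x) j = algebraMap 𝕨 K w * i x j := fun w x j => by
    rw [← algebraMap_smul K w x, map_smul]; rfl
  have hk0 : ∀ t, algebraMap 𝕨 K t = 0 → t.coeff 0 = 0 := fun t ht => by
    obtain ⟨t', rfl, -⟩ := hker t ht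
    rw [← WittVector.constantCoeff_apply, map_mul, map_natCast, CharP.cast_eq_zero, zero_mul]
  let π : K → k := fun c => (Function.surjInv hsurj c).coeff 0
  have hπ : ∀ w, π (algebraMap 𝕨 K w) = w.coeff 0 := fun w => by
    have h := hk0 (Function.surjInv hsurj (algebraMap 𝕨 K w) - w)
      (by rw [map_sub, Function.surjInv_eq hsurj, sub_self])
    rw [← WittVector.constantCoeff_apply, map_sub, sub_eq_zero] at h
    exact h
  refine ⟨fun 𝔞 h𝔞 x hx => ?_, n, fun j =>
    { toFun := fun x => π (i x j)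
      map_add' := fun x y => by
        obtain ⟨a, ha⟩ := hsurj (i x j)
        obtain ⟨b, hb⟩ := hsurj (i y j)
        rw [map_add, Pi.add_apply, ← ha, ← hb, ← map_add, hπ, hπ, hπ]
        exact map_add WittVector.constantCoeff a b
      map_smul' := fun w x => by
        obtain ⟨a, ha⟩ := hsurj (i x j)
        rw [hiw, ← ha, ← map_mul, hπ, hπ]
        exact map_mul WittVector.constantCoeff w a }, e, fun x => ?_⟩
  · choose w hw using fun j => hsurj (i x j)
    rw [← hsum x w hw]
    refine Submodule.sum_mem _ fun j _ => Submodule.smul_mem_smul ?_ Submodule.mem_top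
    have h1 : ∀ z ∈ WI (p := p) 𝔞 • (⊤ : Submodule 𝕨 M), i z j ∈ (WI (p := p) 𝔞).map (algebraMap 𝕨 K) := by
      intro z hz
      refine Submodule.smul_induction_on hz (fun c hc y _ => ?_) fun a b ha hb => by
        rw [map_add]; exact Ideal.add_mem _ ha hb
      rw [hiw]
      exact Ideal.mul_mem_right _ _ (Ideal.mem_map_of_mem _ hc)
    obtain ⟨u, hu, he⟩ := (Ideal.mem_map_iff_of_surjective _ hsurj).1 (h1 _ hx)
    obtain ⟨t', ht', h0⟩ := hker ((p : 𝕨) * w j - u) (by rw [map_sub, he, hiw, map_mul, hw, sub_self])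
    have h2 : (w j - t').coeff 0 ^ p ∈ 𝔞 := coeff_zero_pow_mem (by
      rw [mul_sub, ← ht']; simpa using hu)
    rw [mem_til]
    have h3 : (w j).coeff 0 = (w j - t').coeff 0 := by
      rw [← WittVector.constantCoeff_apply, ← WittVector.constantCoeff_apply, map_sub,
        show WittVector.constantCoeff t' = 0 from h0, sub_zero]
    rw [h3]
    exact h𝔞 ⟨p, h2⟩
  · choose w hw using fun j => hsurj (i x j)
    suffices h : (∑ j, w j • e j) - ∑ j, teichmuller p (π (i x j)) • e j ∈
        Ideal.span {(p : 𝕨)} • (⊤ : Submodule 𝕨 M) by rw [hsum x w hw] at h; exact h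
    rw [← Finset.sum_sub_distrib]
    refine Submodule.sum_mem _ fun j _ => ?_
    rw [← sub_smul]
    refine Submodule.smul_mem_smul ?_ Submodule.mem_top
    rw [span_p_eq, til, Ideal.mem_comap, Ideal.mem_bot, map_sub, sub_eq_zero]
    change (w j).coeff 0 = (teichmuller p (π (i x j))).coeff 0
    rw [teichmuller_coeff_zero, ← hw, hπ]

theorem control_and_coords_proj [Module.Finite 𝕨 M] [Module.Projective 𝕨 M] :
    PTorsionControl (p := p) (k := k) M ∧
      ∃ (n : ℕ) (g : Fin n → (M →ₛₗ[(WittVector.constantCoeff : 𝕨 →+* k)] k)) (e : Fin n → M),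
        ∀ x, x - ∑ j, teichmuller p (g j x) • e j ∈ Ideal.span {(p : 𝕨)} • (⊤ : Submodule 𝕨 M) :=
  control_and_coords 𝕨 Function.surjective_id fun _ ht => ⟨0, by simpa using ht, WittVector.zero_coeff p k 0⟩

theorem eq_zero_of_p_smul [Module.Finite 𝕨 M] [Module.Projective 𝕨 M] {x : M}
    (h : (p : 𝕨) • x = 0) : x = 0 := by
  obtain ⟨n, s, i, -, -, hsi⟩ := Module.Finite.exists_comp_eq_id_of_projective 𝕨 M
  have h1 : i x = 0 := funext fun j => p_mul_cancel <| by
    have := congrFun (congrArg i h) j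
    rwa [map_smul, map_zero, Pi.smul_apply, smul_eq_mul] at this
  have h2 := LinearMap.congr_fun hsi x
  rw [LinearMap.comp_apply, h1, map_zero] at h2
  exact h2.symm

variable (F : M →ₛₗ[σ] M) (V : M →ₛₗ[σ'] M)
  (hFV : ∀ m : M, F (V m) = (p : 𝕨) • m) (hVF : ∀ m : M, V (F m) = (p : 𝕨) • m)

include hFV hVF in
theorem exists_display [Module.Finite 𝕨 M] [Module.Projective 𝕨 M] :
    ∃ D : Display3n p k M, D.F = F ∧ (∀ x : M, x ∈ D.Q ↔ x ∈ Set.range V) ∧
      ∀ (m : M) (h : V m ∈ D.Q), D.Vinv ⟨V m, h⟩ = m := by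
  obtain ⟨hT, n, g, e, hge⟩ := control_and_coords_proj (p := p) (k := k) (M := M)
  have hproj := projective_coker F V hFV hVF hT g e hge
  have hinj : Function.Injective V := (injective_iff_map_eq_zero V).2 fun x hx =>
    eq_zero_of_p_smul (by rw [← hFV, hx, map_zero])
  have hsmul : ∀ (w : 𝕨) m, w • V m = V (σ w • m) := fun w m => by rw [map_smulₛₗ, σ'_σ]
  let Q : Submodule 𝕨 M :=
    { carrier := Set.range V
      zero_mem' := ⟨0, map_zero V⟩
      add_mem' := by rintro _ _ ⟨a, rfl⟩ ⟨b, rfl⟩; exact ⟨a + b, map_add V a b⟩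
      smul_mem' := by rintro w _ ⟨a, rfl⟩; exact ⟨σ w • a, (hsmul w a).symm⟩ }
  let pM : Submodule 𝕨 M := Ideal.span {(p : 𝕨)} • ⊤
  have hpQ : pM ≤ Q := by
    intro x hx
    rw [show pM = Ideal.span {(p : 𝕨)} • (⊤ : Submodule 𝕨 M) from rfl,
      Submodule.ideal_span_singleton_smul] at hx
    obtain ⟨y, -, rfl⟩ := hx
    exact ⟨F y, hVF y⟩
  let K := 𝕨 ⧸ Ideal.span {(p : 𝕨)}
  let S : Submodule K (M ⧸ pM) := Submodule.span K (Set.range fun m : M => pM.mkQ (V m))
  have hS : ∀ z ∈ S, ∀ x, pM.mkQ x = z → x ∈ Q := by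
    intro z hz
    induction hz using Submodule.span_induction with
    | mem z hz =>
      obtain ⟨m, rfl⟩ := hz
      intro x hx
      have := Q.add_mem ⟨m, rfl⟩ (hpQ ((Submodule.Quotient.eq pM).1 hx))
      simpa using this
    | zero => exact fun x hx => hpQ ((Submodule.Quotient.mk_eq_zero _).1 hx)
    | add a b _ _ ha hb =>
      intro x hx
      obtain ⟨a', ha'⟩ := pM.mkQ_surjective a
      have h1 := ha a' ha'
      have h2 := hb (x - a') (by rw [map_sub, hx, ha', add_sub_cancel_left])
      have := Q.add_mem h1 h2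
      simpa using this
    | smul c a _ ha =>
      intro x hx
      obtain ⟨w, rfl⟩ := Ideal.Quotient.mk_surjective c
      obtain ⟨a', ha'⟩ := pM.mkQ_surjective a
      have h1 := Q.smul_mem w (ha a' ha')
      have h2 : pM.mkQ (x - w • a') = 0 := by
        rw [map_sub, map_smul, hx, ha']; exact sub_self _
      have := Q.add_mem h1 (hpQ ((Submodule.Quotient.mk_eq_zero _).1 h2))
      simpa using this
  obtain ⟨sec, hsec⟩ := Module.projective_lifting_property (h := hproj) S.mkQ LinearMap.id S.mkQ_surjective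
  let C : Submodule 𝕨 M :=
    { carrier := {x | pM.mkQ x ∈ LinearMap.range sec}
      zero_mem' := by simp only [Set.mem_ofPred_eq, map_zero]; exact zero_mem _
      add_mem' := fun {a b} ha hb => by simp only [Set.mem_ofPred_eq, map_add]; exact add_mem ha hb
      smul_mem' := fun w a ha => by
        simp only [Set.mem_ofPred_eq, map_smul] at ha ⊢
        exact Submodule.smul_mem _ (Ideal.Quotient.mk _ w) ha }
  have hIV : IV p k = Ideal.span {(p : 𝕨)} := by
    rw [span_p_eq, IV_eq_ker]; rfl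
  have hQC : ∃ C : Submodule 𝕨 M, Q ⊔ C = ⊤ ∧ Q ⊓ C = IV p k • (⊤ : Submodule 𝕨 M) := by
    refine ⟨C, eq_top_iff.2 fun x _ => ?_, ?_⟩
    · obtain ⟨c, hc⟩ := pM.mkQ_surjective (sec (S.mkQ (pM.mkQ x)))
      rw [← sub_add_cancel x c]
      refine Submodule.add_mem_sup (hS _ ?_ _ rfl) ⟨_, hc.symm⟩
      rw [map_sub, hc, ← Submodule.Quotient.mk_eq_zero, Submodule.Quotient.mk_sub, sub_eq_zero]
      exact (LinearMap.congr_fun hsec (S.mkQ (pM.mkQ x))).symm
    · rw [hIV]
      refine le_antisymm ?_ (le_inf hpQ fun x hx => ?_)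
      · rintro x ⟨⟨m, rfl⟩, z, hz⟩
        have h1 : S.mkQ (pM.mkQ (V m)) = 0 :=
          (Submodule.Quotient.mk_eq_zero S).2 (Submodule.subset_span ⟨m, rfl⟩)
        rw [← hz] at h1
        rw [show S.mkQ (sec z) = z from LinearMap.congr_fun hsec z] at h1
        rw [h1, map_zero] at hz
        exact (Submodule.Quotient.mk_eq_zero _).1 hz.symm
      · change pM.mkQ x ∈ LinearMap.range sec
        rw [show pM.mkQ x = 0 from (Submodule.Quotient.mk_eq_zero _).2 hx]
        exact zero_mem _
  have : IsAdicComplete (Ideal.span {(p : k)}) k := by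
    rw [show Ideal.span {(p : k)} = ⊥ by rw [CharP.cast_eq_zero]; exact Ideal.span_singleton_eq_bot.2 rfl]
    infer_instance
  obtain ⟨C', hC'⟩ := hQC
  have hnormal := Complete.exists_normal Q C' hC'.1 hC'.2
  choose inv hinv using fun y : Q => y.2
  let Vi : Q →ₛₗ[σ] M :=
    { toFun := inv
      map_add' := fun a b => hinj (by rw [hinv, map_add, hinv, hinv]; rfl)
      map_smul' := fun w a => hinj (by rw [hinv, map_smulₛₗ, hinv, σ'_σ]; rfl) }
  have hVi : ∀ m h, Vi ⟨V m, h⟩ = m := fun m h => hinj (hinv _)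
  refine ⟨{ Q := Q, F := F, Vinv := Vi, finite := inferInstance, projective := inferInstance,
            IV_smul_le := hIV ▸ hpQ
            exists_normal := hnormal
            span_range_Vinv := eq_top_iff.2 fun m _ => Submodule.subset_span ⟨⟨V m, m, rfl⟩, hVi m _⟩
            Vinv_verschiebung_smul := fun w x => hinj ?_ }, rfl, fun x => Iff.rfl, hVi⟩
  refine (hinv _).trans ?_
  rw [map_smulₛₗ, hVF, smul_smul]
  change verschiebung w • x = _
  rw [verschiebung_eq, mul_comm]

end

end Groth.Agent.Lib.Disp.DieudonneProj
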