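import Groth.Agent.Lib.Disp.Basic
import Groth.Agent.Lib.Disp.BCExists
import Mathlib.LinearAlgebra.ExteriorPower.Basis
import Mathlib.LinearAlgebra.Projection

/-!
# Exterior powers of 3n-displays with tangent module of rank one
-/

open WittVector Groth.Agent.Lib.Disp.Witt Groth.Agent.Lib.Disp.Basic
open W4c1extbt610 (IV Display3n IsHom IsAltMult IsExtPow verschiebung_mem_IV)

universe u v w

namespace Groth.Agent.Lib.Disp.ExtPow

noncomputable section

section SemilinearWedge

variable {A : Type u} [CommRing A] (τ : A →+* A) {P : Type v} [AddCommGroup P] [Module A P]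
  {N : Type w} [AddCommGroup N] [Module A N]

/-- `N` with scalars restricted along `τ`. -/
def Tw (_τ : A →+* A) (N : Type w) : Type w := N

instance : AddCommGroup (Tw τ N) := inferInstanceAs (AddCommGroup N)

instance : Module A (Tw τ N) := Module.compHom N τ

/-- The value of an element of `Tw`. -/
def unTw (x : Tw τ N) : N := x

/-- An element of `N` seen in `Tw`. -/
def toTw (x : N) : Tw τ N := x

theorem smul_toTw (a : A) (x : N) : a • toTw τ x = toTw τ (τ a • x) := rfl

variable {r : ℕ} (f : P →ₛₗ[τ] P)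

/-- `x ↦ f x₁ ∧ ⋯ ∧ f x_r` as an alternating map. -/
def wedgeAlt : P [⋀^Fin r]→ₗ[A] Tw τ (⋀[A]^r P) where
  toFun x := toTw τ (exteriorPower.ιMulti A r fun i => f (x i))
  map_update_add' x i a b := by
    have h : ∀ c, (fun j => f (Function.update x i c j)) = Function.update (fun j => f (x j)) i (f c) :=
      fun c => funext fun j => by
        rcases eq_or_ne j i with rfl | hj
        · simp
        · simp [Function.update_of_ne hj]
    simp only [h, map_add, AlternatingMap.map_update_add]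
    rfl
  map_update_smul' x i c a := by
    have h : ∀ c, (fun j => f (Function.update x i c j)) = Function.update (fun j => f (x j)) i (f c) :=
      fun c => funext fun j => by
        rcases eq_or_ne j i with rfl | hj
        · simp
        · simp [Function.update_of_ne hj]
    simp only [h, map_smulₛₗ, AlternatingMap.map_update_smul]
    rfl
  map_eq_zero_of_eq' x i j h hij := by
    exact congrArg (toTw τ) (AlternatingMap.map_eq_zero_of_eq _ _ (by simp only [h]) hij)

/-- The exterior power of a semilinear map. -/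
def wedge : (⋀[A]^r P) →ₛₗ[τ] (⋀[A]^r P) where
  toFun z := unTw τ (exteriorPower.alternatingMapLinearEquiv (wedgeAlt τ f) z)
  map_add' x y := by rw [map_add]; rfl
  map_smul' a x := by rw [map_smul]; rfl

theorem wedge_ιMulti (x : Fin r → P) :
    wedge τ f (exteriorPower.ιMulti A r x) = exteriorPower.ιMulti A r fun i => f (x i) := by
  simp only [wedge, LinearMap.coe_mk, AddHom.coe_mk, exteriorPower.alternatingMapLinearEquiv_apply_ιMulti]
  rfl

end SemilinearWedge

section Expansion

variable {A : Type u} [CommRing A] {P : Type v} [AddCommGroup P] [Module A P]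
  {N : Type w} [AddCommGroup N] [Module A N] {ι : Type*} [DecidableEq ι]
  (φ : P [⋀^ι]→ₗ[A] N) (t : P)

theorem add_t_eq (l : ι → P) (b : ι → A) (i : ι) (hi : l i = t) (s : Finset ι) (hs : i ∉ s) :
    φ (fun j => if j ∈ s then l j + b j • t else l j) = φ l := by
  induction s using Finset.induction_on with
  | empty => simp
  | insert a s ha ih =>
    have hai : i ≠ a := fun h => hs (h ▸ Finset.mem_insert_self _ _)
    have his : i ∉ s := fun h => hs (Finset.mem_insert_of_mem h)
    let x : ι → P := fun j => if j ∈ s then l j + b j • t else l j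
    have hx : (fun j => if j ∈ insert a s then l j + b j • t else l j) =
        Function.update x a (x a + b a • t) := funext fun j => by
      rcases eq_or_ne j a with rfl | hj
      · simp [x, ha]
      · simp [x, hj]
    rw [hx, φ.map_update_add, φ.map_update_smul, Function.update_eq_self,
      φ.map_eq_zero_of_eq (Function.update x a t) (i := i) (j := a) ?_ hai, smul_zero, add_zero]
    · exact ih his
    · rw [Function.update_self, Function.update_of_ne hai]
      simp [x, his, hi]

/-- Expansion of an alternating map at `l_j + b_j t`. -/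
theorem map_add_t [Fintype ι] (l : ι → P) (b : ι → A) :
    φ (fun j => l j + b j • t) = φ l + ∑ i, b i • φ (Function.update l i t) := by
  suffices h : ∀ s : Finset ι, φ (fun j => if j ∈ s then l j + b j • t else l j) =
      φ l + ∑ i ∈ s, b i • φ (Function.update l i t) by simpa using h Finset.univ
  intro s
  induction s using Finset.induction_on with
  | empty => simp
  | insert a s ha ih =>
    let x : ι → P := fun j => if j ∈ s then l j + b j • t else l j
    have hx : (fun j => if j ∈ insert a s then l j + b j • t else l j) =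
        Function.update x a (x a + b a • t) := funext fun j => by
      rcases eq_or_ne j a with rfl | hj
      · simp [x, ha]
      · simp [x, hj]
    have h2 : φ (Function.update x a t) = φ (Function.update l a t) := by
      rw [← add_t_eq φ t (Function.update l a t) b a (Function.update_self _ _ _) s ha]
      congr 1
      funext j
      rcases eq_or_ne j a with rfl | hj
      · simp [ha]
      · simp [x, hj]
    rw [hx, φ.map_update_add, φ.map_update_smul, Function.update_eq_self, h2, Finset.sum_insert ha, ih]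
    abel

end Expansion

variable {p : ℕ} [hp : Fact p.Prime] {R : Type u} [CommRing R]

set_option hygiene false in
local notation "𝕨" => WittVector p R
set_option hygiene false in
local notation "σ" => (WittVector.frobenius : WittVector p R →+* WittVector p R)

variable {P : Type v} [AddCommGroup P] [Module 𝕨 P]

theorem F_eq_Vinv (D : Display3n p R P) (x : P) :
    D.F x = D.Vinv ⟨verschiebung (1 : 𝕨) • x,
      D.IV_smul_le (Submodule.smul_mem_smul (verschiebung_mem_IV p R 1) Submodule.mem_top)⟩ := by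
  rw [D.Vinv_verschiebung_smul, one_smul]

/-- Semilinear maps out of `Q` are determined on spanning sets. -/
theorem ext_span {N : Type w} [AddCommGroup N] [Module 𝕨 N] {Q : Submodule 𝕨 P} {s : Set P}
    (hQ : Q = Submodule.span 𝕨 s) {f g : Q →ₛₗ[σ] N} (h : ∀ x ∈ s, ∀ hx, f ⟨x, hx⟩ = g ⟨x, hx⟩) :
    f = g := by
  subst hQ
  refine LinearMap.ext fun z => ?_
  obtain ⟨z, hz⟩ := z
  induction hz using Submodule.span_induction with
  | mem x hx => exact h x hx _
  | zero =>
    rw [show (⟨0, zero_mem _⟩ : Submodule.span 𝕨 s) = 0 from rfl, map_zero, map_zero]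
  | add x y hx hy ihx ihy =>
    rw [show (⟨x + y, add_mem hx hy⟩ : Submodule.span 𝕨 s) = ⟨x, hx⟩ + ⟨y, hy⟩ from rfl, map_add, map_add,
      ihx, ihy]
  | smul c x hx ihx =>
    rw [show (⟨c • x, Submodule.smul_mem _ c hx⟩ : Submodule.span 𝕨 s) = c • ⟨x, hx⟩ from rfl,
      map_smulₛₗ, map_smulₛₗ, ihx]

variable {r : ℕ}

theorem display_ext {E E' : Display3n p R P} (hQ : E.Q = E'.Q)
    (h : ∀ x hx hx', E.Vinv ⟨x, hx⟩ = E'.Vinv ⟨x, hx'⟩) : E = E' := by
  have hF : E.F = E'.F := LinearMap.ext fun x => by rw [F_eq_Vinv, F_eq_Vinv]; exact h _ _ _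
  obtain ⟨Q, F, V, _, _, _, _, _, _⟩ := E
  obtain ⟨Q', F', V', _, _, _, _, _, _⟩ := E'
  dsimp only at hQ hF
  subst hQ hF
  obtain rfl : V = V' := LinearMap.ext fun x => h x.1 x.2 x.2
  rfl

theorem isExtPow_unique {D : Display3n p R P} {E E' : Display3n p R (⋀[𝕨]^r P)}
    (hE : IsExtPow D r E) (hE' : IsExtPow D r E') : E' = E := by
  refine display_ext (hE'.1.trans hE.1.symm) fun x hx hx' => ?_
  have h : ∀ z : ⋀[𝕨]^r P, z ∈ E'.Q → ∃ a b, E'.Vinv ⟨z, a⟩ = E.Vinv ⟨z, b⟩ := by
    intro z hz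
    rw [hE'.1] at hz
    induction hz using Submodule.span_induction with
    | mem z hz =>
      obtain ⟨q, rfl⟩ := hz
      have h1 : exteriorPower.ιMulti 𝕨 r (fun i => (q i : P)) ∈ E'.Q :=
        hE'.1 ▸ Submodule.subset_span ⟨q, rfl⟩
      have h2 : exteriorPower.ιMulti 𝕨 r (fun i => (q i : P)) ∈ E.Q :=
        hE.1 ▸ Submodule.subset_span ⟨q, rfl⟩
      exact ⟨h1, h2, (hE'.2 q h1).trans (hE.2 q h2).symm⟩
    | zero => exact ⟨zero_mem _, zero_mem _, (map_zero E'.Vinv).trans (map_zero E.Vinv).symm⟩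
    | add a b _ _ ha hb =>
      obtain ⟨a1, a2, ea⟩ := ha
      obtain ⟨b1, b2, eb⟩ := hb
      refine ⟨add_mem a1 b1, add_mem a2 b2, ?_⟩
      exact ((map_add E'.Vinv ⟨a, a1⟩ ⟨b, b1⟩).trans (by rw [ea, eb])).trans (map_add E.Vinv ⟨a, a2⟩ ⟨b, b2⟩).symm
    | smul c a _ ha =>
      obtain ⟨a1, a2, ea⟩ := ha
      refine ⟨Submodule.smul_mem _ c a1, Submodule.smul_mem _ c a2, ?_⟩
      exact ((map_smulₛₗ E'.Vinv c ⟨a, a1⟩).trans (by rw [ea])).trans (map_smulₛₗ E.Vinv c ⟨a, a2⟩).symm
  obtain ⟨a, b, hab⟩ := h x hx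
  exact hab

theorem universal (D : Display3n p R P) (E : Display3n p R (⋀[𝕨]^r P)) (hE : IsExtPow D r E) :
    IsAltMult D E (exteriorPower.ιMulti 𝕨 r) ∧
      ∀ (P' : Type w) [AddCommGroup P'] [Module 𝕨 P'] (D' : Display3n p R P')
        (φ : P [⋀^Fin r]→ₗ[𝕨] P'), IsAltMult D D' φ →
        ∃! ψ : ⋀[𝕨]^r P →ₗ[𝕨] P',
          IsHom E D' ψ ∧ ψ.compAlternatingMap (exteriorPower.ιMulti 𝕨 r) = φ := by
  have hmem : ∀ q : Fin r → D.Q, exteriorPower.ιMulti 𝕨 r (fun i => (q i : P)) ∈ E.Q := fun q =>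
    hE.1 ▸ Submodule.subset_span ⟨q, rfl⟩
  refine ⟨⟨hmem, fun q => hE.2 q _, fun i x q => ?_⟩, ?_⟩
  · let q' : Fin r → D.Q := Function.update q i ⟨verschiebung (1 : 𝕨) • x,
      D.IV_smul_le (Submodule.smul_mem_smul (verschiebung_mem_IV p R 1) Submodule.mem_top)⟩
    have e1 : (fun j => (q' j : P)) =
        Function.update (fun j => (q j : P)) i (verschiebung (1 : 𝕨) • x) := funext fun j => by
      rcases eq_or_ne j i with rfl | hj <;> simp [q', *]
    have e2 : (fun j => D.Vinv (q' j)) = Function.update (fun j => D.Vinv (q j)) i (D.F x) :=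
      funext fun j => by
        rcases eq_or_ne j i with rfl | hj <;> simp [q', F_eq_Vinv, *]
    rw [← e2, ← hE.2 q' (hmem q'), F_eq_Vinv]
    refine Vinv_eq_of_eq E _ _ ?_
    rw [e1, AlternatingMap.map_update_smul]
  · intro P' _ _ D' φ hφ
    let ψ := exteriorPower.alternatingMapLinearEquiv φ
    have hψ : ∀ x, ψ (exteriorPower.ιMulti 𝕨 r x) = φ x :=
      exteriorPower.alternatingMapLinearEquiv_apply_ιMulti φ
    have hz : ∀ z ∈ E.Q, ∃ a b, ψ (E.Vinv ⟨z, a⟩) = D'.Vinv ⟨ψ z, b⟩ := by
      intro z hz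
      rw [hE.1] at hz
      induction hz using Submodule.span_induction with
      | mem z hz =>
        obtain ⟨q, rfl⟩ := hz
        refine ⟨hmem q, by rw [hψ]; exact hφ.mapsTo q, ?_⟩
        rw [hE.2 q, hψ, ← hφ.vCond]
        exact Vinv_eq_of_eq D' _ _ (hψ _).symm
      | zero =>
        refine ⟨zero_mem _, by rw [map_zero]; exact zero_mem _, ?_⟩
        exact (((congrArg ψ (map_zero E.Vinv)).trans (map_zero ψ)).trans (map_zero D'.Vinv).symm).trans
          (Vinv_eq_of_eq D' (zero_mem _) _ (map_zero ψ).symm)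
      | add a b _ _ ha hb =>
        obtain ⟨a1, a2, ea⟩ := ha
        obtain ⟨b1, b2, eb⟩ := hb
        refine ⟨add_mem a1 b1, by rw [map_add]; exact add_mem a2 b2, ?_⟩
        rw [show (⟨a + b, add_mem a1 b1⟩ : E.Q) = ⟨a, a1⟩ + ⟨b, b1⟩ from rfl, map_add, map_add, ea, eb,
          ← map_add D'.Vinv]
        exact Vinv_eq_of_eq D' _ _ (map_add ψ _ _).symm
      | smul c a _ ha =>
        obtain ⟨a1, a2, ea⟩ := ha
        refine ⟨Submodule.smul_mem _ c a1, by rw [map_smul]; exact Submodule.smul_mem _ c a2, ?_⟩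
        rw [show (⟨c • a, Submodule.smul_mem _ c a1⟩ : E.Q) = c • ⟨a, a1⟩ from rfl, map_smulₛₗ, map_smul,
          ea, ← map_smulₛₗ D'.Vinv]
        exact Vinv_eq_of_eq D' _ _ (map_smul ψ _ _).symm
    have hmaps : ∀ z ∈ E.Q, ψ z ∈ D'.Q := fun z h => by
      obtain ⟨-, b, -⟩ := hz z h
      exact b
    have hV : ∀ q : E.Q, ψ (E.Vinv q) = D'.Vinv ⟨ψ q, hmaps q q.2⟩ := fun q => by
      obtain ⟨a, b, e⟩ := hz q q.2
      exact e
    refine ⟨ψ, ⟨⟨hmaps, fun x => ?_, hV⟩, exteriorPower.alternatingMapLinearEquiv_comp_ιMulti φ⟩, ?_⟩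
    · rw [F_eq_Vinv, hV, F_eq_Vinv]
      exact Vinv_eq_of_eq D' _ _ (map_smul ψ _ _)
    · rintro ψ' ⟨-, hψ'⟩
      exact exteriorPower.linearMap_ext (hψ'.trans (exteriorPower.alternatingMapLinearEquiv_comp_ιMulti φ).symm)

/-- The basic data of a normal decomposition with `T` free of rank one. -/
theorem exists_proj (D : Display3n p R P) {L T : Submodule 𝕨 P} (hc : IsCompl L T)
    (hQ : D.Q = L ⊔ IV p R • T) (eT : T ≃ₗ[𝕨] 𝕨) :
    ∃ (π : P →ₗ[𝕨] P) (τ : P →ₗ[𝕨] 𝕨) (t : P), (∀ x, π x ∈ L) ∧ (∀ l ∈ L, π l = l ∧ τ l = 0) ∧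
      π t = 0 ∧ t ∈ T ∧ τ t = 1 ∧ (∀ x, π x + τ x • t = x) ∧ (∀ y ∈ D.Q, τ y ∈ IV p R) := by
  refine ⟨L.subtype.comp (L.projectionOnto T hc), eT.toLinearMap.comp (T.projectionOnto L hc.symm),
    (eT.symm 1 : T), fun x => (L.projectionOnto T hc x).2, fun l hl => ?_, ?_, (eT.symm 1).2, ?_,
    fun x => ?_, fun y hy => ?_⟩
  · simp [hl, Submodule.projectionOnto_apply_left _ ⟨l, hl⟩]
  · simp
  · simp [Submodule.projectionOnto_apply_left]
  · conv_rhs => rw [← Submodule.projection_add_projection_eq_self hc x]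
    congr 1
    rw [← Submodule.coe_smul, ← map_smul, smul_eq_mul, mul_one]
    simp
  · obtain ⟨l, hl, z, hz, rfl⟩ := Submodule.mem_sup.1 (hQ.le hy)
    rw [map_add]
    refine Ideal.add_mem _ (by rw [LinearMap.comp_apply, (Submodule.projectionOnto_apply_eq_zero_iff hc.symm).2 hl, map_zero]; exact zero_mem _) ?_
    exact apply_mem_of_mem_smul_top (Submodule.smul_mono le_rfl le_top hz) _

/-- An endomorphism with a split source stays split on exterior powers. -/
theorem exteriorPower_projective [Module.Finite 𝕨 P] [Module.Projective 𝕨 P] :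
    Module.Projective 𝕨 (⋀[𝕨]^r P) := by
  obtain ⟨n, s, i, -, -, hsi⟩ := Module.Finite.exists_comp_eq_id_of_projective 𝕨 P
  refine Module.Projective.of_split (exteriorPower.map r i) (exteriorPower.map r s) ?_
  rw [← exteriorPower.map_comp, hsi, exteriorPower.map_id]

set_option maxHeartbeats 1600000 in
theorem exists_extPow (D : Display3n p R P) {L T : Submodule 𝕨 P} (hc : IsCompl L T)
    (hQ : D.Q = L ⊔ IV p R • T) (eT : T ≃ₗ[𝕨] 𝕨) (r : ℕ) :
    ∃ (π : P →ₗ[𝕨] P) (E : Display3n p R (⋀[𝕨]^r P)), (∀ x, π x ∈ L) ∧ (∀ l ∈ L, π l = l) ∧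
      (∀ x ∈ T, π x = 0) ∧ IsExtPow D r E ∧
      IsCompl (LinearMap.range (exteriorPower.map r π)) (LinearMap.ker (exteriorPower.map r π)) ∧
      E.Q = LinearMap.range (exteriorPower.map r π) ⊔ IV p R • LinearMap.ker (exteriorPower.map r π) := by
  classical
  obtain ⟨π, τ, t, hπL, hL, hπt, htT, hτt, hsum, hτQ⟩ := exists_proj D hc hQ eT
  have := D.finite
  have := D.projective
  have := exteriorPower_projective (p := p) (R := R) (P := P) (r := r)
  have hLQ : L ≤ D.Q := le_sup_left.trans hQ.ge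
  have hππ : ∀ x, π (π x) = π x := fun x => (hL _ (hπL x)).1
  have hπT : ∀ x ∈ T, π x = 0 := fun x hx => by
    refine Submodule.disjoint_def.1 hc.disjoint _ (hπL x) ?_
    rw [show π x = x - τ x • t from eq_sub_of_add_eq (hsum x)]
    exact T.sub_mem hx (T.smul_mem _ htT)
  let Pr := exteriorPower.map r π
  let ιM := exteriorPower.ιMulti 𝕨 r (M := P)
  have hPrι : ∀ x, Pr (ιM x) = ιM fun i => π (x i) := fun x => exteriorPower.map_apply_ιMulti π x
  have hPP : ∀ z, Pr (Pr z) = Pr z := fun z => by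
    rw [← LinearMap.comp_apply, ← exteriorPower.map_comp, show π ∘ₗ π = π from LinearMap.ext hππ]
  -- the Frobenius-semilinear lift
  let f : P →ₛₗ[σ] P :=
    D.Vinv.comp ((Submodule.inclusion hLQ).comp (π.codRestrict L hπL)) + D.F.comp (τ.smulRight t)
  have hfπ : ∀ x, f (π x) = D.Vinv ⟨π x, hLQ (hπL x)⟩ := fun x => by
    simp only [f, LinearMap.add_apply, LinearMap.comp_apply, LinearMap.smulRight_apply,
      (hL _ (hπL x)).2, zero_smul, map_zero, add_zero]
    exact Vinv_eq_of_eq D _ _ (hππ x)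
  have hft : f t = D.F t := by
    simp only [f, LinearMap.add_apply, LinearMap.comp_apply, LinearMap.smulRight_apply, hτt, one_smul]
    rw [show Submodule.inclusion hLQ (π.codRestrict L hπL t) = 0 from Subtype.ext hπt, map_zero, zero_add]
  let Λ : (⋀[𝕨]^r P) →ₛₗ[σ] (⋀[𝕨]^r P) := wedge σ f
  -- coordinates
  obtain ⟨n, s, i, -, -, hsi⟩ := Module.Finite.exists_comp_eq_id_of_projective 𝕨 (⋀[𝕨]^r P)
  let g : Fin n → (⋀[𝕨]^r P) →ₗ[𝕨] 𝕨 := fun j => (LinearMap.proj j).comp i
  let e : Fin n → (⋀[𝕨]^r P) := fun j => s (Pi.single j 1)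
  have hge : ∀ x, ∑ j, g j x • e j = x := fun x => by
    conv_rhs => rw [show x = s (i x) from (LinearMap.congr_fun hsi x).symm, ← Finset.univ_sum_single (i x),
      map_sum]
    refine Finset.sum_congr rfl fun j _ => ?_
    rw [← map_smul, ← Pi.single_smul, smul_eq_mul, mul_one]
    rfl
  let e' : Fin n → (⋀[𝕨]^r P) := fun j => e j - Pr (e j)
  have hker : ∀ y, Pr y = 0 → ∑ j, g j y • Λ (e' j) = 0 + ∑ j, g j y • Λ (e' j) ∧ y = ∑ j, g j y • e' j := by
    intro y hy
    refine ⟨(zero_add _).symm, ?_⟩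
    conv_lhs => rw [← sub_zero y, ← hy, ← hge y, map_sum, ← Finset.sum_sub_distrib]
    exact Finset.sum_congr rfl fun j _ => by rw [map_smul, smul_sub]
  let QE : Submodule 𝕨 (⋀[𝕨]^r P) :=
    Submodule.span 𝕨 (Set.range fun q : Fin r → D.Q => ιM fun j => (q j : P))
  have hexp : ∀ x : Fin r → P, ιM x = ιM (fun j => π (x j)) +
      ∑ j, τ (x j) • ιM (Function.update (fun j => π (x j)) j t) := fun x => by
    rw [← map_add_t ιM t (fun j => π (x j)) (fun j => τ (x j))]
    simp only [hsum]
  have hupd : ∀ (x : Fin r → P) j, Pr (ιM (Function.update (fun j => π (x j)) j t)) = 0 := fun x j => by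
    rw [hPrι]
    exact ιM.map_coord_zero j (by rw [Function.update_self, hπt])
  have hPrQ : ∀ x : Fin r → P, ιM (fun j => π (x j)) ∈ QE := fun x =>
    Submodule.subset_span ⟨fun j => ⟨π (x j), hLQ (hπL _)⟩, rfl⟩
  have hrange : ∀ z, Pr z ∈ QE := by
    intro z
    have hz : z ∈ Submodule.span 𝕨 (Set.range ιM) := exteriorPower.ιMulti_span 𝕨 r P ▸ Submodule.mem_top
    induction hz using Submodule.span_induction with
    | mem z hz => obtain ⟨x, rfl⟩ := hz; rw [hPrι]; exact hPrQ x
    | zero => rw [map_zero]; exact zero_mem _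
    | add a b _ _ ha hb => rw [map_add]; exact add_mem ha hb
    | smul c a _ ha => rw [map_smul]; exact Submodule.smul_mem _ c ha
  have hIVker : ∀ a ∈ IV p R, ∀ z, a • (z - Pr z) ∈ QE := by
    intro a ha z
    have hz : z ∈ Submodule.span 𝕨 (Set.range ιM) := exteriorPower.ιMulti_span 𝕨 r P ▸ Submodule.mem_top
    induction hz using Submodule.span_induction with
    | mem z hz =>
      obtain ⟨x, rfl⟩ := hz
      rw [hPrι, hexp x, add_sub_cancel_left, Finset.smul_sum]
      refine Submodule.sum_mem _ fun j _ => ?_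
      rw [smul_comm]
      refine Submodule.smul_mem _ _ ?_
      rw [← ιM.map_update_smul]
      refine Submodule.subset_span ⟨fun k => ⟨Function.update (fun j => π (x j)) j (a • t) k, ?_⟩, rfl⟩
      rcases eq_or_ne k j with rfl | hk
      · rw [Function.update_self]
        exact D.IV_smul_le (Submodule.smul_mem_smul ha Submodule.mem_top)
      · rw [Function.update_of_ne hk]
        exact hLQ (hπL _)
    | zero => rw [map_zero, sub_zero, smul_zero]; exact zero_mem _
    | add c b _ _ hc' hb =>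
      rw [map_add, show c + b - (Pr c + Pr b) = (c - Pr c) + (b - Pr b) by abel, smul_add]
      exact add_mem hc' hb
    | smul c b _ hb =>
      rw [map_smul, ← smul_sub, smul_comm]
      exact Submodule.smul_mem _ c hb
  have hIV : IV p R • (⊤ : Submodule 𝕨 (⋀[𝕨]^r P)) ≤ QE := Submodule.smul_le.2 fun a ha z _ => by
    rw [show a • z = a • Pr z + a • (z - Pr z) by rw [← smul_add, add_sub_cancel]]
    exact add_mem (Submodule.smul_mem _ a (hrange z)) (hIVker a ha z)
  have hcoef : ∀ z ∈ QE, ∀ j, g j (z - Pr z) ∈ IV p R := by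
    intro z hz j
    induction hz using Submodule.span_induction with
    | mem z hz =>
      obtain ⟨q, rfl⟩ := hz
      simp only
      rw [hPrι, hexp (fun j => (q j : P)), add_sub_cancel_left, map_sum]
      exact Ideal.sum_mem _ fun k _ => by
        rw [map_smul, smul_eq_mul]; exact Ideal.mul_mem_right _ _ (hτQ _ (q k).2)
    | zero => simp
    | add a b _ _ ha hb =>
      rw [map_add, show a + b - (Pr a + Pr b) = (a - Pr a) + (b - Pr b) by abel, map_add]
      exact Ideal.add_mem _ ha hb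
    | smul c a _ ha =>
      rw [map_smul, ← smul_sub, map_smul, smul_eq_mul]
      exact Ideal.mul_mem_left _ c ha
  let VE : QE →ₛₗ[σ] (⋀[𝕨]^r P) :=
    { toFun := fun z => Λ (Pr z) + ∑ j, shift (g j (z - Pr z)) • Λ (e' j)
      map_add' := fun a b => by
        simp only [Submodule.coe_add, map_add]
        rw [show ((a : ⋀[𝕨]^r P) + b - (Pr a + Pr b)) = (a - Pr a) + (b - Pr b) by abel]
        simp only [map_add, fun j => BCExists.shift_add_of_IV (hcoef _ a.2 j) (hcoef _ b.2 j), add_smul,
          Finset.sum_add_distrib]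
        abel
      map_smul' := fun c a => by
        simp only [Submodule.coe_smul, map_smul, map_smulₛₗ, ← smul_sub, smul_eq_mul, smul_add,
          Finset.smul_sum, smul_smul, fun j => BCExists.shift_mul_of_IV c (hcoef _ a.2 j)] }
  have hVE : ∀ (z : ⋀[𝕨]^r P) (hz : z ∈ QE) (m : Finset (Fin r ⊕ Unit)) (b : Fin r ⊕ Unit → 𝕨)
      (y : Fin r ⊕ Unit → ⋀[𝕨]^r P),
      (∀ k, Pr (y k) = 0) → z - Pr z = ∑ k ∈ m, verschiebung (b k) • y k →
      VE ⟨z, hz⟩ = Λ (Pr z) + ∑ k ∈ m, b k • Λ (y k) := by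
    intro z hz m b y hy he
    change Λ (Pr z) + ∑ j, shift (g j (z - Pr z)) • Λ (e' j) = _
    congr 1
    have h1 : ∀ j, shift (g j (z - Pr z)) = ∑ k ∈ m, b k * σ (g j (y k)) := fun j => by
      rw [he, map_sum]
      simp only [map_smul, smul_eq_mul]
      rw [show (∑ k ∈ m, verschiebung (b k) * g j (y k)) = verschiebung (∑ k ∈ m, b k * σ (g j (y k))) by
        rw [map_sum]
        exact Finset.sum_congr rfl fun k _ => by rw [mul_comm, mul_verschiebung, mul_comm],
        shift_verschiebung]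
    simp only [h1, Finset.sum_smul]
    rw [Finset.sum_comm]
    refine Finset.sum_congr rfl fun k _ => ?_
    conv_rhs => rw [(hker _ (hy k)).2, map_sum, Finset.smul_sum]
    exact Finset.sum_congr rfl fun j _ => by rw [map_smulₛₗ, smul_smul]
  have hE : ∀ (q : Fin r → D.Q) (h : ιM (fun j => (q j : P)) ∈ QE),
      VE ⟨_, h⟩ = ιM fun j => D.Vinv (q j) := by
    intro q h
    choose b hb using fun j => exists_eq_verschiebung (hτQ _ (q j).2)
    let y : Fin r ⊕ Unit → ⋀[𝕨]^r P :=
      Sum.elim (fun k => ιM (Function.update (fun j => π (q j)) k t)) 0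
    rw [hVE _ h (Finset.univ.map ⟨Sum.inl, Sum.inl_injective⟩) (Sum.elim b 0) y
      (by rintro (k | k)
          · exact hupd _ k
          · exact map_zero Pr)
      (by rw [hPrι, hexp (fun j => (q j : P)), add_sub_cancel_left, Finset.sum_map]
          exact Finset.sum_congr rfl fun k _ => by simp [y, hb])]
    rw [Finset.sum_map, hPrι, show Λ = wedge σ f from rfl, wedge_ιMulti]
    simp only [Function.Embedding.coeFn_mk, Sum.elim_inl, y, ιM, wedge_ιMulti]
    have hVq : ∀ j, D.Vinv (q j) = f (π (q j)) + b j • f t := by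
      intro j
      rw [hfπ, hft, ← D.Vinv_verschiebung_smul (b j) t, ← map_add]
      exact congrArg D.Vinv (Subtype.ext (by
        change (q j : P) = π (q j) + verschiebung (b j) • t
        rw [← hb, hsum]))
    simp only [hVq]
    rw [map_add_t]
    refine congrArg₂ (· + ·) rfl (Finset.sum_congr rfl fun k _ => ?_)
    congr 2
    funext j
    rcases eq_or_ne j k with rfl | hj
    · simp
    · simp [Function.update_of_ne hj]
  let FE : (⋀[𝕨]^r P) →ₛₗ[σ] (⋀[𝕨]^r P) :=
    (p : 𝕨) • Λ.comp Pr + Λ.comp (LinearMap.id - Pr)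
  have hcompl : IsCompl (LinearMap.range Pr) (LinearMap.ker Pr) := by
    refine ⟨?_, ?_⟩
    · rw [Submodule.disjoint_def]
      rintro _ ⟨x, rfl⟩ hx
      rw [LinearMap.mem_ker, hPP] at hx
      exact hx
    · rw [codisjoint_iff, eq_top_iff]
      intro x _
      rw [show x = Pr x + (x - Pr x) by abel]
      exact Submodule.add_mem_sup ⟨x, rfl⟩ (by rw [LinearMap.mem_ker, map_sub, hPP, sub_self])
  have hQE : QE = LinearMap.range Pr ⊔ IV p R • LinearMap.ker Pr := by
    refine le_antisymm (fun z hz => ?_) (sup_le ?_ ((Submodule.smul_mono le_rfl le_top).trans hIV))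
    · rw [show z = Pr z + (z - Pr z) by abel]
      refine Submodule.add_mem_sup ⟨z, rfl⟩ ?_
      have h1 : z - Pr z = ∑ j, g j (z - Pr z) • e' j :=
        (hker _ (by rw [map_sub, hPP, sub_self])).2
      rw [h1]
      exact Submodule.sum_mem _ fun j _ => Submodule.smul_mem_smul (hcoef z hz j)
        (by rw [LinearMap.mem_ker]; simp only [e', map_sub, hPP, sub_self])
    · rintro _ ⟨z, rfl⟩
      exact hrange z
  let E : Display3n p R (⋀[𝕨]^r P) :=
    { Q := QE
      F := FE
      Vinv := VE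
      finite := inferInstance
      projective := inferInstance
      IV_smul_le := hIV
      exists_normal := ⟨_, _, hcompl, hQE⟩
      span_range_Vinv := by
        rw [eq_top_iff, ← exteriorPower.ιMulti_span_of_span 𝕨 r P D.span_range_Vinv, Submodule.span_le]
        rintro _ ⟨a, ha, rfl⟩
        choose q hq using fun j => ha ⟨j, rfl⟩
        refine Submodule.subset_span ⟨⟨_, Submodule.subset_span ⟨q, rfl⟩⟩, (hE q _).trans ?_⟩
        simp only [hq]
        rfl
      Vinv_verschiebung_smul := fun w x => by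
        rw [hVE _ _ {Sum.inr ()} (fun _ => w) (fun _ => x - Pr x)
          (fun _ => by rw [map_sub, hPP, sub_self]) (by simp [smul_sub])]
        simp only [Finset.sum_singleton, FE, LinearMap.add_apply, LinearMap.smul_apply, LinearMap.comp_apply,
          LinearMap.sub_apply, LinearMap.id_apply, smul_add, map_smul, map_smulₛₗ, frobenius_verschiebung,
          smul_smul] }
  exact ⟨π, E, hπL, fun l hl => (hL l hl).1, hπT, ⟨rfl, hE⟩, hcompl, hQE⟩

theorem exists_unique_extPow (D : Display3n p R P) {L T : Submodule 𝕨 P} (hc : IsCompl L T)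
    (hQ : D.Q = L ⊔ IV p R • T) (eT : T ≃ₗ[𝕨] 𝕨) (r : ℕ) :
    ∃ E : Display3n p R (⋀[𝕨]^r P), IsExtPow D r E ∧
      ∀ E' : Display3n p R (⋀[𝕨]^r P), IsExtPow D r E' → E' = E := by
  obtain ⟨π, E, -, -, -, hE, -, -⟩ := exists_extPow D hc hQ eT r
  exact ⟨E, hE, fun E' hE' => isExtPow_unique hE hE'⟩

open Module in
theorem rank [Nontrivial R] (D : Display3n p R P) {L T : Submodule 𝕨 P} (hc : IsCompl L T)
    (hQ : D.Q = L ⊔ IV p R • T) (eT : T ≃ₗ[𝕨] 𝕨) (m : ℕ) (hL : Module.Free 𝕨 L)
    (hLm : Module.finrank 𝕨 L = m) (r : ℕ) (hr : 1 ≤ r) (E : Display3n p R (⋀[𝕨]^r P))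
    (hE : IsExtPow D r E) :
    ∃ L' T' : Submodule 𝕨 (⋀[𝕨]^r P), IsCompl L' T' ∧ E.Q = L' ⊔ IV p R • T' ∧
      Module.Free 𝕨 T' ∧ Module.finrank 𝕨 T' = m.choose (r - 1) := by
  classical
  obtain ⟨π, E', hπL, hπl, hπT, hE', hcompl, hQE⟩ := exists_extPow D hc hQ eT r
  obtain rfl := isExtPow_unique hE' hE
  have := D.finite
  have : Module.Finite 𝕨 L := Module.Finite.of_surjective (L.projectionOnto T hc)
    fun l => ⟨l, Submodule.projectionOnto_apply_left _ l⟩
  have : Nontrivial 𝕨 := (WittVector.constantCoeff (p := p) (R := R)).domain_nontrivial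
  let bL : Basis (Fin m) 𝕨 L := Module.finBasisOfFinrankEq 𝕨 L hLm
  let bT : Basis Unit 𝕨 T := (Basis.singleton Unit 𝕨).map eT.symm
  let b : Basis (Fin (m + 1)) 𝕨 P :=
    ((bT.prod bL).map (Submodule.prodEquivOfIsCompl T L hc.symm)).reindex
      ((Equiv.sumCongr finOneEquiv.symm (Equiv.refl _)).trans
        (finSumFinEquiv.trans (finCongr (add_comm 1 m))))
  have hb0 : π (b 0) = 0 := by
    refine hπT _ ?_
    simp [b, bT, Basis.reindex_apply, finSumFinEquiv, Fin.addCases, finOneEquiv]
  have hbs : ∀ j : Fin m, π (b j.succ) = b j.succ := fun j => by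
    refine hπl _ ?_
    simp [b, bL, Basis.reindex_apply, finSumFinEquiv, Fin.addCases, finOneEquiv]
  let B := b.exteriorPower r
  let Pr := exteriorPower.map r π
  have hB : ∀ S : Set.powersetCard (Fin (m + 1)) r,
      Pr (B S) = if (0 : Fin (m + 1)) ∈ (S : Finset (Fin (m + 1))) then 0 else B S := by
    intro S
    rw [exteriorPower.basis_apply, exteriorPower.map_apply_ιMulti_family, exteriorPower.ιMulti_family,
      exteriorPower.ιMulti_family]
    split_ifs with h0
    · obtain ⟨k, hk⟩ := (Set.powersetCard.mem_range_ofFinEmbEquiv_symm_iff_mem S 0).mpr h0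
      exact (exteriorPower.ιMulti 𝕨 r).map_coord_zero k (by simp [hk, hb0])
    · congr 1
      funext k
      rcases Fin.eq_zero_or_eq_succ (Set.powersetCard.ofFinEmbEquiv.symm S k) with hk | ⟨j, hk⟩
      · exact absurd ((Set.powersetCard.mem_range_ofFinEmbEquiv_symm_iff_mem S 0).mp ⟨k, hk⟩) h0
      · simp [hk, hbs]
  let s : Set (Set.powersetCard (Fin (m + 1)) r) := {S | (0 : Fin (m + 1)) ∈ (S : Finset (Fin (m + 1)))}
  have hker : LinearMap.ker Pr = Submodule.span 𝕨 (B '' s) := by
    refine le_antisymm (fun z hz => ?_) (Submodule.span_le.2 ?_)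
    · rw [B.mem_span_image]
      intro S hS
      by_contra h0
      refine Finsupp.mem_support_iff.1 hS ?_
      have h1 : B.repr (Pr z) S = B.repr z S := by
        conv_lhs => rw [← B.sum_repr z]
        simp only [map_sum, map_smul, hB, Finsupp.coe_finsetSum, Finset.sum_apply, Finsupp.smul_apply]
        rw [Finset.sum_eq_single S]
        · rw [if_neg (by exact h0)]; simp
        · intro S' _ hne
          split_ifs <;> simp [Finsupp.single_apply, hne]
        · simp
      rw [← h1, LinearMap.mem_ker.1 hz, map_zero]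
      rfl
    · rintro _ ⟨S, hS, rfl⟩
      rw [SetLike.mem_coe, LinearMap.mem_ker, hB]
      exact if_pos hS
  let bs : Basis s 𝕨 (Submodule.span 𝕨 (Set.range fun S : s => B S)) :=
    Basis.span (B.linearIndependent.comp _ Subtype.val_injective)
  have himg : (Set.range fun S : s => B S) = B '' s := by rw [Set.image_eq_range]
  let bker : Basis s 𝕨 (LinearMap.ker Pr) :=
    bs.map (LinearEquiv.ofEq _ _ (by rw [himg, hker]))
  refine ⟨_, _, hcompl, hQE, Module.Free.of_basis bker, ?_⟩
  rw [Module.finrank_eq_card_basis bker]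
  have h1 : Fintype.card {S : Set.powersetCard (Fin (m + 1)) r //
      ¬ (0 : Fin (m + 1)) ∈ (S : Finset (Fin (m + 1)))} = m.choose r := by
    have : Fintype.card {S : Set.powersetCard (Fin (m + 1)) r //
        ¬ (0 : Fin (m + 1)) ∈ (S : Finset (Fin (m + 1)))} =
        ((Finset.univ.erase (0 : Fin (m + 1))).powersetCard r).card := by
      rw [← Fintype.card_coe]
      exact Fintype.card_congr
        { toFun := fun S => ⟨S.1.1, Finset.mem_powersetCard.2 ⟨fun x hx => Finset.mem_erase.2
            ⟨fun h => S.2 (h ▸ hx), Finset.mem_univ _⟩, S.1.2⟩⟩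
          invFun := fun S => ⟨⟨S.1, (Finset.mem_powersetCard.1 S.2).2⟩, fun h =>
            (Finset.mem_erase.1 ((Finset.mem_powersetCard.1 S.2).1 h)).1 rfl⟩
          left_inv := fun _ => rfl
          right_inv := fun _ => rfl }
    rw [this, Finset.card_powersetCard, Finset.card_erase_of_mem (Finset.mem_univ _), Finset.card_univ,
      Fintype.card_fin, Nat.add_sub_cancel]
  have h2 : Fintype.card (Set.powersetCard (Fin (m + 1)) r) = (m + 1).choose r := by
    rw [Fintype.card_eq_nat_card, Set.powersetCard.card, Nat.card_eq_fintype_card, Fintype.card_fin]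
  have h3 := Fintype.card_congr (Equiv.sumCompl fun S : Set.powersetCard (Fin (m + 1)) r =>
    (0 : Fin (m + 1)) ∈ (S : Finset (Fin (m + 1))))
  rw [Fintype.card_sum, h1, h2] at h3
  obtain ⟨r, rfl⟩ : ∃ r', r = r' + 1 := ⟨r - 1, by omega⟩
  rw [Nat.choose_succ_succ] at h3
  rw [Nat.add_sub_cancel]
  refine (Fintype.card_congr (Equiv.refl _)).trans (Nat.add_right_cancel h3)

end

end Groth.Agent.Lib.Disp.ExtPow
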