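import Groth.Agent.Lib.Disp.Witt
import Mathlib.LinearAlgebra.Basis.Submodule

/-!
# Lifting homomorphisms of Frobenius modules
-/

open WittVector Groth.Agent.Lib.Disp.Witt

universe u v w z

namespace Groth.Agent.Lib.Disp.FLift

noncomputable section

variable {p : ℕ} [hp : Fact p.Prime] {S : Type u} [CommRing S]

set_option hygiene false in
local notation "𝕨" => WittVector p S
set_option hygiene false in
local notation "σ" => (WittVector.frobenius : WittVector p S →+* WittVector p S)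

variable {P₁ : Type v} [AddCommGroup P₁] [Module 𝕨 P₁] {P₂ : Type w} [AddCommGroup P₂] [Module 𝕨 P₂]
variable {ι : Type z} [Finite ι] (b b' : Module.Basis ι 𝕨 P₁)
variable (F₁ : P₁ →ₛₗ[σ] P₁) (F₂ : P₂ →ₛₗ[σ] P₂)

/-- The operator whose fixed points are the maps commuting with Frobenius. -/
def T (α : P₁ →ₗ[𝕨] P₂) : P₁ →ₗ[𝕨] P₂ := b'.constr ℕ fun i => F₂ (α (b i))

theorem T_basis (α : P₁ →ₗ[𝕨] P₂) (i : ι) : T b b' F₂ α (b' i) = F₂ (α (b i)) :=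
  Module.Basis.constr_basis _ _ _ _

theorem T_sub (α β : P₁ →ₗ[𝕨] P₂) : T b b' F₂ (α - β) = T b b' F₂ α - T b b' F₂ β :=
  b'.ext fun i => by simp only [LinearMap.sub_apply, T_basis, map_sub]

theorem forall_mem (β : P₁ →ₗ[𝕨] P₂) {𝔠 : Ideal 𝕨}
    (h : ∀ i, β (b i) ∈ 𝔠 • (⊤ : Submodule 𝕨 P₂)) (x : P₁) : β x ∈ 𝔠 • (⊤ : Submodule 𝕨 P₂) := by
  have hle : ⊤ ≤ (𝔠 • (⊤ : Submodule 𝕨 P₂)).comap β := by
    rw [← b.span_eq, Submodule.span_le]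
    rintro _ ⟨i, rfl⟩
    exact h i
  exact hle Submodule.mem_top

theorem T_mem {α : P₁ →ₗ[𝕨] P₂} {𝔠 : Ideal 𝕨} (h : ∀ x, α x ∈ 𝔠 • (⊤ : Submodule 𝕨 P₂)) (x : P₁) :
    T b b' F₂ α x ∈ 𝔠.map σ • (⊤ : Submodule 𝕨 P₂) := by
  refine forall_mem b' _ (fun i => ?_) x
  rw [T_basis]
  refine Submodule.smul_induction_on (h (b i)) (fun c hc y _ => ?_) fun y y' hy hy' => by
    rw [map_add]; exact add_mem hy hy'
  rw [map_smulₛₗ]
  exact Submodule.smul_mem_smul (Ideal.mem_map_of_mem _ hc) Submodule.mem_top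

theorem fixed_iff (hb : ∀ i, F₁ (b i) = b' i) (α : P₁ →ₗ[𝕨] P₂) :
    T b b' F₂ α = α ↔ ∀ x, F₂ (α x) = α (F₁ x) := by
  constructor
  · intro h
    have : F₂.comp α = α.comp F₁ := b.ext fun i => by
      rw [LinearMap.comp_apply, LinearMap.comp_apply, hb, ← T_basis b b' F₂ α i, h]
    exact fun x => LinearMap.congr_fun this x
  · exact fun h => b'.ext fun i => by rw [T_basis, h, hb]

theorem iterate_T_mem {α : P₁ →ₗ[𝕨] P₂} {J : Ideal 𝕨} (h : ∀ x, α x ∈ J • (⊤ : Submodule 𝕨 P₂)) :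
    ∀ (k : ℕ) (x : P₁), (T b b' F₂)^[k] α x ∈
      Ideal.span ((⇑σ)^[k] '' (J : Set 𝕨)) • (⊤ : Submodule 𝕨 P₂) := by
  intro k
  induction k with
  | zero => simpa [Ideal.span_eq] using h
  | succ k ih =>
    intro x
    rw [Function.iterate_succ_apply']
    refine Submodule.smul_mono ?_ le_rfl (T_mem b b' F₂ ih x)
    rw [Ideal.map_span, Function.iterate_succ', Set.image_comp]

theorem iterate_T_eq_zero {α : P₁ →ₗ[𝕨] P₂} {J : Ideal 𝕨} {M : ℕ} (hM : ∀ x ∈ J, (⇑σ)^[M] x = 0)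
    (h : ∀ x, α x ∈ J • (⊤ : Submodule 𝕨 P₂)) : (T b b' F₂)^[M] α = 0 := by
  ext x
  have := iterate_T_mem b b' F₂ h M x
  rw [show Ideal.span ((⇑σ)^[M] '' (J : Set 𝕨)) = ⊥ by
    rw [Ideal.span_eq_bot]; rintro _ ⟨c, hc, rfl⟩; exact hM c hc, Submodule.bot_smul,
    Submodule.mem_bot] at this
  exact this

theorem iterate_T_sub (α β : P₁ →ₗ[𝕨] P₂) (k : ℕ) :
    (T b b' F₂)^[k] (α - β) = (T b b' F₂)^[k] α - (T b b' F₂)^[k] β := by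
  induction k with
  | zero => rfl
  | succ k ih => simp only [Function.iterate_succ_apply', ih, T_sub]

theorem exists_fixed (hb : ∀ i, F₁ (b i) = b' i) {J 𝔠 : Ideal 𝕨} {M : ℕ}
    (hM : ∀ x ∈ J, (⇑σ)^[M] x = 0) (hle : 𝔠 ≤ J) (h𝔠 : 𝔠.map σ ≤ 𝔠) (α₀ : P₁ →ₗ[𝕨] P₂)
    (hα₀ : ∀ x, F₂ (α₀ x) - α₀ (F₁ x) ∈ 𝔠 • (⊤ : Submodule 𝕨 P₂)) :
    ∃ α : P₁ →ₗ[𝕨] P₂, (∀ x, α x - α₀ x ∈ 𝔠 • (⊤ : Submodule 𝕨 P₂)) ∧
      ∀ x, F₂ (α x) = α (F₁ x) := by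
  have hd : ∀ x, (T b b' F₂ α₀ - α₀) x ∈ 𝔠 • (⊤ : Submodule 𝕨 P₂) :=
    forall_mem b' _ fun i => by
      rw [LinearMap.sub_apply, T_basis, ← hb]; exact hα₀ _
  have hcong : ∀ k x, ((T b b' F₂)^[k] α₀ - α₀) x ∈ 𝔠 • (⊤ : Submodule 𝕨 P₂) := by
    intro k
    induction k with
    | zero => simp
    | succ k ih =>
      intro x
      rw [show (T b b' F₂)^[k + 1] α₀ - α₀ =
          T b b' F₂ ((T b b' F₂)^[k] α₀ - α₀) + (T b b' F₂ α₀ - α₀) by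
        rw [T_sub, Function.iterate_succ_apply']; abel, LinearMap.add_apply]
      exact add_mem (Submodule.smul_mono h𝔠 le_rfl (T_mem b b' F₂ ih x)) (hd x)
  refine ⟨(T b b' F₂)^[M] α₀, fun x => hcong M x, (fixed_iff b b' F₁ F₂ hb _).1 ?_⟩
  have h0 := iterate_T_eq_zero b b' F₂ hM (α := T b b' F₂ α₀ - α₀)
    (fun x => Submodule.smul_mono hle le_rfl (hd x))
  rw [iterate_T_sub, sub_eq_zero, ← Function.iterate_succ_apply, Function.iterate_succ_apply'] at h0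
  exact h0

theorem unique_fixed (hb : ∀ i, F₁ (b i) = b' i) {J : Ideal 𝕨} {M : ℕ}
    (hM : ∀ x ∈ J, (⇑σ)^[M] x = 0) {α β : P₁ →ₗ[𝕨] P₂}
    (hα : ∀ x, F₂ (α x) = α (F₁ x)) (hβ : ∀ x, F₂ (β x) = β (F₁ x))
    (h : ∀ x, (α - β) x ∈ J • (⊤ : Submodule 𝕨 P₂)) : α = β := by
  have hfix : ∀ {γ : P₁ →ₗ[𝕨] P₂}, (∀ x, F₂ (γ x) = γ (F₁ x)) → (T b b' F₂)^[M] γ = γ :=
    fun hγ => Function.iterate_fixed ((fixed_iff b b' F₁ F₂ hb _).2 hγ) M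
  have h0 := iterate_T_eq_zero b b' F₂ hM h
  rwa [iterate_T_sub, hfix hα, hfix hβ, sub_eq_zero] at h0

end

end Groth.Agent.Lib.Disp.FLift
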