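import Groth.Agent.Lib.Disp.Absorb

/-!
# High iterates of a nilpotent `V#` are divisible by high powers of `p`
-/

open WittVector Groth.Agent.Lib.Disp.Witt
open W4c1extbt610 (IV Display3n IsHom verschiebung_mem_IV)

universe u v

namespace Groth.Agent.Lib.Disp.Germs

noncomputable section

variable {p : ℕ} [hp : Fact p.Prime] {R : Type u} [CommRing R]

set_option hygiene false in
local notation "𝕨" => WittVector p R
set_option hygiene false in
local notation "σ" => (WittVector.frobenius : WittVector p R →+* WittVector p R)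

variable {P : Type v} [AddCommGroup P] [Module 𝕨 P]

variable (p R P) in
/-- Sequences of elements of the `W ⊗_{σ^(k+1)} P`. -/
abbrev Seq : Type (max u v) := (k : ℕ) → Dieu.BC ((WittVector.frobenius (p := p) (R := R)) ^ (k + 1)) P

variable (p R P) in
/-- Eventually vanishing sequences. -/
def evZero : Submodule 𝕨 (Seq p R P) where
  carrier := {z | ∃ N, ∀ k ≥ N, z k = 0}
  zero_mem' := ⟨0, fun _ _ => rfl⟩
  add_mem' := by
    rintro a b ⟨N, hN⟩ ⟨N', hN'⟩
    exact ⟨max N N', fun k hk => by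
      rw [Pi.add_apply, hN k (le_of_max_le_left hk), hN' k (le_of_max_le_right hk), add_zero]⟩
  smul_mem' := by
    rintro c a ⟨N, hN⟩
    exact ⟨N, fun k hk => by rw [Pi.smul_apply, hN k hk, smul_zero]⟩

/-- The semilinear shift. -/
def next : Seq p R P →ₛₗ[σ] Seq p R P where
  toFun z k := match k with
    | 0 => 0
    | k + 1 => Dieu.BC.castHom (Dieu.comp_pow_eq_pow_succ σ (k + 1)) (Dieu.BC.push (σ ^ (k + 1)) σ (z k))
  map_add' a b := by
    funext k
    rcases k with _ | k
    · simp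
    · simp only [Pi.add_apply, map_add]
  map_smul' c a := by
    funext k
    rcases k with _ | k
    · simp
    · simp only [Pi.smul_apply, map_smulₛₗ]
      rfl

theorem exists_vSharpPow_mem {Vs : P →ₗ[𝕨] Dieu.BC σ P} [Module.Finite 𝕨 P]
    (hnil : Dieu.IsVNilpotent Vs) (m : ℕ) :
    ∃ N : ℕ, ∀ k ≥ N, ∀ x : P, Dieu.vSharpPow Vs k x ∈
      Ideal.span {(p : 𝕨) ^ m} • (⊤ : Submodule 𝕨 (Dieu.BC (σ ^ (k + 1)) P)) := by
  let U : (Seq p R P ⧸ evZero p R P) →ₛₗ[σ] (Seq p R P ⧸ evZero p R P) :=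
    (evZero p R P).mapQ (evZero p R P) next (fun z ⟨N, hN⟩ => ⟨N + 1, fun k hk => by
      obtain ⟨j, rfl⟩ : ∃ j, k = j + 1 := ⟨k - 1, by omega⟩
      change Dieu.BC.castHom _ (Dieu.BC.push (σ ^ (j + 1)) σ (z j)) = 0
      rw [hN j (by omega), map_zero, map_zero]⟩)
  let ω : P →ₗ[𝕨] Seq p R P ⧸ evZero p R P :=
    (evZero p R P).mkQ.comp (LinearMap.pi fun k => Dieu.vSharpPow Vs k)
  have h : ∀ x, ω x = Dieu.BC.lift σ (U.comp ω) (Vs x) := by
    intro x
    have h2 : Dieu.BC.lift σ (U.comp ω) (Vs x) = (evZero p R P).mkQ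
        (Dieu.BC.lift σ (next.comp (LinearMap.pi fun k => Dieu.vSharpPow Vs k)) (Vs x)) := by
      induction Vs x using Dieu.BC.induction_on σ with
      | zero => simp only [map_zero]
      | tmul b y => rw [Dieu.BC.lift_tmul, Dieu.BC.lift_tmul, map_smul]; rfl
      | add a b ha hb => simp only [map_add, ha, hb]
    rw [h2]
    refine (Submodule.Quotient.eq _).2 ⟨1, fun k hk => ?_⟩
    obtain ⟨j, rfl⟩ : ∃ j, k = j + 1 := ⟨k - 1, by omega⟩
    rw [Pi.sub_apply, sub_eq_zero, LinearMap.pi_apply, Dieu.vSharpPow_succ_apply]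
    induction Vs x using Dieu.BC.induction_on σ with
    | zero => simp only [map_zero, Pi.zero_apply]
    | add a b ha hb => simp only [map_add, Pi.add_apply, ha, hb]
    | tmul b y =>
      rw [Dieu.BC.map_tmul, Dieu.BC.lift_tmul, Dieu.BC.lift_tmul, Pi.smul_apply, map_smul]
      rfl
  have habs := Absorb.mem_pow_smul_top (U := U) hnil h m
  have hx : ∀ x : P, ∃ N, ∀ k ≥ N, Dieu.vSharpPow Vs k x ∈
      Ideal.span {(p : 𝕨) ^ m} • (⊤ : Submodule 𝕨 (Dieu.BC (σ ^ (k + 1)) P)) := by
    intro x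
    have hle : Ideal.span {(p : 𝕨) ^ m} • (⊤ : Submodule 𝕨 (Seq p R P ⧸ evZero p R P)) ≤
        (Ideal.span {(p : 𝕨) ^ m} • (⊤ : Submodule 𝕨 (Seq p R P))).map (evZero p R P).mkQ := by
      rw [Submodule.map_smul'', Submodule.map_top, Submodule.range_mkQ]
    obtain ⟨z, hz, hzx⟩ := hle (habs x)
    obtain ⟨N, hN⟩ := (Submodule.Quotient.eq _).1 hzx
    refine ⟨N, fun k hk => ?_⟩
    have h1 := sub_eq_zero.1 (hN k hk)
    rw [LinearMap.pi_apply] at h1
    rw [← h1]
    have := Submodule.mem_map_of_mem (f := LinearMap.proj k) hz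
    rw [Submodule.map_smul''] at this
    exact Submodule.smul_mono le_rfl le_top this
  classical
  obtain ⟨s, hs⟩ := Module.Finite.fg_top (R := 𝕨) (M := P)
  choose N hN using hx
  refine ⟨s.sup N, fun k hk x => ?_⟩
  have hx' : x ∈ Submodule.span 𝕨 (s : Set P) := hs ▸ Submodule.mem_top
  induction hx' using Submodule.span_induction with
  | mem y hy => exact hN y k ((Finset.le_sup hy).trans hk)
  | zero => rw [map_zero]; exact zero_mem _
  | add a b _ _ ha hb => rw [map_add]; exact add_mem ha hb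
  | smul c a _ ha => rw [map_smul]; exact Submodule.smul_mem _ _ ha

end

end Groth.Agent.Lib.Disp.Germs
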