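import Groth.Agent.Lib.Disp.Rigidity

/-!
# Lifting homomorphisms of displays up to a power of `p`
-/

open WittVector Groth.Agent.Lib.Disp.Witt Groth.Agent.Lib.Disp.Basic
open W4c1extbt610 (IV Display3n IsHom verschiebung_mem_IV)

universe u v w

namespace Groth.Agent.Lib.Disp.Lift

noncomputable section

variable {p : ℕ} [hp : Fact p.Prime] {S : Type u} [CommRing S] {R : Type u} [CommRing R]

set_option hygiene false in
local notation "𝕨" => WittVector p S
set_option hygiene false in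
local notation "σ" => (WittVector.frobenius : WittVector p S →+* WittVector p S)
set_option hygiene false in
local notation "Wf" => (WittVector.map f : WittVector p S →+* WittVector p R)

variable {P : Type v} [AddCommGroup P] [Module 𝕨 P] {P' : Type w} [AddCommGroup P'] [Module 𝕨 P']

theorem ι_eq_zero (f : S →+* R) (D' : Display3n p S P') {z : P'}
    (h : Dieu.BC.tmul Wf 1 z = 0) :
    z ∈ WI (p := p) (RingHom.ker f) • (⊤ : Submodule 𝕨 P') := by
  obtain ⟨n, g, e, hge⟩ := exists_coords D'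
  refine mem_smul_top_of_coords hge fun j => ?_
  rw [← ker_map_eq, RingHom.mem_ker]
  have := congrArg (Dieu.BC.lift Wf ((Dieu.semilinearOfRingHom Wf).comp (g j))) h
  rwa [Dieu.BC.lift_tmul, one_smul, map_zero] at this

theorem ι_mem (f : S →+* R) {z : P'} (h : z ∈ WI (p := p) (RingHom.ker f) • (⊤ : Submodule 𝕨 P')) :
    Dieu.BC.tmul Wf 1 z = 0 := by
  change Dieu.BC.ι Wf P' z = 0
  refine Submodule.smul_induction_on h (fun c hc x _ => ?_) fun x y hx hy => by
    rw [map_add, hx, hy, add_zero]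
  rw [map_smulₛₗ, RingHom.mem_ker.1 (show c ∈ RingHom.ker Wf by rwa [ker_map_eq]), zero_smul]

theorem exists_lift (f : S →+* R) (hf : Function.Surjective f) (D : Display3n p S P)
    (χ : Dieu.BC Wf P →ₗ[WittVector p R] Dieu.BC Wf P') :
    ∃ φ : P →ₗ[𝕨] P', ∀ x, Dieu.BC.tmul Wf 1 (φ x) = χ (Dieu.BC.tmul Wf 1 x) := by
  obtain ⟨n, g, e, hge⟩ := exists_coords D
  have hsurj : ∀ z : Dieu.BC Wf P', ∃ u : P', Dieu.BC.tmul Wf 1 u = z := by
    intro z
    induction z using Dieu.BC.induction_on Wf with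
    | zero => exact ⟨0, Dieu.BC.tmul_zero _ _⟩
    | tmul b x =>
      obtain ⟨c, rfl⟩ := WittVector.map_surjective f hf b
      exact ⟨c • x, (Dieu.BC.tmul_apply_eq Wf c x).symm⟩
    | add a b ha hb =>
      obtain ⟨u, rfl⟩ := ha
      obtain ⟨v, rfl⟩ := hb
      exact ⟨u + v, Dieu.BC.tmul_add _ _ _ _⟩
  choose u hu using fun j => hsurj (χ (Dieu.BC.tmul Wf 1 (e j)))
  refine ⟨∑ j, (g j).smulRight (u j), fun x => ?_⟩
  rw [LinearMap.sum_apply]
  conv_rhs => rw [← hge x]
  change Dieu.BC.ι Wf P' _ = χ (Dieu.BC.ι Wf P _)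
  simp only [map_sum, LinearMap.smulRight_apply, map_smulₛₗ, RingHom.id_apply]
  exact Finset.sum_congr rfl fun j _ => congrArg (Wf (g j x) • ·) (hu j)

/-- `T φ = F'# ∘ σ*φ ∘ V#`. -/
def T (Vs : P →ₗ[𝕨] Dieu.BC σ P) (D' : Display3n p S P') (φ : P →ₗ[𝕨] P') : P →ₗ[𝕨] P' :=
  (Dieu.BC.lift σ (D'.F.comp φ)).comp Vs

theorem T_sub (Vs : P →ₗ[𝕨] Dieu.BC σ P) (D' : Display3n p S P') (φ ψ : P →ₗ[𝕨] P') :
    T Vs D' (φ - ψ) = T Vs D' φ - T Vs D' ψ := by
  ext x
  simp only [T, LinearMap.comp_apply, LinearMap.sub_apply]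
  induction Vs x using Dieu.BC.induction_on σ with
  | zero => simp only [map_zero, sub_zero]
  | tmul b y =>
    simp only [Dieu.BC.lift_tmul, LinearMap.comp_apply, LinearMap.sub_apply, map_sub, smul_sub]
  | add a b ha hb => simp only [map_add, ha, hb]; abel

theorem T_smul (Vs : P →ₗ[𝕨] Dieu.BC σ P) (D' : Display3n p S P') (c : 𝕨) (φ : P →ₗ[𝕨] P') :
    T Vs D' (c • φ) = σ c • T Vs D' φ := by
  ext x
  simp only [T, LinearMap.comp_apply, LinearMap.smul_apply]
  induction Vs x using Dieu.BC.induction_on σ with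
  | zero => simp only [map_zero, smul_zero]
  | tmul b y =>
    simp only [Dieu.BC.lift_tmul, LinearMap.comp_apply, LinearMap.smul_apply, map_smulₛₗ, smul_smul]
    rw [mul_comm]
  | add a b ha hb => simp only [map_add, ha, hb, smul_add]

theorem T_mem (Vs : P →ₗ[𝕨] Dieu.BC σ P) (D' : Display3n p S P') {𝔠 : Ideal 𝕨} {φ : P →ₗ[𝕨] P'}
    (h : ∀ x, φ x ∈ 𝔠 • (⊤ : Submodule 𝕨 P')) (x : P) :
    T Vs D' φ x ∈ 𝔠.map σ • (⊤ : Submodule 𝕨 P') := by
  simp only [T, LinearMap.comp_apply]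
  induction Vs x using Dieu.BC.induction_on σ with
  | zero => rw [map_zero]; exact zero_mem _
  | add a b ha hb => rw [map_add]; exact add_mem ha hb
  | tmul b y =>
    rw [Dieu.BC.lift_tmul, LinearMap.comp_apply]
    refine Submodule.smul_mem _ _ ?_
    refine Submodule.smul_induction_on (h y) (fun c hc z _ => ?_) fun a b ha hb => by
      rw [map_add]; exact add_mem ha hb
    rw [map_smulₛₗ]
    exact Submodule.smul_mem_smul (Ideal.mem_map_of_mem _ hc) Submodule.mem_top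

theorem map_frobenius_WI_le (f : S →+* R) :
    (WI (p := p) (RingHom.ker f)).map σ ≤ WI (RingHom.ker f) := by
  rw [Ideal.map_le_iff_le_comap]
  intro c hc
  rw [← ker_map_eq, RingHom.mem_ker] at hc
  rw [Ideal.mem_comap, ← ker_map_eq, RingHom.mem_ker, Witt.map_frobenius, hc, map_zero]

theorem exists_hom_lift (hpn : IsNilpotent (p : S)) (f : S →+* R) (hf : Function.Surjective f)
    (hker : IsNilpotent (RingHom.ker f)) (D : Display3n p S P) (D' : Display3n p S P')
    (hD : Dieu.IsDisplay D)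
    (DR : Display3n p R (Dieu.BC Wf P)) (hDR : Dieu.IsDispBaseChange f D DR)
    (DR' : Display3n p R (Dieu.BC Wf P')) (hDR' : Dieu.IsDispBaseChange f D' DR')
    (χ : Dieu.BC Wf P →ₗ[WittVector p R] Dieu.BC Wf P') (hχ : IsHom DR DR' χ) :
    ∃ (n : ℕ) (ψ : P →ₗ[𝕨] P'), IsHom D D' ψ ∧
      Dieu.BC.map Wf ψ = ((p : WittVector p R) ^ n) • χ := by
  obtain ⟨Vs, hVs, -⟩ := hD
  obtain ⟨φ, hφ⟩ := exists_lift f hf D χ
  let J : Ideal 𝕨 := WI (RingHom.ker f)
  -- `T φ ≡ p φ`
  have hd : ∀ x, (T Vs D' φ - (p : 𝕨) • φ) x ∈ J • (⊤ : Submodule 𝕨 P') := by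
    have hle : ⊤ ≤ (J • (⊤ : Submodule 𝕨 P')).comap (T Vs D' φ - (p : 𝕨) • φ) := by
      rw [← D.span_range_Vinv, Submodule.span_le]
      rintro _ ⟨y, rfl⟩
      refine ι_eq_zero f D' ?_
      have hq : Dieu.BC.tmul Wf 1 (D.F (y : P)) = (p : WittVector p R) • Dieu.BC.tmul Wf 1 (D.Vinv y) := by
        rw [F_apply_Q]
        change Dieu.BC.ι Wf P ((p : 𝕨) • D.Vinv y) = _
        rw [map_smulₛₗ, map_natCast]
        rfl
      rw [LinearMap.sub_apply, T, LinearMap.comp_apply, Vs_Vinv hVs, Dieu.BC.lift_tmul, one_smul,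
        LinearMap.smul_apply, LinearMap.comp_apply]
      change Dieu.BC.ι Wf P' (D'.F (φ (y : P)) - (p : 𝕨) • φ (D.Vinv y)) = 0
      rw [map_sub, map_smulₛₗ, map_natCast, sub_eq_zero]
      change Dieu.BC.tmul Wf 1 (D'.F (φ (y : P))) = (p : WittVector p R) • Dieu.BC.tmul Wf 1 (φ (D.Vinv y))
      have h1 := hDR'.F_tmul 1 (φ (y : P))
      have h2 := hDR.F_tmul 1 (y : P)
      rw [map_one] at h1 h2
      rw [← h1, hφ, ← hχ.comm_F, h2, hq, map_smul, hφ]
    exact fun x => hle Submodule.mem_top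
  obtain ⟨N, hN⟩ := hker
  obtain ⟨M, hM⟩ := exists_frobenius_pow_eq_zero (p := p) hpn (RingHom.ker f) N fun a ha => by
    have := Ideal.pow_mem_pow ha N
    rwa [hN] at this
  obtain ⟨e, he⟩ := hpn
  -- iterates of `T`
  let it : ℕ → (P →ₗ[𝕨] P') := fun k => (T Vs D')^[k] φ
  have hTd : ∀ k, ∀ x, (it (k + 1) - (p : 𝕨) • it k) x ∈
      Ideal.span ((⇑σ)^[k] '' (J : Set 𝕨)) • (⊤ : Submodule 𝕨 P') := by
    intro k
    induction k with
    | zero => simpa [it] using hd
    | succ k ih =>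
      intro x
      have hval : it (k + 1 + 1) - (p : 𝕨) • it (k + 1) = T Vs D' (it (k + 1) - (p : 𝕨) • it k) := by
        rw [T_sub, T_smul, map_natCast]
        simp only [it, Function.iterate_succ_apply']
      rw [hval]
      refine Submodule.smul_mono ?_ le_rfl (T_mem Vs D' ih x)
      rw [Ideal.map_span, Function.iterate_succ', Set.image_comp]
  have hcong : ∀ k, ∀ x, (it k - ((p : 𝕨) ^ k) • φ) x ∈ J • (⊤ : Submodule 𝕨 P') := by
    intro k
    induction k with
    | zero => simp [it]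
    | succ k ih =>
      intro x
      have hval : it (k + 1) - (p : 𝕨) ^ (k + 1) • φ =
          T Vs D' (it k - ((p : 𝕨) ^ k) • φ) + (p : 𝕨) ^ k • (T Vs D' φ - (p : 𝕨) • φ) := by
        rw [T_sub, T_smul, map_pow, map_natCast, smul_sub, smul_smul, ← pow_succ]
        simp only [it, Function.iterate_succ_apply']
        abel
      rw [hval, LinearMap.add_apply, LinearMap.smul_apply]
      exact add_mem (Submodule.smul_mono (map_frobenius_WI_le f) le_rfl (T_mem Vs D' ih x))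
        (Submodule.smul_mem _ _ (hd x))
  have hTψ : T Vs D' (it M) = (p : 𝕨) • it M := by
    ext x
    have h0 := hTd M x
    rw [show Ideal.span ((⇑σ)^[M] '' (J : Set 𝕨)) = ⊥ by
      rw [Ideal.span_eq_bot]; rintro _ ⟨c, hc, rfl⟩; exact hM c hc, Submodule.bot_smul,
      Submodule.mem_bot, LinearMap.sub_apply, sub_eq_zero] at h0
    simpa [it, Function.iterate_succ_apply'] using h0
  -- the homomorphism
  refine ⟨e + 1 + M, (p : 𝕨) ^ (e + 1) • it M, ?_, ?_⟩
  · have hQ : ∀ z : P', (p : 𝕨) ^ e • z ∈ D'.Q := fun z =>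
      D'.IV_smul_le (Submodule.smul_mem_smul
        (by rw [IV_eq_ker, RingHom.mem_ker, map_pow, map_natCast, he]) Submodule.mem_top)
    have hF : ∀ x, (p : 𝕨) • it M (D.F x) = (p : 𝕨) • D'.F (it M x) := fun x => by
      have h := LinearMap.congr_fun hTψ (D.F x)
      rw [T, LinearMap.comp_apply, Vs_F hVs, map_smul, Dieu.BC.lift_tmul, one_smul] at h
      exact h.symm
    have hm : ∀ q : P, q ∈ D.Q → ((p : 𝕨) ^ (e + 1) • it M) q ∈ D'.Q := fun q _ => by
      rw [LinearMap.smul_apply, pow_succ, mul_smul]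
      exact hQ _
    refine ⟨hm, fun x => ?_, fun y => ?_⟩
    · simp only [LinearMap.smul_apply, map_smulₛₗ, map_pow, map_natCast, pow_succ, mul_smul, hF x]
    · have h := LinearMap.congr_fun hTψ (D.Vinv y)
      rw [T, LinearMap.comp_apply, Vs_Vinv hVs, Dieu.BC.lift_tmul, one_smul, LinearMap.comp_apply,
        LinearMap.smul_apply] at h
      rw [Vinv_eq_of_eq D' (hm y y.2) (D'.Q.smul_mem (p : 𝕨) (hQ (it M y)))
        (by rw [LinearMap.smul_apply, smul_smul, ← pow_succ'])]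
      rw [show (⟨(p : 𝕨) • (p : 𝕨) ^ e • it M y, D'.Q.smul_mem (p : 𝕨) (hQ (it M y))⟩ : D'.Q) =
        (p : 𝕨) • (⟨(p : 𝕨) ^ e • it M y, hQ (it M y)⟩ : D'.Q) from rfl, map_smulₛₗ, map_natCast,
        ← F_apply_Q, map_smulₛₗ, map_pow, map_natCast, h, LinearMap.smul_apply, smul_smul, ← pow_succ]
  · refine Dieu.BC.ext Wf fun x => ?_
    have h := ι_mem f (hcong M x)
    change Dieu.BC.ι Wf P' _ = 0 at h
    rw [LinearMap.sub_apply, LinearMap.smul_apply, map_sub, map_smulₛₗ, map_pow, map_natCast,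
      sub_eq_zero] at h
    rw [Dieu.BC.map_tmul, LinearMap.smul_apply, LinearMap.smul_apply]
    change Dieu.BC.ι Wf P' _ = _
    rw [map_smulₛₗ, map_pow, map_natCast, h, smul_smul, ← pow_add]
    congr 1
    exact hφ x

theorem hom_injective (hpn : IsNilpotent (p : S)) (f : S →+* R)
    (hker : IsNilpotent (RingHom.ker f)) (D : Display3n p S P) (D' : Display3n p S P')
    (hD : Dieu.IsDisplay D) (ψ χ : P →ₗ[𝕨] P') (hψ : IsHom D D' ψ) (hχ : IsHom D D' χ)
    (h : ∀ x, (ψ - χ) x ∈ WI (p := p) (RingHom.ker f) • (⊤ : Submodule 𝕨 P')) : ψ = χ := by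
  refine sub_eq_zero.1 (Rigidity.rigid D' D hpn hD hker (ψ - χ)
    (fun y hy => sub_mem (hψ.mapsTo y hy) (hχ.mapsTo y hy)) (fun y => ?_) h)
  rw [LinearMap.sub_apply, hψ.comm_Vinv, hχ.comm_Vinv, ← map_sub]
  rfl

/-- Torsion-freeness of homomorphisms of displays. -/
theorem eq_zero_of_p_smul (hpn : IsNilpotent (p : S)) (hn : IsNilpotent (nilradical S))
    (D : Display3n p S P) (D' : Display3n p S P') (hD : Dieu.IsDisplay D) (ψ : P →ₗ[𝕨] P')
    (hψ : IsHom D D' ψ) (h : (p : 𝕨) • ψ = 0) : ψ = 0 := by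
  refine Rigidity.rigid D' D hpn hD hn ψ hψ.mapsTo hψ.comm_Vinv fun x => ?_
  obtain ⟨n, g, e, hge⟩ := exists_coords D'
  refine mem_smul_top_of_coords hge fun j => mem_WI.2 fun i => ?_
  have h1 : (p : 𝕨) * g j (ψ x) = 0 := by
    rw [← smul_eq_mul, ← map_smul, ← LinearMap.smul_apply, h, LinearMap.zero_apply, map_zero]
  rcases subsingleton_or_nontrivial (S ⧸ nilradical S) with hs | hs
  · exact Ideal.Quotient.eq_zero_iff_mem.1 (Subsingleton.elim _ _)
  have hchar : CharP (S ⧸ nilradical S) p := by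
    rw [CharP.charP_iff_prime_eq_zero hp.out, ← map_natCast (Ideal.Quotient.mk (nilradical S)),
      Ideal.Quotient.eq_zero_iff_mem, mem_nilradical]
    exact hpn
  have h2 := congrArg (fun z => (WittVector.map (Ideal.Quotient.mk (nilradical S)) z).coeff (i + 1)) h1
  simp only [map_mul, map_natCast, map_zero, zero_coeff] at h2
  rw [mul_comm, mul_charP_coeff_succ, map_coeff, ← map_pow, Ideal.Quotient.eq_zero_iff_mem,
    mem_nilradical] at h2
  exact mem_nilradical.2 (h2.of_pow)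

end

end Groth.Agent.Lib.Disp.Lift
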