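import Groth.Agent.Lib.Disp.Absorb

/-!
# Rigidity of homomorphisms of displays
-/

open WittVector Groth.Agent.Lib.Disp.Witt Groth.Agent.Lib.Disp.Basic
open W4c1extbt610 (IV Display3n IsHom verschiebung_mem_IV)

universe u v w

namespace Groth.Agent.Lib.Disp.Rigidity

noncomputable section

variable {p : ℕ} [hp : Fact p.Prime] {R : Type u} [CommRing R]

set_option hygiene false in
local notation "𝕨" => WittVector p R
set_option hygiene false in
local notation "σ" => (WittVector.frobenius : WittVector p R →+* WittVector p R)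

variable {P' : Type w} [AddCommGroup P'] [Module 𝕨 P'] (D' : Display3n p R P') {n : ℕ}
variable (f : Fin n → (P' →ₗ[𝕨] 𝕨)) (e : Fin n → P')

/-- The candidate extension of `V⁻¹` to `W(𝔟) P'`. -/
def Uhat (z : P') : P' := ∑ j, shift (f j z) • D'.F (e j)

variable {f e} (hfe : ∀ x : P', ∑ j, f j x • e j = x) (𝔟 : Ideal R)

include hfe

theorem Uhat_mem {z : P'} (hz : z ∈ WI (p := p) 𝔟 • (⊤ : Submodule 𝕨 P')) :
    Uhat D' f e z ∈ WI (p := p) 𝔟 • (⊤ : Submodule 𝕨 P') :=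
  Submodule.sum_mem _ fun j _ =>
    Submodule.smul_mem_smul (shift_mem_WI (apply_mem_of_mem_smul_top hz (f j))) Submodule.mem_top

theorem Uhat_add {z z' : P'} (hz : z ∈ WI (p := p) 𝔟 • (⊤ : Submodule 𝕨 P'))
    (hz' : z' ∈ WI (p := p) 𝔟 • (⊤ : Submodule 𝕨 P')) :
    Uhat D' f e (z + z') - (Uhat D' f e z + Uhat D' f e z') ∈
      WI (p := p) (𝔟 ^ 2) • (⊤ : Submodule 𝕨 P') := by
  rw [Uhat, Uhat, Uhat, ← Finset.sum_add_distrib, ← Finset.sum_sub_distrib]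
  refine Submodule.sum_mem _ fun j _ => ?_
  rw [map_add, ← add_smul, ← sub_smul]
  exact Submodule.smul_mem_smul
    (shift_add_congr (apply_mem_of_mem_smul_top hz (f j)) (apply_mem_of_mem_smul_top hz' (f j)))
    Submodule.mem_top

theorem Uhat_smul (c : 𝕨) {z : P'} (hz : z ∈ WI (p := p) 𝔟 • (⊤ : Submodule 𝕨 P')) :
    Uhat D' f e (c • z) - σ c • Uhat D' f e z ∈ WI (p := p) (𝔟 ^ 2) • (⊤ : Submodule 𝕨 P') := by
  rw [Uhat, Uhat, Finset.smul_sum, ← Finset.sum_sub_distrib]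
  refine Submodule.sum_mem _ fun j _ => ?_
  rw [map_smul, smul_eq_mul, smul_smul, ← sub_smul]
  exact Submodule.smul_mem_smul (shift_mul_congr c (apply_mem_of_mem_smul_top hz (f j)))
    Submodule.mem_top

theorem Uhat_smul_left {c : 𝕨} (hc : c ∈ WI (p := p) 𝔟) (x : P') :
    Uhat D' f e (c • x) - shift c • D'.F x ∈ WI (p := p) (𝔟 ^ 2) • (⊤ : Submodule 𝕨 P') := by
  have hF : D'.F x = ∑ j, σ (f j x) • D'.F (e j) := by
    conv_lhs => rw [← hfe x, map_sum]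
    simp only [map_smulₛₗ]
  rw [Uhat, hF, Finset.smul_sum, ← Finset.sum_sub_distrib]
  refine Submodule.sum_mem _ fun j _ => ?_
  rw [map_smul, smul_eq_mul, smul_smul, ← sub_smul, mul_comm c, mul_comm (shift c)]
  exact Submodule.smul_mem_smul (shift_mul_congr _ hc) Submodule.mem_top

/-- `Vinv' z ≡ Uhat z` modulo `W(𝔟²)`. -/
def Good (z : P') : Prop :=
  z ∈ WI (p := p) 𝔟 • (⊤ : Submodule 𝕨 P') ∧
    ∃ hz : z ∈ D'.Q, D'.Vinv ⟨z, hz⟩ - Uhat D' f e z ∈ WI (p := p) (𝔟 ^ 2) • (⊤ : Submodule 𝕨 P')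

theorem good_add {z z' : P'} (h : Good D' (f := f) (e := e) 𝔟 z) (h' : Good D' (f := f) (e := e) 𝔟 z') :
    Good D' (f := f) (e := e) 𝔟 (z + z') := by
  obtain ⟨hz1, hz2, hz3⟩ := h
  obtain ⟨hz1', hz2', hz3'⟩ := h'
  refine ⟨add_mem hz1 hz1', add_mem hz2 hz2', ?_⟩
  rw [show (⟨z + z', add_mem hz2 hz2'⟩ : D'.Q) = ⟨z, hz2⟩ + ⟨z', hz2'⟩ from rfl, map_add]
  have := sub_mem (add_mem hz3 hz3') (Uhat_add D' hfe 𝔟 hz1 hz1')
  convert this using 1
  abel

theorem good_sum {ι : Type*} (s : Finset ι) (z : ι → P')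
    (h : ∀ i ∈ s, Good D' (f := f) (e := e) 𝔟 (z i)) : Good D' (f := f) (e := e) 𝔟 (∑ i ∈ s, z i) := by
  classical
  induction s using Finset.induction with
  | empty =>
    refine ⟨zero_mem _, zero_mem _, ?_⟩
    simp only [Finset.sum_empty]
    rw [show (⟨0, zero_mem _⟩ : D'.Q) = 0 from rfl, map_zero]
    simp only [Uhat, map_zero]
    rw [show shift (0 : 𝕨) = 0 by ext i; simp]
    simp
  | insert a s ha ih =>
    rw [Finset.sum_insert ha]
    exact good_add D' hfe 𝔟 (h a (Finset.mem_insert_self a s))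
      (ih fun i hi => h i (Finset.mem_insert_of_mem hi))

theorem good_smul_mem_Q {c : 𝕨} (hc : c ∈ WI (p := p) 𝔟) {x : P'} (hx : x ∈ D'.Q) :
    Good D' (f := f) (e := e) 𝔟 (c • x) := by
  refine ⟨Submodule.smul_mem_smul hc Submodule.mem_top, D'.Q.smul_mem c hx, ?_⟩
  rw [show (⟨c • x, D'.Q.smul_mem c hx⟩ : D'.Q) = c • (⟨x, hx⟩ : D'.Q) from rfl, map_smulₛₗ]
  have h1 : σ c = teichmuller p (c.coeff 0 ^ p) + (p : 𝕨) * shift c := by
    conv_lhs => rw [eq_teich_add c, map_add, Witt.frobenius_teichmuller,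
      WittVector.frobenius_verschiebung, mul_comm (shift c)]
  rw [h1, add_smul, mul_comm (p : 𝕨), mul_smul, ← F_apply_Q]
  have h2 : teichmuller p (c.coeff 0 ^ p) ∈ WI (p := p) (𝔟 ^ 2) := by
    refine mem_WI.2 fun i => ?_
    rcases i with _ | i
    · rw [teichmuller_coeff_zero]
      exact Ideal.pow_le_pow_right hp.out.two_le (Ideal.pow_mem_pow (mem_WI.1 hc 0) p)
    · rw [teichmuller_coeff_pos p _ _ i.succ_pos]
      exact zero_mem _
  have := sub_mem (Submodule.smul_mem_smul h2 (Submodule.mem_top (x := D'.Vinv ⟨x, hx⟩)))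
    (Uhat_smul_left D' hfe 𝔟 hc x)
  convert this using 1
  abel

theorem good_smul_IV {c : 𝕨} (hc : c ∈ WI (p := p) 𝔟) (hc' : c ∈ IV p R) (x : P') :
    Good D' (f := f) (e := e) 𝔟 (c • x) := by
  refine ⟨Submodule.smul_mem_smul hc Submodule.mem_top,
    D'.IV_smul_le (Submodule.smul_mem_smul hc' Submodule.mem_top), ?_⟩
  have hcV : c = verschiebung (shift c) := eq_verschiebung (mem_IV.1 hc')
  have h1 := D'.Vinv_verschiebung_smul (shift c) x
  rw [Vinv_eq_of_eq D' _ (D'.IV_smul_le (Submodule.smul_mem_smul (verschiebung_mem_IV p R _) Submodule.mem_top))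
    (show c • x = verschiebung (shift c) • x by rw [← hcV]), h1]
  rw [← neg_sub]
  exact neg_mem (Uhat_smul_left D' hfe 𝔟 hc x)

theorem Vinv_sub_Uhat_mem {z : P'} (hz : z ∈ D'.Q) (hz' : z ∈ WI (p := p) 𝔟 • (⊤ : Submodule 𝕨 P')) :
    D'.Vinv ⟨z, hz⟩ - Uhat D' f e z ∈ WI (p := p) (𝔟 ^ 2) • (⊤ : Submodule 𝕨 P') := by
  obtain ⟨L, T, hc, hQ⟩ := D'.exists_normal
  let πL : P' →ₗ[𝕨] P' := L.subtype.comp (L.projectionOnto T hc)
  let πT : P' →ₗ[𝕨] P' := T.subtype.comp (T.projectionOnto L hc.symm)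
  have hsum : ∀ x, πL x + πT x = x := fun x =>
    Submodule.projection_add_projection_eq_self hc x
  have hπT : πT z ∈ IV p R • (⊤ : Submodule 𝕨 P') := by
    rw [hQ] at hz
    obtain ⟨l, hl, t, ht, hlt⟩ := Submodule.mem_sup.1 hz
    have htT : t ∈ T := Submodule.smul_le_right ht
    have h1 : πT l = 0 := by
      simp [πT, Submodule.projectionOnto_apply_eq_zero_iff, hl]
    have h2 : πT t = t := by
      simp [πT, Submodule.projectionOnto_apply_left _ ⟨t, htT⟩]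
    rw [← hlt, map_add, h1, h2, zero_add]
    exact Submodule.smul_mono le_rfl le_top ht
  have hL : πL z = ∑ j, f j z • πL (e j) := by
    conv_lhs => rw [← hfe z, map_sum]
    simp only [map_smul]
  have hT : πT z = ∑ j, f j (πT z) • e j := (hfe _).symm
  have hgood : Good D' (f := f) (e := e) 𝔟 z := by
    rw [← hsum z]
    refine good_add D' hfe 𝔟 (hL ▸ good_sum D' hfe 𝔟 _ _ fun j _ => ?_)
      (hT ▸ good_sum D' hfe 𝔟 _ _ fun j _ => ?_)
    · exact good_smul_mem_Q D' hfe 𝔟 (apply_mem_of_mem_smul_top hz' (f j))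
        (hQ.ge (Submodule.mem_sup_left (Subtype.prop _)))
    · refine good_smul_IV D' hfe 𝔟 ?_ (apply_mem_of_mem_smul_top hπT (f j)) (e j)
      exact apply_mem_of_mem_smul_top hz' ((f j).comp πT)
  exact hgood.2.2

omit hfe

variable {P : Type v} [AddCommGroup P] [Module 𝕨 P] (D : Display3n p R P)

/-- One step of rigidity. -/
theorem rigid_step (hpn : IsNilpotent (p : R)) (hD : Dieu.IsDisplay D) (ω : P →ₗ[𝕨] P')
    (hQ : ∀ y, y ∈ D.Q → ω y ∈ D'.Q)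
    (hV : ∀ y : D.Q, ω (D.Vinv y) = D'.Vinv ⟨ω y, hQ y y.2⟩)
    (h : ∀ x, ω x ∈ WI (p := p) 𝔟 • (⊤ : Submodule 𝕨 P')) :
    ∀ x, ω x ∈ WI (p := p) (𝔟 ^ 2) • (⊤ : Submodule 𝕨 P') := by
  obtain ⟨n, f, e, hfe⟩ := exists_coords D'
  obtain ⟨Vs, hVs, hnil⟩ := hD
  let N1 : Submodule 𝕨 P' := WI (p := p) 𝔟 • ⊤
  let K1 : Submodule 𝕨 N1 := (WI (p := p) (𝔟 ^ 2) • (⊤ : Submodule 𝕨 P')).comap N1.subtype
  let Uf : N1 → N1 ⧸ K1 := fun z =>
    Submodule.Quotient.mk ⟨Uhat D' f e z, Uhat_mem D' hfe 𝔟 z.2⟩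
  let U0 : N1 →ₛₗ[σ] N1 ⧸ K1 :=
    { toFun := Uf
      map_add' := fun a b => by
        simp only [Uf]
        rw [← Submodule.Quotient.mk_add, Submodule.Quotient.eq]
        exact Uhat_add D' hfe 𝔟 a.2 b.2
      map_smul' := fun c a => by
        simp only [Uf]
        rw [← Submodule.Quotient.mk_smul, Submodule.Quotient.eq]
        exact Uhat_smul D' hfe 𝔟 c a.2 }
  have hker : K1 ≤ LinearMap.ker U0 := fun z hz => by
    refine (Submodule.Quotient.mk_eq_zero K1).2 ?_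
    change Uhat D' f e (z : P') ∈ WI (p := p) (𝔟 ^ 2) • (⊤ : Submodule 𝕨 P')
    exact Submodule.sum_mem _ fun j _ => Submodule.smul_mem_smul
      (shift_mem_WI (apply_mem_of_mem_smul_top (show (z : P') ∈ WI (p := p) (𝔟 ^ 2) • (⊤ : Submodule 𝕨 P') from hz) (f j))) Submodule.mem_top
  let U : N1 ⧸ K1 →ₛₗ[σ] N1 ⧸ K1 := K1.liftQ U0 hker
  let ω1 : P →ₗ[𝕨] N1 ⧸ K1 := K1.mkQ.comp (ω.codRestrict N1 h)
  have hVω : ∀ y : D.Q, ω1 (D.Vinv y) = U (ω1 (y : P)) := fun y => by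
    refine (Submodule.Quotient.eq K1).2 ?_
    change ω (D.Vinv y) - Uhat D' f e (ω (y : P)) ∈ WI (p := p) (𝔟 ^ 2) • (⊤ : Submodule 𝕨 P')
    rw [hV y]
    exact Vinv_sub_Uhat_mem D' hfe 𝔟 _ (h _)
  have hωeq : ω1 = (Dieu.BC.lift σ (U.comp ω1)).comp Vs := ext_Vinv D fun y => by
    change ω1 (D.Vinv y) = Dieu.BC.lift σ (U.comp ω1) (Vs (D.Vinv y))
    rw [hVω, Vs_Vinv hVs, Dieu.BC.lift_tmul, one_smul]
    rfl
  have habs := Absorb.mem_pow_smul_top (U := U) hnil (fun x => LinearMap.congr_fun hωeq x)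
  intro x
  refine mem_smul_top_of_coords hfe fun j => ?_
  rw [WI, RingHom.mem_ker]
  refine eq_zero_of_forall_dvd ?_ fun m => ?_
  · exact hpn.map (Ideal.Quotient.mk (𝔟 ^ 2)) |>.map (RingHom.id _) |> fun h => by simpa using h
  have h1 : ω x ∈ Ideal.span {(p : 𝕨) ^ m} • (⊤ : Submodule 𝕨 P') ⊔
      WI (p := p) (𝔟 ^ 2) • (⊤ : Submodule 𝕨 P') := by
    have hle : Ideal.span {(p : 𝕨) ^ m} • (⊤ : Submodule 𝕨 (N1 ⧸ K1)) ≤
        ((Ideal.span {(p : 𝕨) ^ m} • (⊤ : Submodule 𝕨 N1)).map K1.mkQ) := by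
      rw [Submodule.map_smul'', Submodule.map_top, Submodule.range_mkQ]
    obtain ⟨z, hz, hzx⟩ := hle (habs m x)
    have hzx' := (Submodule.Quotient.eq K1).1 hzx
    have hzP : (z : P') ∈ Ideal.span {(p : 𝕨) ^ m} • (⊤ : Submodule 𝕨 P') := by
      have := Submodule.mem_map_of_mem (f := N1.subtype) hz
      rw [Submodule.map_smul''] at this
      exact Submodule.smul_mono le_rfl le_top this
    have : ω x = (z : P') + -((z : P') - ω x) := by abel
    rw [this]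
    exact Submodule.add_mem_sup hzP (neg_mem hzx')
  obtain ⟨a, ha, b, hb, hab⟩ := Submodule.mem_sup.1 h1
  rw [← hab, map_add, map_add, RingHom.mem_ker.1 (show f j b ∈ RingHom.ker _ from
    apply_mem_of_mem_smul_top hb (f j)), add_zero]
  obtain ⟨c, hc⟩ := Ideal.mem_span_singleton.1 (apply_mem_of_mem_smul_top ha (f j))
  exact ⟨_, by rw [hc, map_mul, map_pow, map_natCast]⟩

/-- Rigidity: a homomorphism out of a display which vanishes modulo `W(𝔞)`, `𝔞` nilpotent, is zero. -/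
theorem rigid (hpn : IsNilpotent (p : R)) (hD : Dieu.IsDisplay D) {𝔞 : Ideal R}
    (h𝔞 : IsNilpotent 𝔞) (ω : P →ₗ[𝕨] P') (hQ : ∀ y, y ∈ D.Q → ω y ∈ D'.Q)
    (hV : ∀ y : D.Q, ω (D.Vinv y) = D'.Vinv ⟨ω y, hQ y y.2⟩)
    (h : ∀ x, ω x ∈ WI (p := p) 𝔞 • (⊤ : Submodule 𝕨 P')) : ω = 0 := by
  obtain ⟨N, hN⟩ := h𝔞
  have key : ∀ j : ℕ, ∀ x, ω x ∈ WI (p := p) (𝔞 ^ 2 ^ j) • (⊤ : Submodule 𝕨 P') := by
    intro j
    induction j with
    | zero => simpa using h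
    | succ j ih =>
      rw [pow_succ, pow_mul]
      exact rigid_step D' (𝔞 ^ 2 ^ j) D hpn hD ω hQ hV ih
  ext x
  have := key N x
  rw [eq_bot_iff.2 ((Ideal.pow_le_pow_right (Nat.lt_two_pow_self).le).trans hN.le), WI_bot,
    Submodule.bot_smul, Submodule.mem_bot] at this
  exact this

end

end Groth.Agent.Lib.Disp.Rigidity
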