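import Groth.Agent.Lib.Disp.Basic
import Mathlib.RingTheory.Nakayama
import Mathlib.Algebra.Module.Torsion.Basic
import Mathlib.LinearAlgebra.Projection
import Mathlib.LinearAlgebra.Dimension.Free
import Mathlib.LinearAlgebra.Dimension.OrzechProperty
import Mathlib.RingTheory.Ideal.Quotient.Basic

/-!
# Existence of `V#`
-/

open WittVector Groth.Agent.Lib.Disp.Witt Groth.Agent.Lib.Disp.Basic
open W4c1extbt610 (IV Display3n IsHom verschiebung_mem_IV)

universe u v

namespace Groth.Agent.Lib.Disp.VSharp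

noncomputable section

variable {p : ℕ} [hp : Fact p.Prime] {R : Type u} [CommRing R]

set_option hygiene false in
local notation "𝕨" => WittVector p R
set_option hygiene false in
local notation "σ" => (WittVector.frobenius : WittVector p R →+* WittVector p R)

variable {P : Type v} [AddCommGroup P] [Module 𝕨 P]

set_option maxHeartbeats 400000 in
theorem injective_of_surjective (hpn : IsNilpotent (p : R)) [Module.Finite 𝕨 P] [Module.Projective 𝕨 P]
    (Φ : Dieu.BC σ P →ₗ[𝕨] P) (hΦ : Function.Surjective Φ) : Function.Injective Φ := by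
  classical
  obtain ⟨s, hs⟩ := Module.projective_lifting_property Φ LinearMap.id hΦ
  let π : Dieu.BC σ P →ₗ[𝕨] Dieu.BC σ P := LinearMap.id - s.comp Φ
  have hπker : ∀ z, Φ z = 0 → π z = z := fun z hz => by simp [π, hz]
  have hker : ∀ z, Φ (π z) = 0 := fun z => by
    have := LinearMap.congr_fun hs (Φ z)
    simp only [LinearMap.comp_apply, LinearMap.id_apply] at this
    simp [π, this]
  obtain ⟨t, ht⟩ := Module.Finite.fg_top (R := 𝕨) (M := P)
  have hfg : (LinearMap.range π).FG := by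
    refine ⟨t.image fun x => π (Dieu.BC.tmul σ 1 x), le_antisymm ?_ ?_⟩
    · rw [Submodule.span_le, Finset.coe_image]
      rintro _ ⟨x, -, rfl⟩
      exact ⟨_, rfl⟩
    · rintro _ ⟨z, rfl⟩
      induction z using Dieu.BC.induction_on σ with
      | zero => rw [map_zero]; exact zero_mem _
      | add a b ha hb => rw [map_add]; exact add_mem ha hb
      | tmul b x =>
        rw [Dieu.BC.tmul_eq_smul_tmul_one, map_smul]
        refine Submodule.smul_mem _ _ ?_
        have hx : x ∈ Submodule.span 𝕨 (t : Set P) := ht ▸ Submodule.mem_top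
        induction hx using Submodule.span_induction with
        | mem y hy => exact Submodule.subset_span (Finset.mem_image_of_mem _ hy)
        | zero => rw [Dieu.BC.tmul_zero, map_zero]; exact zero_mem _
        | add a c _ _ ha hc => rw [Dieu.BC.tmul_add, map_add]; exact add_mem ha hc
        | smul a c _ hc =>
          rw [← Dieu.BC.tmul_mul_apply, one_mul, Dieu.BC.tmul_eq_smul_tmul_one, map_smul]
          exact Submodule.smul_mem _ _ hc
  suffices hrange : LinearMap.range π = ⊥ by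
    refine (injective_iff_map_eq_zero Φ).2 fun z hz => ?_
    have : π z ∈ LinearMap.range π := ⟨z, rfl⟩
    rwa [hπker z hz, hrange, Submodule.mem_bot] at this
  -- modulo every maximal ideal the kernel vanishes
  have hmod : ∀ 𝔐 : Ideal 𝕨, 𝔐.IsMaximal → ∀ z, Φ z = 0 → z ∈ 𝔐 • (⊤ : Submodule 𝕨 (Dieu.BC σ P)) := by
    intro 𝔐 h𝔐 z hz
    let MP : Submodule 𝕨 P := 𝔐 • ⊤
    let _ : Field (𝕨 ⧸ 𝔐) := Ideal.Quotient.field 𝔐
    let Q := P ⧸ (𝔐 • (⊤ : Submodule 𝕨 P))
    have : Module.Finite (𝕨 ⧸ 𝔐) Q := Module.Finite.of_restrictScalars_finite 𝕨 _ _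
    let bq := Module.finBasis (𝕨 ⧸ 𝔐) Q
    choose x hx using fun i => Submodule.Quotient.mk_surjective (𝔐 • (⊤ : Submodule 𝕨 P)) (bq i)
    have hmk : ∀ (c : 𝕨) (y : P), (Submodule.Quotient.mk (c • y) : Q) =
        Ideal.Quotient.mk 𝔐 c • (Submodule.Quotient.mk y : Q) := fun c y => rfl
    have hrep : ∀ y : P, ∃ c : _ → 𝕨, y - ∑ i, c i • x i ∈ 𝔐 • (⊤ : Submodule 𝕨 P) := by
      intro y
      choose c hc using fun i => Ideal.Quotient.mk_surjective (bq.repr (Submodule.Quotient.mk y) i)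
      refine ⟨c, ?_⟩
      rw [← Submodule.Quotient.mk_eq_zero, Submodule.Quotient.mk_sub, sub_eq_zero,
        ← Submodule.mkQ_apply (x := ∑ i, c i • x i), map_sum]
      simp only [Submodule.mkQ_apply, hmk, hc, hx]
      exact (bq.sum_repr _).symm
    have hι : ∀ m ∈ 𝔐 • (⊤ : Submodule 𝕨 P),
        Dieu.BC.ι σ P m ∈ 𝔐 • (⊤ : Submodule 𝕨 (Dieu.BC σ P)) := by
      intro m hm
      refine Submodule.smul_induction_on hm (fun c hc y _ => ?_) fun a b ha hb => by
        rw [map_add]; exact add_mem ha hb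
      rw [map_smulₛₗ]
      exact Submodule.smul_mem_smul (frobenius_mem_maximal hpn 𝔐 hc) Submodule.mem_top
    have hrepBC : ∀ u : Dieu.BC σ P, ∃ c : _ → 𝕨,
        u - ∑ i, c i • Dieu.BC.tmul σ 1 (x i) ∈ 𝔐 • (⊤ : Submodule 𝕨 (Dieu.BC σ P)) := by
      intro u
      induction u using Dieu.BC.induction_on σ with
      | zero => exact ⟨0, by simp⟩
      | add a b ha hb =>
        obtain ⟨c, hc⟩ := ha
        obtain ⟨d, hd⟩ := hb
        refine ⟨c + d, ?_⟩
        have := add_mem hc hd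
        simp only [Pi.add_apply, add_smul, Finset.sum_add_distrib]
        convert this using 1
        abel
      | tmul b y =>
        obtain ⟨c, hc⟩ := hrep y
        refine ⟨fun i => b * σ (c i), ?_⟩
        have := Submodule.smul_mem _ b (hι _ hc)
        convert this using 1
        rw [map_sub, map_sum, smul_sub, Finset.smul_sum]
        congr 1
        · rw [Dieu.BC.ι_apply, ← Dieu.BC.tmul_eq_smul_tmul_one]
        · exact Finset.sum_congr rfl fun i _ => by rw [map_smulₛₗ, smul_smul]; rfl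
    have hΦmem : ∀ u ∈ 𝔐 • (⊤ : Submodule 𝕨 (Dieu.BC σ P)), Φ u ∈ 𝔐 • (⊤ : Submodule 𝕨 P) := by
      intro u hu
      have := Submodule.mem_map_of_mem (f := Φ) hu
      rw [Submodule.map_smul''] at this
      exact Submodule.smul_mono le_rfl le_top this
    let y : _ → Q := fun i => Submodule.Quotient.mk (Φ (Dieu.BC.tmul σ 1 (x i)))
    have hsum : ∀ c : _ → 𝕨, (Submodule.Quotient.mk (Φ (∑ i, c i • Dieu.BC.tmul σ 1 (x i))) : Q) =
        ∑ i, Ideal.Quotient.mk 𝔐 (c i) • y i := by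
      intro c
      rw [← Submodule.mkQ_apply, map_sum, map_sum]
      exact Finset.sum_congr rfl fun i _ => by rw [map_smul, Submodule.mkQ_apply, hmk]
    have hspan : (⊤ : Submodule (𝕨 ⧸ 𝔐) Q) ≤ Submodule.span (𝕨 ⧸ 𝔐) (Set.range y) := by
      intro q _
      obtain ⟨q, rfl⟩ := Submodule.Quotient.mk_surjective (𝔐 • (⊤ : Submodule 𝕨 P)) q
      obtain ⟨u, rfl⟩ := hΦ q
      obtain ⟨c, hc⟩ := hrepBC u
      rw [show (Submodule.Quotient.mk (Φ u) : Q) = Submodule.Quotient.mk (Φ (∑ i, c i • Dieu.BC.tmul σ 1 (x i)))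
        from (Submodule.Quotient.eq _).2 (by rw [← map_sub]; exact hΦmem _ hc), hsum]
      exact Submodule.sum_mem _ fun i _ => Submodule.smul_mem _ _ (Submodule.subset_span ⟨i, rfl⟩)
    have hli := linearIndependent_of_top_le_span_of_card_eq_finrank hspan (Fintype.card_fin _)
    obtain ⟨c, hc⟩ := hrepBC z
    have h0 : ∀ i, Ideal.Quotient.mk 𝔐 (c i) = 0 := by
      refine Fintype.linearIndependent_iff.1 hli _ ?_
      rw [← hsum, Submodule.Quotient.mk_eq_zero]
      have := hΦmem _ hc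
      rw [map_sub, hz, zero_sub] at this
      exact neg_mem_iff.1 this
    have : ∑ i, c i • Dieu.BC.tmul σ 1 (x i) ∈ 𝔐 • (⊤ : Submodule 𝕨 (Dieu.BC σ P)) :=
      Submodule.sum_mem _ fun i _ =>
        Submodule.smul_mem_smul (Ideal.Quotient.eq_zero_iff_mem.1 (h0 i)) Submodule.mem_top
    simpa using add_mem hc this
  -- Nakayama
  have hann : (LinearMap.range π).annihilator = ⊤ := by
    by_contra hne
    obtain ⟨𝔐, h𝔐, hle⟩ := Ideal.exists_le_maximal _ hne
    have hsmul : LinearMap.range π ≤ 𝔐 • LinearMap.range π := by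
      rintro _ ⟨u, rfl⟩
      have h1 := Submodule.mem_map_of_mem (f := π) (hmod 𝔐 h𝔐 (π u) (hker u))
      rw [Submodule.map_smul'', Submodule.map_top, hπker _ (hker u)] at h1
      exact h1
    obtain ⟨r, hr1, hr0⟩ := Submodule.exists_sub_one_mem_and_smul_eq_zero_of_fg_of_le_smul 𝔐 _ hfg hsmul
    have hr : r ∈ 𝔐 := hle (Submodule.mem_annihilator.2 hr0)
    refine h𝔐.ne_top ((Ideal.eq_top_iff_one _).2 ?_)
    simpa using Ideal.sub_mem _ hr hr1
  exact Submodule.annihilator_eq_top_iff.1 hann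

theorem exists_unique_VSharp (hpn : IsNilpotent (p : R)) (D : Display3n p R P) :
    ∃! Vs : P →ₗ[𝕨] Dieu.BC σ P, Dieu.IsVSharp D Vs := by
  have := D.finite
  have := D.projective
  obtain ⟨L, T, hc, hQ⟩ := D.exists_normal
  let πL : P →ₗ[𝕨] P := L.subtype.comp (L.projectionOnto T hc)
  let πT : P →ₗ[𝕨] P := T.subtype.comp (T.projectionOnto L hc.symm)
  have hsum : ∀ x, πL x + πT x = x := fun x => Submodule.projection_add_projection_eq_self hc x
  have hLL : ∀ l ∈ L, πL l = l ∧ πT l = 0 := fun l hl =>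
    ⟨by simp [πL, Submodule.projectionOnto_apply_left _ ⟨l, hl⟩],
      by simp [πT, hl]⟩
  have hTT : ∀ t ∈ T, πL t = 0 ∧ πT t = t := fun t ht =>
    ⟨by simp [πL, ht],
      by simp [πT, Submodule.projectionOnto_apply_left _ ⟨t, ht⟩]⟩
  have hLQ : L ≤ D.Q := le_sup_left.trans hQ.ge
  let φ : P →ₛₗ[σ] P :=
    D.Vinv.comp ((Submodule.inclusion hLQ).comp (L.projectionOnto T hc)) + D.F.comp πT
  have hφL : ∀ (l : P) (hl : l ∈ L), φ l = D.Vinv ⟨l, hLQ hl⟩ := fun l hl => by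
    simp only [φ, LinearMap.add_apply, LinearMap.comp_apply, (hLL l hl).2, map_zero, add_zero]
    congr 1
    exact Subtype.ext (hLL l hl).1
  have hφT : ∀ t ∈ T, φ t = D.F t := fun t ht => by
    simp only [φ, LinearMap.add_apply, LinearMap.comp_apply, (hTT t ht).2]
    rw [show Submodule.inclusion hLQ (L.projectionOnto T hc t) = 0 from Subtype.ext (hTT t ht).1,
      map_zero, zero_add]
  let Φ := Dieu.BC.lift σ φ
  -- preimages of `F x` and `V⁻¹ y`
  let g : P →ₗ[𝕨] P := πL + (p : 𝕨) • πT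
  have hmapg : ∀ (b : 𝕨) (x : P), Dieu.BC.map σ g (Dieu.BC.tmul σ b x) = Dieu.BC.tmul σ b (g x) :=
    fun b x => Dieu.BC.map_tmul _ _ _ _
  have hF : ∀ x, ∃ u, Φ u = D.F x ∧ Dieu.BC.map σ g u = (p : 𝕨) • Dieu.BC.tmul σ 1 x := by
    intro x
    have hl := (L.projectionOnto T hc x).2
    have ht := (T.projectionOnto L hc.symm x).2
    refine ⟨Dieu.BC.tmul σ 1 ((p : 𝕨) • πL x + πT x), ?_, ?_⟩
    · rw [Dieu.BC.lift_tmul, one_smul, map_add, map_smulₛₗ, map_natCast, hφT (πT x) ht, hφL (πL x) hl,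
        ← F_apply_Q]
      change D.F (πL x) + D.F (πT x) = D.F x
      rw [← map_add, hsum]
    · rw [hmapg]
      change Dieu.BC.ι σ P (g _) = (p : 𝕨) • Dieu.BC.ι σ P x
      rw [show g ((p : 𝕨) • πL x + πT x) = (p : 𝕨) • x by
        simp only [g, map_add, map_smul, LinearMap.add_apply, LinearMap.smul_apply]
        rw [show πL (πL x) = πL x from (hLL _ hl).1, show πL (πT x) = 0 from (hTT _ ht).1,
          show πT (πL x) = 0 from (hLL _ hl).2, show πT (πT x) = πT x from (hTT _ ht).2]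
        conv_rhs => rw [← hsum x]
        simp [smul_add], map_smulₛₗ, map_natCast]
  have hVinv : ∀ y (hy : y ∈ D.Q), ∃ u, Φ u = D.Vinv ⟨y, hy⟩ ∧
      Dieu.BC.map σ g u = Dieu.BC.tmul σ 1 y := by
    have hadd : ∀ a b : P, (∀ ha : a ∈ D.Q, ∃ u, Φ u = D.Vinv ⟨a, ha⟩ ∧
          Dieu.BC.map σ g u = Dieu.BC.tmul σ 1 a) →
        (∀ hb : b ∈ D.Q, ∃ u, Φ u = D.Vinv ⟨b, hb⟩ ∧ Dieu.BC.map σ g u = Dieu.BC.tmul σ 1 b) →
        a ∈ D.Q → b ∈ D.Q → ∀ h : a + b ∈ D.Q, ∃ u, Φ u = D.Vinv ⟨a + b, h⟩ ∧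
          Dieu.BC.map σ g u = Dieu.BC.tmul σ 1 (a + b) := by
      intro a b hA hB ha hb h
      obtain ⟨u, hu1, hu2⟩ := hA ha
      obtain ⟨u', hu1', hu2'⟩ := hB hb
      refine ⟨u + u', ?_, by rw [map_add, hu2, hu2', Dieu.BC.tmul_add]⟩
      rw [map_add, hu1, hu1', ← map_add]
      rfl
    intro y hy
    obtain ⟨l, hl, t, ht, rfl⟩ := Submodule.mem_sup.1 (hQ.le hy)
    have htQ : t ∈ D.Q := hQ.ge (Submodule.mem_sup_right ht)
    refine hadd l t (fun h => ⟨Dieu.BC.tmul σ 1 l, ?_, ?_⟩) ?_ (hLQ hl) htQ hy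
    · rw [Dieu.BC.lift_tmul, one_smul, hφL l hl]
    · rw [hmapg, show g l = l by simp [g, hLL l hl]]
    clear hy htQ
    suffices h : t ∈ D.Q ∧ ∀ h : t ∈ D.Q, ∃ u, Φ u = D.Vinv ⟨t, h⟩ ∧
        Dieu.BC.map σ g u = Dieu.BC.tmul σ 1 t from h.2
    refine Submodule.smul_induction_on ht (fun c hc' x hx => ⟨?_, ?_⟩) fun a b hA hB =>
      ⟨add_mem hA.1 hB.1, hadd a b hA.2 hB.2 hA.1 hB.1⟩
    · exact D.IV_smul_le (Submodule.smul_mem_smul hc' Submodule.mem_top)
    · obtain ⟨a, rfl⟩ := exists_eq_verschiebung hc'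
      refine fun h => ⟨Dieu.BC.tmul σ a x, ?_, ?_⟩
      · rw [Dieu.BC.lift_tmul, hφT x hx]
        exact (D.Vinv_verschiebung_smul a x).symm
      · rw [hmapg, show g x = (p : 𝕨) • x by simp [g, hTT x hx], ← Dieu.BC.tmul_mul_apply,
          map_natCast, ← Dieu.BC.tmul_mul_apply σ 1 (verschiebung a), one_mul,
          WittVector.frobenius_verschiebung]
  have hsurj : Function.Surjective Φ := by
    rw [← LinearMap.range_eq_top, eq_top_iff, ← D.span_range_Vinv, Submodule.span_le]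
    rintro _ ⟨⟨y, hy⟩, rfl⟩
    obtain ⟨u, hu, -⟩ := hVinv y hy
    exact ⟨u, hu⟩
  let e := LinearEquiv.ofBijective Φ ⟨injective_of_surjective hpn Φ hsurj, hsurj⟩
  have he : ∀ u, e.symm (Φ u) = u := fun u => e.symm_apply_apply u
  refine ⟨(Dieu.BC.map σ g).comp e.symm.toLinearMap, ⟨fun w x => ?_, fun w y => ?_⟩, fun Vs' h' => ?_⟩
  · obtain ⟨u, hu1, hu2⟩ := hF x
    rw [LinearMap.comp_apply, LinearEquiv.coe_coe, ← hu1, map_smul, he, map_smul, hu2, smul_comm,
      ← Dieu.BC.tmul_eq_smul_tmul_one]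
  · obtain ⟨u, hu1, hu2⟩ := hVinv y y.2
    rw [LinearMap.comp_apply, LinearEquiv.coe_coe, show D.Vinv y = Φ u from hu1.symm, map_smul, he,
      map_smul, hu2, ← Dieu.BC.tmul_eq_smul_tmul_one]
  · refine ext_Vinv D fun y => ?_
    obtain ⟨u, hu1, hu2⟩ := hVinv y y.2
    rw [Vs_Vinv h', LinearMap.comp_apply, LinearEquiv.coe_coe, show D.Vinv y = Φ u from hu1.symm, he,
      hu2]

end

end Groth.Agent.Lib.Disp.VSharp
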